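import Cfsg.Agent.Lib.SDMixed.Cross
import Cfsg.Agent.Lib.SDSquare.Closed

/-!
A dihedral factor: both complements are strongly closed.
-/

set_option autoImplicit false
set_option linter.unusedSectionVars false

namespace CfsgLib.SDMixed

open Cfsg Cfsg.FusionSystem Subgroup CfsgLib.AfterFT.DihedralSquare CfsgLib.SDSquare

universe u
variable {G : Type u} [Group G] [Finite G] {P : Sylow 2 G} {q : Half (P : Subgroup G)} {E : Subgroup G} {u : G}

theorem Twist.ext_T (tw : Twist q) {a b : G} (ha : a ∈ tw.T) (hb : b ∈ tw.T) (h : q.pr a = q.pr b) : a = b :=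
  q.ext ha.1 hb.1 h (by rw [ha.2, hb.2, h])

theorem Twist.mem_of_Za (tw : Twist q) {a : G} (ha : a ∈ q.a.Z) : a ∈ tw.T := by
  have hD := q.a.X_le (q.a.Z_le ha)
  exact ⟨q.aD_le hD, by rw [q.pr'_of_mem hD, q.pr_of_mem hD, tw.zeta_Z ha]⟩

theorem Twist.c_mem (tw : Twist q) : q.a.c ∈ tw.T := by
  have hD := q.a.X_le q.a.c_mem_X
  exact ⟨q.aD_le hD, by rw [q.pr'_of_mem hD, q.pr_of_mem hD, tw.zeta_sq_part q.a.c_mem_Qm q.a.c_mem_Dm]⟩

namespace TypeV

variable (h : TypeV q E u) (tw : Twist q)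
include h

theorem w_mem_T {g : G} (hg : g ∈ normalizer (E : Set G)) : g * q.a.z * g⁻¹ ∈ tw.T := by
  obtain ⟨hw, hw'⟩ := h.w_props hg
  have hwE := (mem_cen.mp hw).1
  have hwP := h.le hwE
  by_cases hm : h.fork.Moved g
  · refine ⟨hwP, ?_⟩
    rw [tw.hV E u h g hg hm, tw.zeta_refl ⟨q.pr_mem hwP, (h.moved_iff hg).mp hm⟩ (h.four.props hwE).1]
  · have hh : Eqv q.ZB q.a.z (g * q.a.z * g⁻¹) := not_not.mp hm
    have := h.centre_eq (g := 1) (one_mem _) hg (by simpa using hh)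
    rw [← this]
    simpa using tw.mem_of_Za (mem_zpowers q.a.z)

theorem keep_T {n a : G} (hn : n ∈ normalizer (E : Set G)) (ha : a ∈ E) (haT : a ∈ tw.T) :
    n * a * n⁻¹ ∈ tw.T := by
  obtain ⟨g₀, hg₀, hm₀⟩ := h.fork.exists_moved
  set w := g₀ * q.a.z * g₀⁻¹ with hw
  have hwT : w ∈ tw.T := h.w_mem_T tw hg₀
  have hwE : w ∈ E := (mem_cen.mp (h.w_props hg₀).1).1
  have hzT : q.a.z ∈ tw.T := tw.mem_of_Za (mem_zpowers _)
  have nz : n * q.a.z * n⁻¹ ∈ tw.T := h.w_mem_T tw hn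
  have nw : n * w * n⁻¹ ∈ tw.T := by
    have := h.w_mem_T tw (mul_mem hn hg₀)
    rwa [show n * g₀ * q.a.z * (n * g₀)⁻¹ = n * w * n⁻¹ by rw [hw]; group] at this
  -- two generators
  suffices a ∈ zpowers q.a.z ⊔ zpowers w from
    (show zpowers q.a.z ⊔ zpowers w ≤ tw.T.comap (MulAut.conj n).toMonoidHom from
      sup_le (zpowers_le.mpr nz) (zpowers_le.mpr nw)) this
  rcases h.four.range a ha with hz | hz
  · have : a = q.pr a := tw.ext_T haT (tw.mem_of_Za hz) (q.pr_of_mem (q.a.X_le (q.a.Z_le hz))).symm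
    rw [this]; exact mem_sup_left hz
  · have hwr : u⁻¹ * q.pr w ∈ q.a.Z :=
      (h.four.range w hwE).resolve_left fun hh => (h.moved_iff hg₀).mp hm₀ (q.a.Z_le hh)
    have hd : (q.pr w)⁻¹ * q.pr a ∈ q.a.Z := by
      have := mul_mem (inv_mem hwr) hz
      rwa [mul_inv_rev, inv_inv, mul_assoc, mul_inv_cancel_left] at this
    have : a = w * ((q.pr w)⁻¹ * q.pr a) := by
      refine tw.ext_T haT (mul_mem hwT (tw.mem_of_Za hd)) ?_
      rw [q.pr_mul hwT.1 (tw.mem_of_Za hd).1, q.pr_of_mem (q.a.X_le (q.a.Z_le hd))]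
      group
    rw [this]; exact mul_mem (mem_sup_right (mem_zpowers w)) (mem_sup_left hd)

end TypeV

namespace TypeQ

variable (h : TypeQ q E u) (tw : Twist q)
include h

theorem w_mem_T {g : G} (hg : g ∈ normalizer (E : Set G)) : g * q.a.c * g⁻¹ ∈ tw.T := by
  obtain ⟨hw, hw'⟩ := h.w_props hg
  have hwE : g * q.a.c * g⁻¹ ∈ E := hw.1
  have hwP := h.le hwE
  refine ⟨hwP, ?_⟩
  by_cases hm : h.fork.Moved g
  · have hX := (h.moved_iff hg).mp hm
    rw [tw.hQ E u h g hg hm, tw.zeta_quat ⟨q.pr_mem hwP, hX⟩ ((h.eight.off_sq h.le hwE hX).trans h.sq)]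
  · have hh : Eqv (cen E) q.a.c (g * q.a.c * g⁻¹) := not_not.mp hm
    have h1 := h.centre_eq (g₀ := 1) (one_mem _) hg (by simpa using hh)
    have hX : q.pr (g * q.a.c * g⁻¹) ∈ q.a.X := by
      by_contra hX
      exact (h.moved_iff hg).mpr hX hh
    have hc := h.eight.rot_range' hwE hX
    rw [← h1, one_mul, inv_one, mul_one, q.pr'_of_mem (q.a.X_le q.a.c_mem_X),
      tw.zeta_sq_part (zpowers_le.mpr q.a.c_mem_Qm hc) (zpowers_le.mpr q.a.c_mem_Dm hc)]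

theorem keep_T {n a : G} (hn : n ∈ normalizer (E : Set G)) (ha : a ∈ E) (haT : a ∈ tw.T) :
    n * a * n⁻¹ ∈ tw.T := by
  obtain ⟨g₀, hg₀, hm₀⟩ := h.fork.exists_moved
  set w := g₀ * q.a.c * g₀⁻¹ with hw
  have hwT : w ∈ tw.T := h.w_mem_T tw hg₀
  have hwE : w ∈ E := (h.w_props hg₀).1.1
  have nc : n * q.a.c * n⁻¹ ∈ tw.T := h.w_mem_T tw hn
  have nw : n * w * n⁻¹ ∈ tw.T := by
    have := h.w_mem_T tw (mul_mem hn hg₀)
    rwa [show n * g₀ * q.a.c * (n * g₀)⁻¹ = n * w * n⁻¹ by rw [hw]; group] at this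
  suffices a ∈ zpowers q.a.c ⊔ zpowers w from
    (show zpowers q.a.c ⊔ zpowers w ≤ tw.T.comap (MulAut.conj n).toMonoidHom from
      sup_le (zpowers_le.mpr nc) (zpowers_le.mpr nw)) this
  have hcT : zpowers q.a.c ≤ tw.T := zpowers_le.mpr tw.c_mem
  have hcX : zpowers q.a.c ≤ q.a.D := zpowers_le.mpr (q.a.X_le q.a.c_mem_X)
  rcases h.eight.range a ha with hz | hz
  · have : a = q.pr a := tw.ext_T haT (hcT hz) (q.pr_of_mem (hcX hz)).symm
    rw [this]; exact mem_sup_left hz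
  · have hwr := h.eight.off_range hwE ((h.moved_iff hg₀).mp hm₀)
    have hd : (q.pr w)⁻¹ * q.pr a ∈ zpowers q.a.c := by
      have := mul_mem (inv_mem hwr) hz
      rwa [mul_inv_rev, inv_inv, mul_assoc, mul_inv_cancel_left] at this
    have : a = w * ((q.pr w)⁻¹ * q.pr a) := by
      refine tw.ext_T haT (mul_mem hwT (hcT hd)) ?_
      rw [q.pr_mul hwT.1 (hcT hd).1, q.pr_of_mem (hcX hd)]
      group
    rw [this]; exact mul_mem (mem_sup_right (mem_zpowers w)) (mem_sup_left hd)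

/-- The conjugate transvection centralises the other factor. -/
theorem cent_B {g : G} (hg : g ∈ normalizer (E : Set G)) :
    ∀ b ∈ q.B, g * q.a.rt * g⁻¹ * b = b * (g * q.a.rt * g⁻¹) := by
  intro b hb
  have hz : q.pr b ∈ q.a.Z := by rw [q.pr_of_mem_b hb]; exact one_mem _
  have hbE : b ∈ E := h.bD hb
  have hin : g⁻¹ * b * g ∈ invCC E := by
    have := h.inv_CC.conj g⁻¹ (inv_mem hg) b ((h.mem_CC hbE).mpr hz)
    rwa [inv_inv] at this
  have hinE : g⁻¹ * b * g ∈ E := hin.1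
  have := h.eight.rt_fix h.le hinE (q.a.Z_le ((h.mem_CC hinE).mp hin))
  calc g * q.a.rt * g⁻¹ * b = g * (q.a.rt * (g⁻¹ * b * g)) * g⁻¹ := by group
    _ = b * (g * q.a.rt * g⁻¹) := by rw [this]; group

end TypeQ

variable {fr : Frame (P : Subgroup G)} {a : SDGen G} {hQ : fr.Q = a.D}

/-- The transvections of the dihedral side centralise the twisted complement. -/
theorem cent_T (hres : Cfsg.pResidual 2 G = ⊤) (tw : Twist (dihHalf fr a hQ)) {t g : G} (h : Typical fr E t)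
    (hg : g ∈ normalizer (E : Set G)) (hr : fr.IsRefl (fr.pr (MulAut.conj g fr.z))) :
    ∀ b ∈ tw.T, g * fr.x * g⁻¹ * b = b * (g * fr.x * g⁻¹) := by
  let q := dihHalf fr a hQ
  have cx : Ctx q := dih_ctx fr a hQ
  obtain ⟨E₁, v₁, h₁⟩ := cx.exists_typeV hres
  obtain ⟨E₂, v₂, h₂⟩ := cx.exists_typeQ hres
  obtain ⟨g₁, hg₁, m₁⟩ := h₁.fork.exists_moved
  obtain ⟨g₂, hg₂, m₂⟩ := h₂.fork.exists_moved
  set k := g * fr.x * g⁻¹ with hk
  set w₁ := g₁ * a.z * g₁⁻¹ with hw₁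
  set w₂ := g₂ * a.c * g₂⁻¹ with hw₂
  have hc₁ : k * w₁ = w₁ * k := mul_inv_eq_iff_eq_mul.mp (cross_refl h₁ h hg₁ hg m₁ hr).2
  have hc₂ : k * w₂ = w₂ * k := cross_quat h h₂ hg hg₂ hr m₂
  have hT₁ : w₁ ∈ tw.T := h₁.w_mem_T tw hg₁
  have hP₁ : w₁ ∈ (P : Subgroup G) := hT₁.1
  have hE₁ : w₁ ∈ E₁ := (mem_cen.mp (h₁.w_props hg₁).1).1
  have hw₁off : a.Off (q.pr w₁) := ⟨q.pr_mem hP₁, (h₁.moved_iff hg₁).mp m₁⟩
  have hw₁cls : q.pr w₁ ∈ a.Dm ∧ q.pr w₁ ∉ a.Qm := a.refl_mem hw₁off (h₁.four.props hE₁).1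
  have hE₂ : w₂ ∈ E₂ := (h₂.w_props hg₂).1.1
  have hP₂ : w₂ ∈ (P : Subgroup G) := h₂.le hE₂
  have hn₂ : q.pr w₂ ∉ a.X := (h₂.moved_iff hg₂).mp m₂
  have hw₂cls : q.pr w₂ ∈ a.Qm ∧ q.pr w₂ ∉ a.Dm :=
    a.quat_mem ⟨q.pr_mem hP₂, hn₂⟩ ((h₂.eight.off_sq h₂.le hE₂ hn₂).trans h₂.sq)
  have hT₂ : w₂ ∈ tw.T := h₂.w_mem_T tw hg₂
  -- even rotations
  have heven : ∀ b ∈ tw.T, q.pr b ∈ a.Dm → q.pr b ∈ a.Qm → k * b = b * k := by
    intro b hb h1 h2
    have hp : q.pr' b = 1 := (hb.2 : q.pr' b = _).trans (tw.zeta_sq_part h2 h1)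
    have hb' : b = q.pr b := by
      conv_lhs => rw [← q.split hb.1, hp, mul_one]
    have hX : q.pr b ∈ a.X := by
      by_contra hX
      rcases a.off_cases ⟨q.pr_mem hb.1, hX⟩ with ⟨-, -, e⟩ | ⟨-, -, e⟩
      exacts [e h2, e h1]
    obtain ⟨i, hi⟩ := a.mem_Dm.mp h1
    rcases hi with hi | hi
    · have hrE : a.x ^ i ∈ E := h.Q_le (hQ ▸ a.X_le (a.zpow_mem_X i))
      have e : b = a.x ^ i * a.x ^ i := by rw [hb', hi, ← zpow_add]; congr 1; ring
      rw [e]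
      exact mul_inv_eq_iff_eq_mul.mp (h.pr_conj_refl_z hg hrE)
    · exact absurd (hi ▸ hX) (a.xy_notMem _)
  have cancel : ∀ {b c : G}, k * c = c * k → k * (c * b) = c * b * k → k * b = b * k := by
    intro b c hc hcb
    exact mul_left_cancel (a := c) (by rw [← mul_assoc, ← hc, mul_assoc, hcb, mul_assoc])
  have hDm : ∀ b ∈ tw.T, q.pr b ∈ a.Qm → k * b = b * k := by
    intro b hb h2
    by_cases h1 : q.pr b ∈ a.Dm
    · exact heven b hb h1 h2
    · refine cancel hc₂ (heven _ (mul_mem hT₂ hb) ?_ ?_) <;> rw [q.pr_mul hP₂ hb.1]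
      · exact a.mul_mem_Dm (q.pr_mem hP₂) (q.pr_mem hb.1) hw₂cls.2 h1
      · exact mul_mem hw₂cls.1 h2
  intro b hb
  by_cases h2 : q.pr b ∈ a.Qm
  · exact hDm b hb h2
  · refine cancel hc₁ (hDm _ (mul_mem hT₁ hb) ?_)
    rw [q.pr_mul hP₁ hb.1]
    exact a.mul_mem_Qm (q.pr_mem hP₁) (q.pr_mem hb.1) hw₁cls.2 h2

/-- **Both complements are strongly closed.** -/
theorem strongly_closed (hres : Cfsg.pResidual 2 G = ⊤) (hsub : fr.Movers ⊆ fr.D)
    (hgen : fr.D ≤ closure fr.Movers) (tw : Twist (dihHalf fr a hQ)) :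
    IsStronglyClosed tw.T (P : Subgroup G) ∧ IsStronglyClosed fr.D (P : Subgroup G) := by
  haveI : Fact (Nat.Prime 2) := ⟨Nat.prime_two⟩
  let q := dihHalf fr a hQ
  let Rel := Preserve tw.T fr.D
  have hsymm : ∀ {b c}, Rel b c → Rel c b := fun h => ⟨h.1.symm, h.2.symm⟩
  have htrans : ∀ {b c d}, Rel b c → Rel c d → Rel b d := fun h h' => ⟨h.1.trans h'.1, h.2.trans h'.2⟩
  have hinner : ∀ s ∈ (P : Subgroup G), ∀ b ∈ (P : Subgroup G), Rel b (s * b * s⁻¹) := by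
    intro s hs b _
    constructor <;> constructor <;> intro h
    · exact tw.conj_T hs h
    · simpa [mul_assoc] using tw.conj_T (P.inv_mem hs) h
    · exact fr.conj_mem_D hs h
    · simpa [mul_assoc] using fr.conj_mem_D (P.inv_mem hs) h
  have step : ∀ {E L₀ L₁ : Subgroup G} {x a₀ : G} (F : Fork P E L₀ L₁ x a₀),
      (∀ g ∈ normalizer (E : Set G), F.Moved g →
        Keep E tw.T (g * x * g⁻¹) ∧ Keep E fr.D (g * x * g⁻¹)) →
      ∀ g (hg : g ∈ normalizer (E : Set G)), conjAut hg ∈ extendableAut (groupFusionSystem (P : Subgroup G)) E ∨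
        ∃ d, ∃ hd : d ∈ normalizer (E : Set G),
          conjAut hd ∈ extendableAut (groupFusionSystem (P : Subgroup G)) E ∧
          ∀ a ∈ E, Rel a ((g * d⁻¹) * a * (g * d⁻¹)⁻¹) := by
    intro E L₀ L₁ x a₀ F hk g hg
    rcases F.extend_or hg with h1 | ⟨hm, hd, he⟩
    · exact Or.inl h1
    refine Or.inr ⟨_, hd, he, fun a ha => ?_⟩
    obtain ⟨k1, k2⟩ := hk g hg hm
    set k := g * x * g⁻¹ with hk'
    have hkN : k ∈ normalizer (E : Set G) := F.conjN hg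
    set b := k⁻¹ * a * k with hb
    have hbE : b ∈ E := (mem_normalizer_iff''.mp hkN a).mp ha
    have e : k * b * k⁻¹ = a := by rw [hb]; group
    have r1 : Rel b a := by
      refine ⟨?_, ?_⟩
      · have := k1 b hbE; rwa [e] at this
      · have := k2 b hbE; rwa [e] at this
    have r2 := hinner x⁻¹ (P.inv_mem F.xN.1) b (F.ess.1.1 hbE)
    have e2 : g * (k * x * g)⁻¹ * a * (g * (k * x * g)⁻¹)⁻¹ = x⁻¹ * b * x⁻¹⁻¹ := by rw [hb]; group
    rw [e2]
    exact htrans (hsymm r1) r2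
  have key : ∀ b ∈ (P : Subgroup G), ∀ g : G, g * b * g⁻¹ ∈ (P : Subgroup G) → Rel b (g * b * g⁻¹) := by
    intro b hb g hgb
    refine rel_of_alperin Rel hsymm htrans hinner (fun g hg b hb => rel_normalizer (Rel := Rel) htrans hinner
      (fun g hg ho b hb => by rw [odd_central fr a hQ hg ho hb]; exact ⟨Iff.rfl, Iff.rfl⟩) hg hb)
      (fun E hE => ?_) hb hgb
    rcases classify fr a hQ hE with ⟨u, h | h⟩ | ⟨t, h⟩
    · refine step h.fork fun g hg hm => ⟨Keep.of_le (fun n hn c hc => h.keep_T tw hn hc) (h.fork.conjN hg),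
        Keep.of_cent fun c hc => ?_⟩
      have hle : closure fr.Movers ≤ centralizer {g * q.a.c * g⁻¹} := by
        refine (closure_le _).mpr fun w hw => ?_
        obtain ⟨E', t', g', h', hg', rfl, hr', -⟩ := fr.movers_spec hw
        exact mem_centralizer_singleton_iff.mpr
          (mul_inv_eq_iff_eq_mul.mp (cross_refl h h' hg hg' hm hr').1).symm
      exact (mem_centralizer_singleton_iff.mp (hle (hgen hc))).symm
    · exact step h.fork fun g hg _ => ⟨Keep.of_le (fun n hn c hc => h.keep_T tw hn hc) (h.fork.conjN hg),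
        Keep.of_cent (h.cent_B hg)⟩
    · intro g hg
      refine h.alperin_step Rel hsymm htrans hinner (fun g hg hr _ c hc => ⟨?_, ?_⟩) g hg
      · exact Keep.of_cent (E := E) (cent_T hres tw h hg hr) c hc
      · rcases h.trans_conj hg c hc with e | e <;> rw [e]
        exact (fr.D.mul_mem_cancel_right (hsub (fr.mem_movers h hg hr))).symm
  exact ⟨⟨tw.T_le, fun b hb g hgb => (key b (tw.T_le hb) g hgb).1.mp hb⟩,
    ⟨fr.D_le, fun b hb g hgb => (key b (fr.D_le hb) g hgb).2.mp hb⟩⟩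

/-- **A dihedral times semidihedral Sylow subgroup has strongly closed complements.** -/
theorem exists_closed_dihedral (hres : Cfsg.pResidual 2 G = ⊤) {S₁ : Subgroup G} (a : SDGen G)
    (hS : IsInternalDirectProduct S₁ a.D (P : Subgroup G)) {l : ℕ} (hl : 0 < l)
    (e : S₁ ≃* DihedralGroup (4 * l)) :
    ∃ T₁ T₂ : Subgroup G, IsInternalDirectProduct T₁ T₂ (P : Subgroup G) ∧ IsStronglyClosed T₁ (P : Subgroup G) ∧
      IsStronglyClosed T₂ (P : Subgroup G) ∧ Nonempty (T₁ ≃* S₁) ∧ Nonempty (T₂ ≃* a.D) := by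
  obtain ⟨fr₀, hfD, hfQ, -⟩ := exists_frame hS hl e
  obtain ⟨fr, hQ, hsub, hgen, ⟨e₁⟩⟩ := exists_straight fr₀ a hfQ hres
  obtain ⟨tw⟩ := (dih_ctx fr a hQ).exists_twist hres
  obtain ⟨hT, hD⟩ := strongly_closed hres hsub hgen tw
  exact ⟨fr.D, tw.T, isInternalDirectProduct_symm tw.product, hD, hT,
    ⟨e₁.trans (MulEquiv.subgroupCongr hfD)⟩, ⟨tw.equiv⟩⟩

end CfsgLib.SDMixed
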