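import Cfsg.Agent.Lib.SDMixed.Squares
import Cfsg.Agent.Lib.SDSquare.Cross

/-!
A dihedral factor: the conjugate transvections of each side fix the movers of the other.
-/

set_option autoImplicit false
set_option linter.unusedSectionVars false

namespace CfsgLib.SDMixed

open Cfsg Cfsg.FusionSystem Subgroup CfsgLib.AfterFT.DihedralSquare CfsgLib.SDSquare

universe u
variable {G : Type u} [Group G] [Finite G] {P : Sylow 2 G} {E E' : Subgroup G} {fr : Frame (P : Subgroup G)}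
variable {a : SDGen G} {hQ : fr.Q = a.D}

/-- The moved centres of a typical subgroup have central semidihedral projection. -/
theorem typical_pr (hQ : fr.Q = a.D) {t g : G} (h : Typical fr E t) (hg : g ∈ normalizer (E : Set G)) :
    (dihHalf fr a hQ).pr (MulAut.conj g fr.z) ∈ a.Z := by
  set q := dihHalf fr a hQ
  have hwU := omegaZ_conj hg h.z_mem_U
  have hwP := h.le hwU.1
  have hc : ∀ d ∈ a.D, q.pr (MulAut.conj g fr.z) * d = d * q.pr (MulAut.conj g fr.z) := fun d hd => by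
    have hdP := q.aD_le hd
    have := q.pr_commute hwP hdP (hwU.2.2 d (h.Q_le (hQ ▸ hd)))
    rwa [q.pr_of_mem hd] at this
  exact a.off_comm_rot a.off_y (a.c_comm_mem (q.pr_mem hwP) (hc _ (a.X_le a.c_mem_X)).symm) (hc _ a.off_y.1)

theorem centreD_inV {t d : G} (hd : d ∈ fr.centreD) : fr.InV t d := by
  rcases fr.mem_centreD.mp hd with e | e
  exacts [Or.inl e, Or.inr (Or.inl e)]

theorem trans_norm_inf {k w : G} (hT : IsTrans E k w) (hw : w ∈ E ⊓ E') :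
    k ∈ normalizer ((E ⊓ E' : Subgroup G) : Set G) := by
  refine mem_normalizer_fintype fun b hb => ?_
  rcases hT b hb.1 with e | e <;> rw [MulAut.conj_apply] at e <;> rw [e]
  · exact hb
  · exact mul_mem hb hw

/-- **The transvections of both sides fix the involutory movers of the other.** -/
theorem cross_refl {u t g g' : G} (h : TypeV (dihHalf fr a hQ) E u) (h' : Typical fr E' t)
    (hg : g ∈ normalizer (E : Set G)) (hg' : g' ∈ normalizer (E' : Set G)) (hm : h.fork.Moved g)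
    (hr' : fr.IsRefl (fr.pr (MulAut.conj g' fr.z))) :
    MulAut.conj (g * a.c * g⁻¹) (MulAut.conj g' fr.z) = MulAut.conj g' fr.z ∧
      MulAut.conj (g' * fr.x * g'⁻¹) (g * a.z * g⁻¹) = g * a.z * g⁻¹ := by
  set q := dihHalf fr a hQ with hq
  have hES := h.le
  have hp : ∀ {b}, b ∈ (P : Subgroup G) → q.pr' b = fr.pr b := fun hb => dihHalf_pr' fr a hQ hb
  set w := g * a.z * g⁻¹ with hw
  set w' := MulAut.conj g' fr.z with hw'
  set k := g * a.c * g⁻¹ with hk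
  set l := g' * fr.x * g'⁻¹ with hl
  have hw00 : w ∈ cen E ∧ q.pr' w ∈ q.ZB := h.w_props hg
  obtain ⟨hwc, hwb⟩ := hw00
  have hwU' := omegaZ_conj hg' h'.z_mem_U
  have hwa' : q.pr w' ∈ a.Z := typical_pr hQ h' hg'
  have hwE : w ∈ E := (mem_cen.mp hwc).1
  have hwP : w ∈ (P : Subgroup G) := hES hwE
  have hwE' : w' ∈ E' := hwU'.1
  have mem' : ∀ b ∈ E, q.pr' b ∈ fr.centreD → b ∈ E' := fun b hb hz =>
    (h'.mem b).mpr ⟨hES hb, centreD_inV (by rwa [← hp (hES hb)])⟩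
  have mem : ∀ b ∈ E', q.pr b ∈ a.Z → b ∈ E := fun b hb hz => h.mem_iff.mpr ⟨h'.le hb, Or.inl hz⟩
  set A := E ⊓ E' with hA
  have hAP : A ≤ (P : Subgroup G) := inf_le_left.trans hES
  have hA2 : ∀ b ∈ A, b * b = 1 := by
    rintro b ⟨hb, hb'⟩
    refine q.ext (P.mul_mem (hES hb) (hES hb)) P.one_mem ?_ ?_
    · rw [q.pr_sq (hES hb), (h.four.props hb).1, q.pr_one]
    · rw [q.pr'_sq (hES hb), hp (hES hb), fr.inV_sq h'.refl ((h'.mem b).mp hb').2, q.pr'_one]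
  have hAc : ∀ x ∈ A, ∀ y ∈ A, x * y = y * x := fun x hx y hy => by
    have e : ∀ c ∈ A, c⁻¹ = c := fun c hc => inv_eq_of_mul_eq_one_left (hA2 c hc)
    have := e _ (A.mul_mem hx hy)
    rw [mul_inv_rev, e x hx, e y hy] at this
    exact this.symm
  have hNS := noSwap_elementary fr a hQ hAP hA2
  have hwA : w ∈ A := ⟨hwE, mem' w hwE hwb⟩
  have hwA' : w' ∈ A := ⟨mem w' hwE' hwa', hwE'⟩
  have hzaE : a.z ∈ E := za_memE q h.ess
  have hza : a.z ∈ A := ⟨hzaE, mem' _ hzaE (by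
    rw [show q.pr' a.z = 1 from q.pr'_of_mem (a.X_le a.z_mem_X)]; exact one_mem _)⟩
  have hkT0 : IsTrans E k w := h.k_trans hg
  have hkN : k ∈ normalizer (A : Set G) := trans_norm_inf hkT0 hwA
  have hlN : l ∈ normalizer (A : Set G) := by
    have := trans_norm_inf (E' := E) (h'.trans_conj hg') ⟨hwA'.2, hwA'.1⟩
    rwa [inf_comm] at this
  have hxN : a.c ∈ normalizer (A : Set G) := trans_norm_inf (h.four.c_trans h.ess) hza
  have hkT : IsTrans A k w := fun b hb => hkT0 b hb.1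
  have hlT : IsTrans A l w' := fun b hb => h'.trans_conj hg' b hb.2
  have hxz : MulAut.conj a.c a.z = a.z := c_fix_za q
  have hkw : MulAut.conj k w = w := by
    rw [MulAut.conj_apply, hk, hw]
    have := hxz
    rw [MulAut.conj_apply] at this
    calc g * a.c * g⁻¹ * (g * a.z * g⁻¹) * (g * a.c * g⁻¹)⁻¹ = g * (a.c * a.z * a.c⁻¹) * g⁻¹ := by group
      _ = g * a.z * g⁻¹ := by rw [this]
  have hlw' : MulAut.conj l w' = w' := h'.conj_fix
  have hwne : w ≠ 1 := fun e => a.z_ne_one (conj_eq_one_iff.mp e)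
  have hw'ne : w' ≠ 1 := h'.w_ne_one g'
  have hprw : q.pr w ∉ a.X := (h.moved_iff hg).mp hm
  have hxw : MulAut.conj a.c w = w * a.z := by
    have hT := h.four.c_trans h.ess w hwE
    refine hT.resolve_left fun e => ?_
    rw [MulAut.conj_apply, mul_inv_eq_iff_eq_mul] at e
    have := q.pr_commute (q.aD_le (a.X_le a.c_mem_X)) hwP e
    rw [show q.pr a.c = a.c from q.pr_of_mem (a.X_le a.c_mem_X)] at this
    exact hprw (a.c_comm_mem (q.pr_mem hwP) this)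
  have hka : ∃ b ∈ A, MulAut.conj k b = b * w := by
    refine ⟨g * u * g⁻¹, ⟨(mem_normalizer_iff.mp hg u).mp h.four.mem, ?_⟩, ?_⟩
    · have hc := inv_cen.conj g hg u h.u_cen
      exact mem' _ (mem_cen.mp hc).1 ((h.mem_cen_iff (mem_cen.mp hc).1).mp hc)
    · have hcu : MulAut.conj a.c u = u * a.z := h.four.c_u h.ess
      rw [MulAut.conj_apply] at hcu ⊢
      calc g * a.c * g⁻¹ * (g * u * g⁻¹) * (g * a.c * g⁻¹)⁻¹ = g * (a.c * u * a.c⁻¹) * g⁻¹ := by group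
        _ = g * u * g⁻¹ * (g * a.z * g⁻¹) := by rw [hcu]; group
  have hla : ∃ b ∈ A, MulAut.conj l b = b * w' := by
    obtain ⟨htU, hte⟩ := h'.conj_moves hg'
    refine ⟨_, ⟨mem _ htU.1 ?_, htU.1⟩, hte⟩
    have htP := h'.le htU.1
    have hc : ∀ d ∈ a.D, q.pr (MulAut.conj g' t) * d = d * q.pr (MulAut.conj g' t) := fun d hd => by
      have hdP := q.aD_le hd
      have := q.pr_commute htP hdP (htU.2.2 d (h'.Q_le (hQ ▸ hd)))
      rwa [q.pr_of_mem hd] at this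
    exact a.off_comm_rot a.off_y (a.c_comm_mem (q.pr_mem htP) (hc _ (a.X_le a.c_mem_X)).symm) (hc _ a.off_y.1)
  have hkz : MulAut.conj k a.z = a.z * w := by
    refine (hkT a.z hza).resolve_left fun e => ?_
    exact a.z_ne_one (both_or_none hNS hkN hxN hwA hza (hA2 w hwA) a.z_mul_z hAc
      (fun b hb => h.four.c_trans h.ess b hb.1) hkw hxz hka hxw e)
  have hlz : MulAut.conj l a.z = a.z := by
    rw [← a.c_mul_c]
    exact h'.pr_conj_refl_z hg' (h'.Q_le (hQ ▸ a.X_le a.c_mem_X))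
  have hxw' : MulAut.conj a.c w' = w' := by
    rw [MulAut.conj_apply, mul_inv_eq_iff_eq_mul]
    refine (q.commute_iff_pr (a.X_le a.c_mem_X) (h'.le hwE')).mpr ?_
    exact (a.Z_comm (a.X_le a.c_mem_X) hwa').symm
  have hkw' : MulAut.conj k w' = w' := by
    by_contra hne
    have hkw' : MulAut.conj k w' = w' * w := (hkT w' hwA').resolve_left hne
    rcases hlT w hwA with e | e
    · exact hwne (both_or_none hNS hlN hkN hwA' hwA (hA2 w' hwA') (hA2 w hwA) hAc hkT hlw' hkw hla hkw' e)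
    · have := no_chain hNS hxN hkN hlN hza hwA' hwA a.z_mul_z (hA2 w hwA) (hA2 w' hwA') hAc hxz hxw' hxw
        hkw hkz hkw' hlz hlw' e
      rw [← this, fr.pr_of_mem_Q (hQ ▸ a.X_le a.z_mem_X)] at hr'
      exact hr'.2 (one_mem _)
  refine ⟨hkw', (hlT w hwA).resolve_right fun e => ?_⟩
  exact hw'ne (both_or_none hNS hkN hlN hwA hwA' (hA2 w hwA) (hA2 w' hwA') hAc hlT hkw hlw' hka e hkw')

/-- **The transvections of the dihedral side fix the quaternion movers.** -/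
theorem cross_quat {v t g g' : G} (h : Typical fr E t) (h' : TypeQ (dihHalf fr a hQ) E' v)
    (hg : g ∈ normalizer (E : Set G)) (hg' : g' ∈ normalizer (E' : Set G))
    (hr : fr.IsRefl (fr.pr (MulAut.conj g fr.z))) (hm' : h'.fork.Moved g') :
    g * fr.x * g⁻¹ * (g' * a.c * g'⁻¹) = g' * a.c * g'⁻¹ * (g * fr.x * g⁻¹) := by
  haveI : Fact (Nat.Prime 2) := ⟨Nat.prime_two⟩
  set q := dihHalf fr a hQ with hq
  have hES := h.le
  have hpB : ∀ {b}, b ∈ (P : Subgroup G) → q.pr' b = fr.pr b := fun hb => dihHalf_pr' fr a hQ hb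
  set w := g * fr.z * g⁻¹ with hw
  set ρ := g' * a.c * g'⁻¹ with hρ
  set k := g * fr.x * g⁻¹ with hk
  set l := g' * a.rt * g'⁻¹ with hl
  have hwU : w ∈ omegaZ E := omegaZ_conj hg h.z_mem_U
  have hρ00 : ρ ∈ invC E' ∧ q.pr' ρ ∈ q.ZB := h'.w_props hg'
  obtain ⟨hρC, hρa⟩ := hρ00
  have hwb : q.pr w ∈ a.Z := typical_pr hQ h hg
  have hwE : w ∈ E := hwU.1
  have hρE' : ρ ∈ E' := hρC.1
  have hwE' : w ∈ E' := h'.mem_iff.mpr ⟨hES hwE, Or.inl (a.Z_le_c hwb)⟩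
  have hρE : ρ ∈ E := (h.mem ρ).mpr ⟨h'.le hρE', centreD_inV (by rw [← hpB (h'.le hρE')]; exact hρa)⟩
  have hcb := a.X_le a.c_mem_X
  have hcbE : a.c ∈ E := h.Q_le (hQ ▸ hcb)
  have hcbE' : a.c ∈ E' := h'.eight.c_mem
  set F := E ⊓ E' with hF
  have hkT : IsTrans E k w := h.trans_conj hg
  have hkF : k ∈ normalizer (F : Set G) := trans_norm_inf hkT ⟨hwE, hwE'⟩
  have hlN : l ∈ normalizer (E' : Set G) := h'.fork.conjN hg'
  have hlcomm : ∀ e ∈ E', l * e * l⁻¹ * e⁻¹ ∈ zpowers ρ := fun e he => h'.k_comm hg' he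
  have hlF : l ∈ normalizer (F : Set G) := by
    refine mem_normalizer_fintype fun b hb => ⟨?_, (mem_normalizer_iff.mp hlN b).mp hb.2⟩
    have := mul_mem (zpowers_le.mpr hρE (hlcomm b hb.2)) hb.1
    simpa [mul_assoc] using this
  -- `k` fixes squares, `l` fixes `w`
  have hkw : k * w * k⁻¹ = w := h.conj_fix
  have hw2 : w * w = 1 := hwU.2.1
  have hksq : ∀ e ∈ E, k * (e * e) * k⁻¹ = e * e := fun e he => h.pr_conj_refl_z hg he
  have hrtE : a.rt ∈ E := h.Q_le (hQ ▸ a.X_le a.rt_mem_X)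
  have hkc : k * a.c * k⁻¹ = a.c := by rw [← a.rt_mul_rt]; exact hksq _ hrtE
  have hkzb : k * a.z * k⁻¹ = a.z := by rw [← a.c_mul_c]; exact hksq _ hcbE
  have hlρ : l * ρ * l⁻¹ = ρ := by
    calc l * ρ * l⁻¹ = g' * (a.rt * a.c * a.rt⁻¹) * g'⁻¹ := by rw [hl, hρ]; group
      _ = ρ := by rw [a.rot_comm a.rt_mem_X a.c_mem_X, mul_inv_cancel_right, hρ]
  have hρ2 : ρ * ρ = a.z := by
    have e : g' * a.z * g'⁻¹ = a.z := h'.za_fix hg'
    rw [hρ, ← e, ← a.c_mul_c]; group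
  have hlzb : l * a.z * l⁻¹ = a.z := by
    calc l * a.z * l⁻¹ = l * ρ * l⁻¹ * (l * ρ * l⁻¹) := by rw [← hρ2]; group
      _ = a.z := by rw [hlρ, hρ2]
  -- `l` fixes every element with central semidihedral projection
  have hlfix : ∀ e ∈ E', q.pr e ∈ a.Z → l * e * l⁻¹ = e := by
    intro e he hz
    have hin : g'⁻¹ * e * g' ∈ invCC E' := by
      have := h'.inv_CC.conj g'⁻¹ (inv_mem hg') e ((h'.mem_CC he).mpr hz)
      rwa [inv_inv] at this
    have hinE : g'⁻¹ * e * g' ∈ E' := hin.1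
    have : a.rt * (g'⁻¹ * e * g') = g'⁻¹ * e * g' * a.rt :=
      h'.eight.rt_fix h'.le hinE (a.Z_le ((h'.mem_CC hinE).mp hin))
    calc l * e * l⁻¹ = g' * (a.rt * (g'⁻¹ * e * g') * a.rt⁻¹) * g'⁻¹ := by rw [hl]; group
      _ = e := by rw [this]; group
  by_contra hne
  have hkρ : k * ρ * k⁻¹ = ρ * w := by
    rcases hkT ρ hρE with e | e <;> rw [MulAut.conj_apply] at e
    · exact absurd (mul_inv_eq_iff_eq_mul.mp e) hne
    · exact e
  -- the image of `c` under `l`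
  obtain ⟨n, hn⟩ := mem_zpowers_iff.mp (hlcomm a.c hcbE')
  obtain ⟨j, hj⟩ : ∃ j, n = 2 * j + 1 := by
    rcases Int.even_or_odd' n with ⟨j, rfl | rfl⟩
    · exfalso
      have hρn : ρ ^ (2 * j) ∈ cen E' := by
        rw [zpow_mul, zpow_two, hρ2]
        exact zpow_mem (h'.za_cen) j
      have hmv := h'.fork.moves hg' h'.u_mem_C.2
        (fun hc => h'.fork.a_notMem (by simpa [Eqv] using hc)) (fun hc => hm' (h'.fork.symm hc))
      rw [hn] at hρn
      have e1 : Eqv (cen E') a.c (l * a.c * l⁻¹) := by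
        have := inv_cen.conj a.c⁻¹ (inv_mem (le_normalizer hcbE')) _ hρn
        unfold Eqv
        simpa [mul_assoc] using this
      rw [show q.a = a from rfl] at hmv
      have e2 := h'.fork.tr e1 (h'.fork.symm hmv)
      refine h'.fork.w_ne hg' ?_
      show (1 : G)⁻¹ * (g' * a.c * g'⁻¹) ∈ cen E'
      unfold Eqv at e2
      simpa [hρ, mul_assoc] using e2
    · exact ⟨j, rfl⟩
  set σ := ρ ^ n with hσ
  have hσρ : σ ∈ E ∧ σ ∈ E' := ⟨zpow_mem hρE n, zpow_mem hρE' n⟩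
  have hlc : l * a.c * l⁻¹ = σ * a.c := (mul_inv_eq_iff_eq_mul.mp hn.symm)
  have hwρ : Commute w ρ := hwU.2.2 ρ hρE
  have hkσ : k * σ * k⁻¹ = σ * w := by
    rw [hσ, ← conj_zpow, hkρ, hwρ.symm.mul_zpow, hj, zpow_add w, zpow_mul w, zpow_two, hw2, one_zpow, one_mul, zpow_one]
  have hlσ : l * σ * l⁻¹ = σ := by rw [hσ, ← conj_zpow, hlρ]
  have hlw : l * w * l⁻¹ = w := hlfix w hwE' hwb
  set p := k * l with hp
  have pc : ∀ e, p * e * p⁻¹ = k * (l * e * l⁻¹) * k⁻¹ := fun e => by rw [hp]; group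
  have hpc : p * a.c * p⁻¹ = σ * w * a.c := by
    rw [pc, hlc, show k * (σ * a.c) * k⁻¹ = k * σ * k⁻¹ * (k * a.c * k⁻¹) by group, hkσ, hkc]
  have hpσ : p * σ * p⁻¹ = σ * w := by rw [pc, hlσ, hkσ]
  have hpw : p * w * p⁻¹ = w := by rw [pc, hlw, hkw]
  have hpz : p * a.z * p⁻¹ = a.z := by rw [pc, hlzb, hkzb]
  have hσ2 : σ * σ = a.z := by
    rw [hσ, ← zpow_add, show n + n = 2 * n by ring, zpow_mul, zpow_two, hρ2, hj, zpow_add, zpow_mul, zpow_two,
      a.z_mul_z, one_zpow, one_mul, zpow_one]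
  set δ := a.z * w with hδ
  have hδc : a.z * w = w * a.z := q.za_comm (hES hwE)
  have hm2 : p * p * a.c * (p * p)⁻¹ = δ * a.c := by
    have hσw : w * σ = σ * w := hwU.2.2 σ hσρ.1
    calc p * p * a.c * (p * p)⁻¹ = p * (p * a.c * p⁻¹) * p⁻¹ := by group
      _ = p * (σ * w * a.c) * p⁻¹ := by rw [← hpc]
      _ = p * σ * p⁻¹ * (p * w * p⁻¹) * (p * a.c * p⁻¹) := by group
      _ = σ * (w * w) * σ * w * a.c := by rw [hpσ, hpw, hpc]; group
      _ = δ * a.c := by rw [hw2, mul_one, hσ2, hδ]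
  have hmδ : p * p * δ * (p * p)⁻¹ = δ := by
    rw [show p * p * δ * (p * p)⁻¹ = p * ((p * a.z * p⁻¹) * (p * w * p⁻¹)) * p⁻¹ by rw [hδ]; group, hpz, hpw,
      show p * (a.z * w) * p⁻¹ = p * a.z * p⁻¹ * (p * w * p⁻¹) by group, hpz, hpw, hδ]
  have hδ2 : δ * δ = 1 := by
    calc δ * δ = a.z * (w * a.z) * w := by rw [hδ]; simp only [mul_assoc]
      _ = a.z * (a.z * w) * w := by rw [← hδc]
      _ = a.z * a.z * (w * w) := by simp only [mul_assoc]
      _ = 1 := by rw [a.z_mul_z, hw2, one_mul]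
  have hiter : ∀ i : ℕ, (p * p) ^ i * a.c * ((p * p) ^ i)⁻¹ = δ ^ i * a.c := by
    intro i
    induction i with
    | zero => simp
    | succ i ih =>
      have hcd : p * p * δ ^ i * (p * p)⁻¹ = δ ^ i := by rw [← conj_pow, hmδ]
      rw [pow_succ', mul_inv_rev, show p * p * (p * p) ^ i * a.c * (((p * p) ^ i)⁻¹ * (p * p)⁻¹) =
        p * p * ((p * p) ^ i * a.c * ((p * p) ^ i)⁻¹) * (p * p)⁻¹ by simp only [mul_assoc],
        ih, show p * p * (δ ^ i * a.c) * (p * p)⁻¹ = p * p * δ ^ i * (p * p)⁻¹ * (p * p * a.c * (p * p)⁻¹) by group,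
        hcd, hm2, pow_succ]
      simp only [mul_assoc]
  have hpF : p ∈ normalizer (F : Set G) := mul_mem hkF hlF
  obtain ⟨t, o, ho, ht⟩ := Nat.exists_eq_two_pow_mul_odd (orderOf_pos p).ne'
  have hp2 : IsPGroup 2 (zpowers (p ^ o)) := IsPGroup.of_card (n := t) (by
    rw [Nat.card_zpowers, orderOf_pow_of_dvd ho.pos.ne' (ht ▸ dvd_mul_left o _), ht, Nat.mul_div_cancel _ ho.pos])
  have hFP : F ≤ (P : Subgroup G) := inf_le_left.trans hES
  obtain ⟨h₀, hB, hsyl⟩ := exists_conj_isSylowIn P hFP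
  set B : Subgroup G := F.map (MulAut.conj h₀ : G ≃* G).toMonoidHom with hB'
  have hn0 : h₀ * p ^ o * h₀⁻¹ ∈ normalizer (B : Set G) := by
    rw [hB', ← Subgroup.map_normalizer_eq_of_bijective F (MulEquiv.bijective (MulAut.conj h₀))]
    exact ⟨p ^ o, pow_mem hpF o, rfl⟩
  have hp2' : IsPGroup 2 (zpowers (h₀ * p ^ o * h₀⁻¹)) := by
    have := hp2.map (MulAut.conj h₀ : G ≃* G).toMonoidHom
    rwa [MonoidHom.map_zpowers] at this
  obtain ⟨n₀, hn₀, hnT⟩ := hsyl.exists_conj_le hp2' (zpowers_le.mpr hn0)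
  have hs := hnT _ (mem_zpowers _)
  set m := n₀ * h₀ with hm0
  set s := n₀ * (h₀ * p ^ o * h₀⁻¹) * n₀⁻¹ with hs0
  have hin : ∀ f ∈ F, m * f * m⁻¹ ∈ B := fun f hf => by
    have := (mem_normalizer_iff.mp hn₀ _).mp (show MulAut.conj h₀ f ∈ B from ⟨f, hf, rfl⟩)
    simpa [hm0, mul_assoc] using this
  have hout : ∀ b ∈ B, ∃ f ∈ F, b = m * f * m⁻¹ := by
    intro b hb
    obtain ⟨f, hf, hfe⟩ : n₀⁻¹ * b * n₀ ∈ B := (mem_normalizer_iff''.mp hn₀ b).mp hb
    refine ⟨f, hf, ?_⟩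
    change h₀ * f * h₀⁻¹ = n₀⁻¹ * b * n₀ at hfe
    calc b = n₀ * (n₀⁻¹ * b * n₀) * n₀⁻¹ := by group
      _ = m * f * m⁻¹ := by rw [← hfe, hm0]; group
  have hp' : ∀ f ∈ F, fr.pr (f * f) = 1 ∧ q.pr f * q.pr f ∈ a.Z := fun f hf =>
    ⟨by rw [fr.pr_mul (hFP hf) (hFP hf)]; exact fr.inV_sq h.refl ((h.mem f).mp hf.1).2, h'.eight.sq_Z h'.le hf.2⟩
  have hcen : ∀ c : G, (∀ e ∈ E, c * e = e * c) → ∀ b ∈ B, m * c * m⁻¹ * b = b * (m * c * m⁻¹) := by
    intro c hc b hb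
    obtain ⟨f, hf, rfl⟩ := hout b hb
    calc m * c * m⁻¹ * (m * f * m⁻¹) = m * (c * f) * m⁻¹ := by group
      _ = m * f * m⁻¹ * (m * c * m⁻¹) := by rw [hc f hf.1]; group
  have hzaF : a.z ∈ F := ⟨(a.c_mul_c ▸ mul_mem hcbE hcbE), (a.c_mul_c ▸ mul_mem hcbE' hcbE')⟩
  have hzbF : fr.z ∈ F := ⟨h.z_mem_U.1, h'.bD fr.z_mem⟩
  have hwF : w ∈ F := ⟨hwE, hwE'⟩
  have hρF : ρ ∈ F := ⟨hρE, hρE'⟩
  have inj : ∀ {x y : G}, m * x * m⁻¹ = m * y * m⁻¹ → x = y := fun e => (MulAut.conj m).injective e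
  have one' : ∀ {x : G}, m * x * m⁻¹ = 1 → x = 1 := fun e => conj_eq_one_iff.mp e
  have sqc : ∀ {x : G}, x * x = 1 → m * x * m⁻¹ * (m * x * m⁻¹) = 1 := fun {x} e => by
    rw [show m * x * m⁻¹ * (m * x * m⁻¹) = m * (x * x) * m⁻¹ by group, e]; group
  have hprw : fr.pr w ∉ zpowers fr.r := hr.2
  have hwne1 : w ≠ 1 := fun e => hprw (by rw [e, fr.pr_one]; exact one_mem _)
  have hzaQ : a.z ∈ fr.Q := hQ ▸ a.X_le a.z_mem_X
  have hwza : a.z ≠ w := fun e => hprw (by rw [← e, fr.pr_of_mem_Q hzaQ]; exact one_mem _)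
  have hwzb : w ≠ fr.z := fun e => hprw (by rw [e, fr.pr_of_mem_D fr.z_mem]; exact fr.z_mem_rot)
  have hwind : a.z * w ≠ fr.z := fun e => hprw (by
    have e' : w = a.z * fr.z := by rw [← e, ← mul_assoc, a.z_mul_z, one_mul]
    rw [e', fr.pr_mul (fr.Q_le hzaQ) (fr.D_le fr.z_mem), fr.pr_of_mem_Q hzaQ, fr.pr_of_mem_D fr.z_mem, one_mul]
    exact fr.z_mem_rot)
  have hzz : a.z ≠ fr.z := fun e => fr.z_ne_one (fr.eq_one_of_mem fr.z_mem (e ▸ hzaQ))
  have hρoff : q.pr ρ ∉ a.X := (h'.moved_iff hg').mp hm'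
  have hcρ : a.c * ρ ≠ ρ * a.c := fun e => hρoff (by
    have e1 : a.c * q.pr ρ = q.pr ρ * a.c := (q.commute_iff_pr hcb (h'.le hρE')).mp e
    exact a.c_comm_mem (q.pr_mem (h'.le hρE')) e1)
  obtain ⟨f, hf, hfe⟩ := sq_almost_trivial fr a hQ hB (fun b hb => by
      obtain ⟨f, hf, rfl⟩ := hout b hb
      have e1 : f * f * (f * f) = 1 := by
        obtain ⟨e1, e2⟩ := hp' f hf
        have hff : f * f = q.pr f * q.pr f := by
          conv_lhs => rw [← q.split (P.mul_mem (hFP hf) (hFP hf)), hpB (P.mul_mem (hFP hf) (hFP hf)), e1, mul_one,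
            q.pr_sq (hFP hf)]
        rw [hff, a.Z_sq e2]
      calc m * f * m⁻¹ * (m * f * m⁻¹) * (m * f * m⁻¹ * (m * f * m⁻¹)) = m * (f * f * (f * f)) * m⁻¹ := by group
        _ = 1 := by rw [e1]; group)
    (hin a.c ⟨hcbE, hcbE'⟩) (hin ρ hρF)
    (fun e => a.z_ne_one (one' (by rw [← a.c_mul_c, ← e]; group)))
    (by rw [show m * ρ * m⁻¹ * (m * ρ * m⁻¹) = m * (ρ * ρ) * m⁻¹ by group, hρ2, ← a.c_mul_c]; group)
    (fun e => hcρ (inj (by
      calc m * (a.c * ρ) * m⁻¹ = m * a.c * m⁻¹ * (m * ρ * m⁻¹) := by group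
        _ = m * ρ * m⁻¹ * (m * a.c * m⁻¹) := e
        _ = m * (ρ * a.c) * m⁻¹ := by group)))
    (hin _ hzaF) (hin _ hwF) (hin _ hzbF) (sqc a.z_mul_z) (sqc hw2) (sqc fr.z_mul_z)
    (fun e => a.z_ne_one (one' e)) (fun e => hwne1 (one' e)) (fun e => fr.z_ne_one (one' e))
    (fun e => hwza (inj e)) (fun e => hzz (inj e)) (fun e => hwzb (inj e))
    (fun e => hwind (inj (by rw [← e]; group)))
    (hcen _ fun e he => q.za_comm (hES he)) (hcen _ hwU.2.2) (hcen _ fun e he => fr.z_comm (hES he))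
    hs (hin a.c ⟨hcbE, hcbE'⟩)
  obtain ⟨f', hf', rfl⟩ := hout f hf
  -- compare dihedral projections
  have hδo : δ ^ o = δ := by
    obtain ⟨i, rfl⟩ := ho
    rw [pow_succ, pow_mul, pow_two, hδ2, one_pow, one_mul]
  have key : δ = f' * f' := by
    refine inj ?_
    rw [show m * (f' * f') * m⁻¹ = m * f' * m⁻¹ * (m * f' * m⁻¹) by group, ← hfe]
    have hh := hiter o
    rw [hδo, (Commute.refl p).mul_pow] at hh
    rw [show s = m * p ^ o * m⁻¹ by rw [hs0, hm0]; simp only [mul_inv_rev, mul_assoc],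
      show m * p ^ o * m⁻¹ * (m * p ^ o * m⁻¹) * (m * a.c * m⁻¹) * (m * p ^ o * m⁻¹ * (m * p ^ o * m⁻¹))⁻¹ *
        (m * a.c * m⁻¹)⁻¹ = m * (p ^ o * p ^ o * a.c * (p ^ o * p ^ o)⁻¹ * a.c⁻¹) * m⁻¹ by
          simp only [mul_inv_rev, inv_inv, mul_assoc, inv_mul_cancel_left], hh, mul_inv_cancel_right]
  refine hprw ?_
  have h1 := congrArg fr.pr key
  rw [(hp' f' hf').1, hδ, fr.pr_mul (fr.Q_le hzaQ) (hES hwE), fr.pr_of_mem_Q hzaQ, one_mul] at h1
  rw [h1]; exact one_mem _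

end CfsgLib.SDMixed
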