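import Cfsg.Agent.Lib.SDSquare.SD
import Cfsg.Agent.Lib.SDSquare.Series
import Cfsg.Prelude.Def_TwoFusion
import Mathlib.Algebra.Group.Subgroup.Pointwise

/-!
A Sylow `2`-subgroup which is the product of a semidihedral subgroup and a subgroup generated by involutions whose
centre is elementary abelian (a dihedral group or a four group).
-/

set_option autoImplicit false
set_option linter.unusedSectionVars false

namespace CfsgLib.SDMixed

open Cfsg Subgroup CfsgLib.SDSquare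

universe u
variable {G : Type u} [Group G]

/-- `P = D × B` with `D` semidihedral. -/
structure Half (P : Subgroup G) where
  /-- The semidihedral factor. -/
  a : SDGen G
  /-- The other factor. -/
  B : Subgroup G
  /-- The centre of the other factor. -/
  ZB : Subgroup G
  /-- An element whose square has commuting square roots only. -/
  core : G
  prod : IsInternalDirectProduct a.D B P
  ZB_le : ZB ≤ B
  ZB_comm : ∀ b ∈ B, ∀ z ∈ ZB, z * b = b * z
  ZB_cent : ∀ b ∈ B, (∀ c ∈ B, b * c = c * b) → b ∈ ZB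
  ZB_sq : ∀ z ∈ ZB, z * z = 1
  B_gen : B ≤ closure {b | b ∈ B ∧ b * b = 1}
  core_mem : core ∈ B
  core_roots : ∀ f ∈ B, ∀ g ∈ B, f * f = core * core → g * g = core * core → f * g = g * f

namespace Half

variable {P : Subgroup G} (q : Half P)

theorem aD_le : q.a.D ≤ P := q.prod.1

theorem B_le : q.B ≤ P := q.prod.2.1

theorem comm_ab {x y : G} (hx : x ∈ q.a.D) (hy : y ∈ q.B) : x * y = y * x := q.prod.2.2.1 x hx y hy

theorem exists_decomp {g : G} (hg : g ∈ P) : ∃ x ∈ q.a.D, ∃ y ∈ q.B, x * y = g := by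
  rw [← q.prod.2.2.2.2] at hg
  have hn : q.B ≤ normalizer (q.a.D : Set G) := fun y hy => mem_normalizer_iff.mpr fun x => by
    constructor
    · intro hx
      rw [← q.comm_ab hx hy, mul_inv_cancel_right]
      exact hx
    · intro hx
      have e : x = y * x * y⁻¹ := by
        have h1 := q.comm_ab hx hy
        calc x = y⁻¹ * (y * x * y⁻¹ * y) := by group
          _ = y⁻¹ * (y * (y * x * y⁻¹)) := by rw [h1]
          _ = y * x * y⁻¹ := by group
      rw [e]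
      exact hx
  have hg' : g ∈ (↑(q.a.D ⊔ q.B) : Set G) := hg
  rw [coe_mul_of_right_le_normalizer_left q.a.D q.B hn] at hg'
  obtain ⟨x, hx, y, hy, e⟩ := hg'
  exact ⟨x, hx, y, hy, e⟩

theorem eq_one_of_mem {g : G} (h1 : g ∈ q.a.D) (h2 : g ∈ q.B) : g = 1 := by
  have : g ∈ q.a.D ⊓ q.B := ⟨h1, h2⟩
  rwa [q.prod.2.2.2.1, mem_bot] at this

/-- The projection on the semidihedral factor. -/
noncomputable def pr (g : G) : G :=
  haveI := Classical.propDecidable (g ∈ P)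
  if h : g ∈ P then (q.exists_decomp h).choose else 1

/-- The projection on the other factor. -/
noncomputable def pr' (g : G) : G := (q.pr g)⁻¹ * g

theorem pr_eq {x y : G} (hx : x ∈ q.a.D) (hy : y ∈ q.B) : q.pr (x * y) = x := by
  have h : x * y ∈ P := P.mul_mem (q.aD_le hx) (q.B_le hy)
  rw [pr, dif_pos h]
  obtain ⟨hx', y', hy', e⟩ := (q.exists_decomp h).choose_spec
  set x' := (q.exists_decomp h).choose
  have h1 : x⁻¹ * x' = y * y'⁻¹ := by
    calc x⁻¹ * x' = x⁻¹ * (x' * y') * y'⁻¹ := by group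
      _ = y * y'⁻¹ := by rw [e]; group
  have := q.eq_one_of_mem (mul_mem (inv_mem hx) hx') (h1 ▸ mul_mem hy (inv_mem hy'))
  exact (inv_mul_eq_one.mp this).symm

theorem pr'_eq {x y : G} (hx : x ∈ q.a.D) (hy : y ∈ q.B) : q.pr' (x * y) = y := by
  rw [pr', q.pr_eq hx hy, inv_mul_cancel_left]

theorem pr_mem {g : G} (hg : g ∈ P) : q.pr g ∈ q.a.D := by
  obtain ⟨x, hx, y, hy, rfl⟩ := q.exists_decomp hg
  rw [q.pr_eq hx hy]
  exact hx

theorem pr'_mem {g : G} (hg : g ∈ P) : q.pr' g ∈ q.B := by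
  obtain ⟨x, hx, y, hy, rfl⟩ := q.exists_decomp hg
  rw [q.pr'_eq hx hy]
  exact hy

theorem split {g : G} (_hg : g ∈ P) : q.pr g * q.pr' g = g := mul_inv_cancel_left _ _

theorem ext {g h : G} (hg : g ∈ P) (hh : h ∈ P) (h1 : q.pr g = q.pr h) (h2 : q.pr' g = q.pr' h) : g = h := by
  rw [← q.split hg, ← q.split hh, h1, h2]

theorem pr_of_mem {x : G} (hx : x ∈ q.a.D) : q.pr x = x := by
  have := q.pr_eq hx q.B.one_mem
  rwa [mul_one] at this

theorem pr_of_mem_b {y : G} (hy : y ∈ q.B) : q.pr y = 1 := by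
  have := q.pr_eq q.a.D.one_mem hy
  rwa [one_mul] at this

theorem pr'_of_mem {x : G} (hx : x ∈ q.a.D) : q.pr' x = 1 := by rw [pr', q.pr_of_mem hx, inv_mul_cancel]

theorem pr'_of_mem_b {y : G} (hy : y ∈ q.B) : q.pr' y = y := by rw [pr', q.pr_of_mem_b hy, inv_one, one_mul]

theorem pr_one : q.pr 1 = 1 := q.pr_of_mem q.a.D.one_mem

theorem pr'_one : q.pr' 1 = 1 := q.pr'_of_mem q.a.D.one_mem

theorem pr_mul {g h : G} (hg : g ∈ P) (hh : h ∈ P) : q.pr (g * h) = q.pr g * q.pr h := by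
  obtain ⟨x, hx, y, hy, rfl⟩ := q.exists_decomp hg
  obtain ⟨x', hx', y', hy', rfl⟩ := q.exists_decomp hh
  rw [q.pr_eq hx hy, q.pr_eq hx' hy',
    show x * y * (x' * y') = x * x' * (y * y') by
      rw [mul_assoc x y, ← mul_assoc y x', ← q.comm_ab hx' hy]; group,
    q.pr_eq (mul_mem hx hx') (mul_mem hy hy')]

theorem pr'_mul {g h : G} (hg : g ∈ P) (hh : h ∈ P) : q.pr' (g * h) = q.pr' g * q.pr' h := by
  obtain ⟨x, hx, y, hy, rfl⟩ := q.exists_decomp hg
  obtain ⟨x', hx', y', hy', rfl⟩ := q.exists_decomp hh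
  rw [q.pr'_eq hx hy, q.pr'_eq hx' hy',
    show x * y * (x' * y') = x * x' * (y * y') by
      rw [mul_assoc x y, ← mul_assoc y x', ← q.comm_ab hx' hy]; group,
    q.pr'_eq (mul_mem hx hx') (mul_mem hy hy')]

theorem pr_inv {g : G} (hg : g ∈ P) : q.pr g⁻¹ = (q.pr g)⁻¹ :=
  eq_inv_of_mul_eq_one_left (by rw [← q.pr_mul (P.inv_mem hg) hg, inv_mul_cancel, q.pr_one])

theorem pr'_inv {g : G} (hg : g ∈ P) : q.pr' g⁻¹ = (q.pr' g)⁻¹ :=
  eq_inv_of_mul_eq_one_left (by rw [← q.pr'_mul (P.inv_mem hg) hg, inv_mul_cancel, q.pr'_one])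

theorem pr_conj {g h : G} (hg : g ∈ P) (hh : h ∈ P) : q.pr (g * h * g⁻¹) = q.pr g * q.pr h * (q.pr g)⁻¹ := by
  rw [q.pr_mul (P.mul_mem hg hh) (P.inv_mem hg), q.pr_mul hg hh, q.pr_inv hg]

theorem pr'_conj {g h : G} (hg : g ∈ P) (hh : h ∈ P) :
    q.pr' (g * h * g⁻¹) = q.pr' g * q.pr' h * (q.pr' g)⁻¹ := by
  rw [q.pr'_mul (P.mul_mem hg hh) (P.inv_mem hg), q.pr'_mul hg hh, q.pr'_inv hg]

theorem pr_sq {g : G} (hg : g ∈ P) : q.pr (g * g) = q.pr g * q.pr g := q.pr_mul hg hg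

theorem pr'_sq {g : G} (hg : g ∈ P) : q.pr' (g * g) = q.pr' g * q.pr' g := q.pr'_mul hg hg

theorem commute_of {g h : G} (hg : g ∈ P) (hh : h ∈ P) (h1 : q.pr g * q.pr h = q.pr h * q.pr g)
    (h2 : q.pr' g * q.pr' h = q.pr' h * q.pr' g) : g * h = h * g :=
  q.ext (P.mul_mem hg hh) (P.mul_mem hh hg) (by rw [q.pr_mul hg hh, q.pr_mul hh hg, h1])
    (by rw [q.pr'_mul hg hh, q.pr'_mul hh hg, h2])

theorem pr_commute {g h : G} (hg : g ∈ P) (hh : h ∈ P) (e : g * h = h * g) :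
    q.pr g * q.pr h = q.pr h * q.pr g := by
  rw [← q.pr_mul hg hh, ← q.pr_mul hh hg, e]

theorem pr'_commute {g h : G} (hg : g ∈ P) (hh : h ∈ P) (e : g * h = h * g) :
    q.pr' g * q.pr' h = q.pr' h * q.pr' g := by
  rw [← q.pr'_mul hg hh, ← q.pr'_mul hh hg, e]

/-- An element of the first factor only sees the first projection. -/
theorem comm_pr {x g : G} (hx : x ∈ q.a.D) (hg : g ∈ P) :
    x * g * x⁻¹ * g⁻¹ = x * q.pr g * x⁻¹ * (q.pr g)⁻¹ := by
  have h2 := q.pr'_mem hg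
  nth_rewrite 1 2 [← q.split hg]
  rw [mul_inv_rev]
  calc x * (q.pr g * q.pr' g) * x⁻¹ * ((q.pr' g)⁻¹ * (q.pr g)⁻¹)
      = x * q.pr g * (q.pr' g * x⁻¹) * ((q.pr' g)⁻¹ * (q.pr g)⁻¹) := by group
    _ = x * q.pr g * (x⁻¹ * q.pr' g) * ((q.pr' g)⁻¹ * (q.pr g)⁻¹) := by rw [q.comm_ab (inv_mem hx) h2]
    _ = x * q.pr g * x⁻¹ * (q.pr g)⁻¹ := by group

theorem commute_iff_pr {x g : G} (hx : x ∈ q.a.D) (hg : g ∈ P) :
    x * g = g * x ↔ x * q.pr g = q.pr g * x := by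
  rw [← mul_inv_eq_iff_eq_mul, ← mul_inv_eq_one, q.comm_pr hx hg, mul_inv_eq_one, mul_inv_eq_iff_eq_mul]

theorem za_comm {g : G} (hg : g ∈ P) : q.a.z * g = g * q.a.z :=
  (q.commute_iff_pr (q.a.X_le q.a.z_mem_X) hg).mpr (q.a.z_comm (q.pr_mem hg))

theorem za_mem : q.a.z ∈ P := q.aD_le (q.a.X_le q.a.z_mem_X)

theorem ZB_leP : q.ZB ≤ P := q.ZB_le.trans q.B_le

theorem ZB_central {g z : G} (hg : g ∈ P) (hz : z ∈ q.ZB) : z * g = g * z :=
  q.commute_of (q.ZB_leP hz) hg (by rw [q.pr_of_mem_b (q.ZB_le hz), one_mul, mul_one])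
    (by rw [q.pr'_of_mem_b (q.ZB_le hz)]; exact q.ZB_comm _ (q.pr'_mem hg) z hz)

end Half

end CfsgLib.SDMixed
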