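import Cfsg.Agent.Lib.SDMixed.Flag
import Cfsg.Agent.Lib.SDMixed.Half
import Cfsg.Agent.Lib.SDSquare.Odd
import Cfsg.Agent.Lib.AfterFT.DihedralSquare.Closed

/-!
A dihedral factor: the frame gives a half, and odd elements of the normalizer centralise.
-/

set_option autoImplicit false
set_option linter.unusedSectionVars false

namespace CfsgLib.SDMixed

open Cfsg Cfsg.FusionSystem Subgroup CfsgLib.AfterFT.DihedralSquare CfsgLib.SDSquare

universe u
variable {G : Type u} [Group G] [Finite G] {P : Sylow 2 G}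

/-- A dihedral times semidihedral product as a half. -/
noncomputable def dihHalf (fr : Frame (P : Subgroup G)) (a : SDGen G) (hQ : fr.Q = a.D) : Half (P : Subgroup G) where
  a := a
  B := fr.D
  ZB := fr.centreD
  core := fr.x
  prod := ⟨hQ ▸ fr.Q_le, fr.D_le, fun x hx y hy => (fr.commute_DQ hy (hQ ▸ hx)).symm,
    by rw [← hQ, inf_comm]; exact fr.prod.2.2.2.1, by rw [← hQ, sup_comm]; exact fr.prod.2.2.2.2⟩
  ZB_le := zpowers_le.mpr fr.z_mem
  ZB_comm := fun b hb z hz => by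
    rcases fr.mem_centreD.mp hz with h | h <;> rw [h]
    exacts [by simp, (fr.z_comm_D hb).symm]
  ZB_cent := fun b hb h => by
    have hr := fr.rot_of_commute fr.x_mem_rot fr.x_sq_ne_one hb (h _ fr.x_mem)
    rcases fr.inV_of_commute fr.isRefl_s hb (h _ fr.s_mem) with e | e | e | e
    · exact fr.mem_centreD.mpr (Or.inl e)
    · exact fr.mem_centreD.mpr (Or.inr e)
    · exact absurd (e ▸ hr) fr.s_notMem
    · exact absurd (e ▸ hr) (fr.refl_z fr.isRefl_s).2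
  ZB_sq := fun z hz => by
    rcases fr.mem_centreD.mp hz with h | h <;> rw [h]
    exacts [one_mul 1, fr.z_mul_z]
  B_gen := fr.D_le_closure
  core_mem := fr.x_mem
  core_roots := fun f hf g hg hf2 hg2 => by
    have key : ∀ c ∈ fr.D, c * c = fr.x * fr.x → c ∈ zpowers fr.r := fun c hc h => by
      by_contra hr
      exact fr.x_sq_ne_one (h.symm.trans (fr.refl_sq ⟨hc, hr⟩))
    exact fr.rot_comm (key f hf hf2) (key g hg hg2)

variable (fr : Frame (P : Subgroup G)) (a : SDGen G) (hQ : fr.Q = a.D)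

theorem dihHalf_pr' {g : G} (hg : g ∈ (P : Subgroup G)) : (dihHalf fr a hQ).pr' g = fr.pr g := by
  obtain ⟨d, hd, q, hq, rfl⟩ := fr.exists_decomp hg
  rw [fr.pr_eq hd hq, fr.commute_DQ hd hq]
  exact (dihHalf fr a hQ).pr'_eq (hQ ▸ hq) hd

/-- The squares of `P`. -/
def sqF : Subgroup G where
  carrier := {f | f ∈ (P : Subgroup G) ∧ (dihHalf fr a hQ).pr f ∈ a.X ⊓ a.Dm ∧ fr.pr f ∈ zpowers (fr.r ^ 2)}
  one_mem' := ⟨one_mem _, by rw [Half.pr_one]; exact one_mem _, by rw [fr.pr_one]; exact one_mem _⟩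
  mul_mem' := by
    rintro b c ⟨hb, hb1, hb2⟩ ⟨hc, hc1, hc2⟩
    exact ⟨mul_mem hb hc, by rw [Half.pr_mul _ hb hc]; exact mul_mem hb1 hc1,
      by rw [fr.pr_mul hb hc]; exact mul_mem hb2 hc2⟩
  inv_mem' := by
    rintro b ⟨hb, hb1, hb2⟩
    exact ⟨inv_mem hb, by rw [Half.pr_inv _ hb]; exact inv_mem hb1, by rw [fr.pr_inv hb]; exact inv_mem hb2⟩

theorem mem_sqF {f : G} : f ∈ sqF fr a hQ ↔ ∃ s ∈ (P : Subgroup G), s * s = f := by
  set q := dihHalf fr a hQ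
  constructor
  · rintro ⟨hf, ⟨hX, hD⟩, hr⟩
    obtain ⟨i, hi⟩ : ∃ i : ℤ, q.pr f = a.x ^ (2 * i) := by
      obtain ⟨i, h | h⟩ := a.mem_Dm.mp hD
      exacts [⟨i, h⟩, absurd (h ▸ hX) (a.xy_notMem _)]
    obtain ⟨j, hj⟩ := mem_zpowers_iff.mp hr
    have hxm : a.x ^ i ∈ a.D := a.X_le (a.zpow_mem_X i)
    have hrm : fr.r ^ j ∈ fr.D := zpow_mem fr.r_mem j
    refine ⟨a.x ^ i * fr.r ^ j, P.mul_mem (q.aD_le hxm) (q.B_le hrm), ?_⟩
    rw [← q.split hf, hi, dihHalf_pr' fr a hQ hf, ← hj,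
      show a.x ^ (2 * i) = a.x ^ i * a.x ^ i by rw [← zpow_add]; congr 1; ring,
      show (fr.r ^ 2) ^ j = fr.r ^ j * fr.r ^ j by rw [pow_two, (Commute.refl fr.r).mul_zpow]]
    have h : a.x ^ i * fr.r ^ j = fr.r ^ j * a.x ^ i := q.comm_ab hxm hrm
    calc a.x ^ i * fr.r ^ j * (a.x ^ i * fr.r ^ j) = a.x ^ i * (fr.r ^ j * a.x ^ i) * fr.r ^ j := by group
      _ = a.x ^ i * a.x ^ i * (fr.r ^ j * fr.r ^ j) := by rw [← h]; group
  · rintro ⟨s, hs, rfl⟩
    refine ⟨P.mul_mem hs hs, ⟨?_, ?_⟩, ?_⟩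
    · rw [q.pr_sq hs]; exact a.sq_mem_X (q.pr_mem hs)
    · rw [q.pr_sq hs]; exact a.sq_mem_Dm (q.pr_mem hs)
    · rw [fr.pr_mul hs hs]
      by_cases hr : fr.pr s ∈ zpowers fr.r
      · obtain ⟨k, hk⟩ := mem_zpowers_iff.mp hr
        exact ⟨k, by
          show (fr.r ^ 2) ^ k = _
          rw [← hk, pow_two, (Commute.refl fr.r).mul_zpow]⟩
      · rw [fr.refl_sq ⟨fr.pr_mem hs, hr⟩]; exact one_mem _

theorem sqF_le : sqF fr a hQ ≤ (P : Subgroup G) := fun _ h => h.1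

theorem sqF_conj {g : G} (hg : g ∈ normalizer ((P : Subgroup G) : Set G)) {f : G} (hf : f ∈ sqF fr a hQ) :
    g * f * g⁻¹ ∈ sqF fr a hQ := by
  obtain ⟨s, hs, rfl⟩ := (mem_sqF fr a hQ).mp hf
  exact (mem_sqF fr a hQ).mpr ⟨g * s * g⁻¹, (mem_normalizer_iff.mp hg s).mp hs, by group⟩

theorem rot_parity {c c' : G} (hc : c ∈ zpowers fr.r) (hc' : c' ∈ zpowers fr.r) (h : c ∉ zpowers (fr.r ^ 2))
    (h' : c' ∉ zpowers (fr.r ^ 2)) : c⁻¹ * c' ∈ zpowers (fr.r ^ 2) := by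
  obtain ⟨i, rfl⟩ := mem_zpowers_iff.mp hc
  obtain ⟨j, rfl⟩ := mem_zpowers_iff.mp hc'
  have ev : ∀ m : ℤ, fr.r ^ (2 * m) ∈ zpowers (fr.r ^ 2) := fun m => ⟨m, by
    show (fr.r ^ 2) ^ m = _
    rw [← zpow_natCast, ← zpow_mul]; rfl⟩
  obtain ⟨i', rfl⟩ : Odd i := (Int.even_or_odd i).resolve_left fun ⟨m, hm⟩ => h (by rw [hm, ← two_mul]; exact ev m)
  obtain ⟨j', rfl⟩ : Odd j := (Int.even_or_odd j).resolve_left fun ⟨m, hm⟩ => h' (by rw [hm, ← two_mul]; exact ev m)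
  rw [← zpow_neg, ← zpow_add, show -(2 * i' + 1) + (2 * j' + 1) = 2 * (j' - i') by ring]
  exact ev _

theorem sqCent_iff {b : G} (hb : b ∈ (P : Subgroup G)) :
    (∀ e ∈ sqF fr a hQ, b * e = e * b) ↔
      (dihHalf fr a hQ).pr b ∈ a.X ∧ (fr.pr b ∈ zpowers fr.r ∨ fr.r * fr.r * (fr.r * fr.r) = 1) := by
  set q := dihHalf fr a hQ
  constructor
  · intro h
    constructor
    · have hr := q.aD_le (a.X_le a.rt_mem_X)
      have h1 := q.pr_commute hb (P.mul_mem hr hr) (h _ ((mem_sqF fr a hQ).mpr ⟨_, hr, rfl⟩))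
      rw [q.pr_sq hr, q.pr_of_mem (a.X_le a.rt_mem_X), a.rt_mul_rt] at h1
      exact a.c_comm_mem (q.pr_mem hb) h1.symm
    · refine or_iff_not_imp_right.mpr fun hne => ?_
      have hr := fr.D_le fr.r_mem
      refine fr.rot_of_commute (mul_mem (mem_zpowers _) (mem_zpowers _)) hne (fr.pr_mem hb) ?_
      have h1 := h _ ((mem_sqF fr a hQ).mpr ⟨_, hr, rfl⟩)
      exact ((fr.commute_iff_pr (mul_mem fr.r_mem fr.r_mem) hb).mp h1.symm).symm
  · rintro ⟨h1, h2⟩ e he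
    obtain ⟨heP, ⟨heX, -⟩, her⟩ := he
    refine q.commute_of hb heP (a.rot_comm h1 heX) ?_
    rw [dihHalf_pr' fr a hQ hb, dihHalf_pr' fr a hQ heP]
    rcases h2 with h2 | h2
    · exact fr.rot_comm h2 (fr.sq_rot_mem her)
    · obtain ⟨k, hk⟩ := mem_zpowers_iff.mp her
      have hz : fr.r * fr.r = 1 ∨ fr.r * fr.r = fr.z := fr.eq_z_of_sq (mul_mem (mem_zpowers _) (mem_zpowers _)) h2
      have hc : Commute (fr.pr b) (fr.r ^ 2) := by
        rw [pow_two]
        rcases hz with e | e <;> rw [e]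
        exacts [Commute.one_right _, fr.z_comm_D (fr.pr_mem hb)]
      rw [← hk]
      exact (hc.zpow_right k).eq

include fr hQ in
/-- **Odd elements of the normalizer centralise the Sylow subgroup.** -/
theorem odd_central {g : G} (hg : g ∈ normalizer ((P : Subgroup G) : Set G)) (ho : Odd (orderOf g)) {b : G}
    (hb : b ∈ (P : Subgroup G)) : g * b * g⁻¹ = b := by
  set q := dihHalf fr a hQ with hq
  set F := sqF fr a hQ with hF
  have hFn : ∀ s ∈ (P : Subgroup G), ∀ f ∈ F, s * f * s⁻¹ ∈ F := fun s hs f hf => sqF_conj fr a hQ (le_normalizer hs) hf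
  have hFg : ∀ f ∈ F, g * f * g⁻¹ ∈ F := fun f hf => sqF_conj fr a hQ hg hf
  have hsq : ∀ s ∈ (P : Subgroup G), s * s ∈ F := fun s hs => (mem_sqF fr a hQ).mpr ⟨s, hs, rfl⟩
  have hmv : ∀ {c}, c ∈ (P : Subgroup G) → g * c * g⁻¹ ∈ (P : Subgroup G) := fun hc => (mem_normalizer_iff.mp hg _).mp hc
  set K := fixedMod (P : Subgroup G) F hFn g with hK
  have step : ∀ {c}, c ∈ (P : Subgroup G) → c⁻¹ * (g * c * g⁻¹) ∈ K → c ∈ K :=
    fun hc h => fixedMod_step hg ho hFg hsq hc h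
  have hginv : ∀ {c}, c ∈ (P : Subgroup G) → g⁻¹ * c * g ∈ (P : Subgroup G) := fun hc => by
    have := (mem_normalizer_iff''.mp hg _).mp hc
    exact this
  have C_inv : ∀ {c}, c ∈ (P : Subgroup G) →
      ((∀ e ∈ F, g * c * g⁻¹ * e = e * (g * c * g⁻¹)) ↔ ∀ e ∈ F, c * e = e * c) := by
    intro c _
    constructor <;> intro h e he
    · have := h _ (hFg e he)
      exact (MulAut.conj g).injective (by simpa [mul_assoc] using this)
    · have he' : g⁻¹ * e * g ∈ F := by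
        have := sqF_conj fr a hQ (inv_mem hg) he
        rwa [inv_inv] at this
      have := congrArg (MulAut.conj g) (h _ he')
      simpa [mul_assoc] using this
  -- the subgroup generated by the involutions
  set I := closure {c | c ∈ (P : Subgroup G) ∧ c * c = 1} with hI
  have hIiff : ∀ {c}, c ∈ (P : Subgroup G) → (c ∈ I ↔ q.pr c ∈ a.Dm) := by
    intro c hc
    constructor
    · intro h
      have : I ≤ {
          carrier := {c | c ∈ (P : Subgroup G) ∧ q.pr c ∈ a.Dm}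
          one_mem' := ⟨one_mem _, by rw [q.pr_one]; exact one_mem _⟩
          mul_mem' := fun {x y} hx hy => ⟨mul_mem hx.1 hy.1, by rw [q.pr_mul hx.1 hy.1]; exact mul_mem hx.2 hy.2⟩
          inv_mem' := fun {x} hx => ⟨inv_mem hx.1, by rw [q.pr_inv hx.1]; exact inv_mem hx.2⟩ : Subgroup G } := by
        refine (closure_le _).mpr fun x hx => ⟨hx.1, ?_⟩
        have h2 : q.pr x * q.pr x = 1 := by rw [← q.pr_sq hx.1, hx.2, q.pr_one]
        by_cases hX : q.pr x ∈ a.X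
        · exact zpowers_le.mpr a.c_mem_Dm (a.Z_le_c (a.eq_Z_of_sq hX h2))
        · exact (a.refl_mem ⟨q.pr_mem hx.1, hX⟩ h2).1
      exact (this h).2
    · intro h
      rw [← q.split hc]
      have hinv : ∀ x ∈ a.D, x * x = 1 → x ∈ I := fun x hx hx2 => subset_closure ⟨q.aD_le hx, hx2⟩
      have hB : q.B ≤ I := q.B_gen.trans ((closure_le _).mpr fun x hx => subset_closure ⟨q.B_le hx.1, hx.2⟩)
      refine mul_mem ?_ (hB (q.pr'_mem hc))
      have hy : a.y ∈ I := hinv _ a.off_y.1 a.y_sq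
      have hsq2 : a.x ^ (2 : ℤ) * a.y ∈ I := hinv _ (a.off_xy 2).1 (by
        rw [a.xy_xy, a.zpow_eq_one]; exact ⟨1, by ring⟩)
      have hx2 : a.x ^ (2 : ℤ) ∈ I := by
        have := mul_mem hsq2 hy
        rwa [mul_assoc, a.y_sq, mul_one] at this
      obtain ⟨i, e | e⟩ := a.mem_Dm.mp h <;> rw [e, zpow_mul]
      exacts [zpow_mem hx2 i, mul_mem (zpow_mem hx2 i) hy]
  have I_inv : ∀ {c}, c ∈ (P : Subgroup G) → (g * c * g⁻¹ ∈ I ↔ c ∈ I) := by
    have key : ∀ n ∈ normalizer ((P : Subgroup G) : Set G), ∀ c ∈ I, n * c * n⁻¹ ∈ I := by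
      intro n hn c hc
      have : I ≤ I.comap (MulAut.conj n).toMonoidHom := (closure_le _).mpr fun x hx => subset_closure
        ⟨(mem_normalizer_iff.mp hn x).mp hx.1, by
          show n * x * n⁻¹ * (n * x * n⁻¹) = 1
          rw [show n * x * n⁻¹ * (n * x * n⁻¹) = n * (x * x) * n⁻¹ by group, hx.2]; group⟩
      exact this hc
    intro c _
    exact ⟨fun h => by simpa [mul_assoc] using key g⁻¹ (inv_mem hg) _ h, key g hg c⟩
  have hprd : ∀ {c}, c ∈ (P : Subgroup G) → q.pr (c⁻¹ * (g * c * g⁻¹)) = (q.pr c)⁻¹ * q.pr (g * c * g⁻¹) :=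
    fun hc => by rw [q.pr_mul (P.inv_mem hc) (hmv hc), q.pr_inv hc]
  have hprd' : ∀ {c}, c ∈ (P : Subgroup G) → fr.pr (c⁻¹ * (g * c * g⁻¹)) = (fr.pr c)⁻¹ * fr.pr (g * c * g⁻¹) :=
    fun hc => by rw [fr.pr_mul (P.inv_mem hc) (hmv hc), fr.pr_inv hc]
  have evenX : ∀ {u v}, a.Off u → a.Off v → u ∈ a.Dm → v ∈ a.Dm → u⁻¹ * v ∈ a.X ⊓ a.Dm :=
    fun hu hv hu' hv' => ⟨a.off_mul_off ⟨inv_mem hu.1, fun h => hu.2 (inv_mem_iff.mp h)⟩ hv,
      a.Dm.mul_mem (a.Dm.inv_mem hu') hv'⟩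
  have hF_K : F ≤ K := fun f hf => fixedMod_of_mem (sqF_le fr a hQ) hFg hf
  -- bottom step
  let R : G → Prop := fun c => q.pr c ∈ a.X ⊓ a.Dm ∧ fr.pr c ∈ zpowers fr.r
  have R_iff : ∀ {c}, c ∈ (P : Subgroup G) → (R c ↔
      (∀ e ∈ F, c * e = e * c) ∧ c ∈ I ∧ (c ∈ F ∨ ∀ f ∈ F, f * f ≠ c * c)) := by
    intro c hc
    constructor
    · rintro ⟨h1, h2⟩
      refine ⟨(sqCent_iff fr a hQ hc).mpr ⟨h1.1, Or.inl h2⟩, (hIiff hc).mpr h1.2, or_iff_not_imp_left.mpr ?_⟩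
      intro hnF f hf heq
      have h3 : fr.pr c ∉ zpowers (fr.r ^ 2) := fun h => hnF ⟨hc, h1, h⟩
      have e := congrArg fr.pr heq
      rw [fr.pr_mul hf.1 hf.1, fr.pr_mul hc hc] at e
      obtain ⟨j, hj⟩ := mem_zpowers_iff.mp hf.2.2
      obtain ⟨i, hi⟩ := mem_zpowers_iff.mp h2
      rw [← hj, ← hi, ← zpow_natCast fr.r 2, ← zpow_mul, ← zpow_add, ← zpow_add] at e
      have e2 : fr.r ^ ((i + i) - (((2 : ℕ) : ℤ) * j + ((2 : ℕ) : ℤ) * j)) = 1 := by
        rw [zpow_sub, e, mul_inv_cancel]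
      rw [← orderOf_dvd_iff_zpow_eq_one, fr.order_r] at e2
      obtain ⟨m, hm⟩ := e2
      push_cast at hm
      refine h3 ⟨(fr.l : ℤ) * m + j, ?_⟩
      show (fr.r ^ 2) ^ _ = _
      rw [← hi, ← zpow_natCast, ← zpow_mul]
      congr 1
      push_cast
      linarith
    · rintro ⟨h1, h2, h3⟩
      obtain ⟨hX, hr⟩ := (sqCent_iff fr a hQ hc).mp h1
      refine ⟨⟨hX, (hIiff hc).mp h2⟩, hr.elim id fun h4 => ?_⟩
      by_contra hrf
      rcases h3 with h3 | h3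
      · exact hrf (fr.sq_rot_mem h3.2.2)
      · obtain ⟨i, hi⟩ : ∃ i : ℤ, q.pr c = a.x ^ (2 * i) := by
          obtain ⟨i, h | h⟩ := a.mem_Dm.mp ((hIiff hc).mp h2)
          exacts [⟨i, h⟩, absurd (h ▸ hX) (a.xy_notMem _)]
        have hxm : a.x ^ (2 * i) ∈ a.D := a.X_le (a.zpow_mem_X _)
        refine h3 (a.x ^ (2 * i)) ⟨q.aD_le hxm, ?_, ?_⟩ ?_
        · rw [q.pr_of_mem hxm]; exact ⟨a.zpow_mem_X _, a.mem_Dm.mpr ⟨i, Or.inl rfl⟩⟩
        · rw [← dihHalf_pr' fr a hQ (q.aD_le hxm)]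
          show q.pr' (a.x ^ (2 * i)) ∈ _
          rw [q.pr'_of_mem hxm]; exact one_mem _
        · conv_rhs => rw [← q.split (P.mul_mem hc hc)]
          rw [q.pr_sq hc, hi, q.pr'_sq hc, dihHalf_pr' fr a hQ hc, fr.refl_sq ⟨fr.pr_mem hc, hrf⟩, mul_one]
  have R_inv : ∀ {c}, c ∈ (P : Subgroup G) → (R (g * c * g⁻¹) ↔ R c) := by
    intro c hc
    rw [R_iff hc, R_iff (hmv hc), C_inv hc, I_inv hc]
    have hFiff : ∀ {d}, g * d * g⁻¹ ∈ F ↔ d ∈ F := fun {d} =>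
      ⟨fun h => by simpa [mul_assoc] using sqF_conj fr a hQ (inv_mem hg) h, fun h => hFg d h⟩
    refine and_congr_right fun _ => and_congr_right fun _ => or_congr hFiff ⟨fun h f hf e => ?_, fun h f hf e => ?_⟩
    · refine h _ (hFg f hf) ?_
      rw [show g * f * g⁻¹ * (g * f * g⁻¹) = g * (f * f) * g⁻¹ by group, e]; group
    · refine h (g⁻¹ * f * g) (hFiff.mp (by simpa [mul_assoc] using hf)) ?_
      rw [show g⁻¹ * f * g * (g⁻¹ * f * g) = g⁻¹ * (f * f) * g by group, e]; group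
  have hR : ∀ {c}, c ∈ (P : Subgroup G) → R c → c ∈ K := by
    intro c hc hcR
    have hgR := (R_inv hc).mpr hcR
    refine step hc (hF_K ⟨P.mul_mem (P.inv_mem hc) (hmv hc), ?_, ?_⟩)
    · rw [hprd hc]; exact mul_mem (inv_mem hcR.1) hgR.1
    · rw [hprd' hc]
      by_cases h : fr.pr c ∈ zpowers (fr.r ^ 2)
      · have hcF : c ∈ F := ⟨hc, hcR.1, h⟩
        exact mul_mem (inv_mem h) (hFg c hcF).2.2
      · refine rot_parity fr hcR.2 hgR.2 h fun h' => h ?_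
        have : g * c * g⁻¹ ∈ F := ⟨hmv hc, hgR.1, h'⟩
        have := sqF_conj fr a hQ (inv_mem hg) this
        rw [show g⁻¹ * (g * c * g⁻¹) * g⁻¹⁻¹ = c by group] at this
        exact this.2.2
  -- middle
  have hIK : ∀ {c}, c ∈ (P : Subgroup G) → c ∈ I → c ∈ K := by
    intro c hc hcI
    have hgI := (I_inv hc).mpr hcI
    have hd1 := (hIiff hc).mp hcI
    have hd2 := (hIiff (hmv hc)).mp hgI
    have hdP := P.mul_mem (P.inv_mem hc) (hmv hc)
    have hreflmul : fr.pr c ∉ zpowers fr.r → fr.pr (g * c * g⁻¹) ∉ zpowers fr.r →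
        (fr.pr c)⁻¹ * fr.pr (g * c * g⁻¹) ∈ zpowers fr.r := fun h h' => by
      have := fr.refl_mul_refl ⟨fr.pr_mem hc, h⟩ ⟨fr.pr_mem (hmv hc), h'⟩
      rwa [fr.refl_inv ⟨fr.pr_mem hc, h⟩]
    by_cases hl : fr.r * fr.r * (fr.r * fr.r) = 1
    · have low : ∀ {e}, e ∈ (P : Subgroup G) → q.pr e ∈ a.X ⊓ a.Dm → e ∈ K := by
        intro e he heX
        by_cases hr : fr.pr e ∈ zpowers fr.r
        · exact hR he ⟨heX, hr⟩
        · have heI : e ∈ I := (hIiff he).mpr heX.2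
          have heC : ∀ f ∈ F, e * f = f * e := (sqCent_iff fr a hQ he).mpr ⟨heX.1, Or.inr hl⟩
          obtain ⟨hgX, -⟩ := (sqCent_iff fr a hQ (hmv he)).mp ((C_inv he).mpr heC)
          have hgd := (hIiff (hmv he)).mp ((I_inv he).mpr heI)
          have hgr : fr.pr (g * e * g⁻¹) ∉ zpowers fr.r := fun h => hr ((R_inv he).mp ⟨⟨hgX, hgd⟩, h⟩).2
          refine step he (hR (P.mul_mem (P.inv_mem he) (hmv he)) ⟨?_, ?_⟩)
          · rw [hprd he]; exact mul_mem (inv_mem heX) ⟨hgX, hgd⟩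
          · rw [hprd' he]
            have := fr.refl_mul_refl ⟨fr.pr_mem he, hr⟩ ⟨fr.pr_mem (hmv he), hgr⟩
            rwa [fr.refl_inv ⟨fr.pr_mem he, hr⟩]
      by_cases hX : q.pr c ∈ a.X
      · exact low hc ⟨hX, hd1⟩
      · have hX' : q.pr (g * c * g⁻¹) ∉ a.X := fun h => hX
          ((sqCent_iff fr a hQ hc).mp ((C_inv hc).mp ((sqCent_iff fr a hQ (hmv hc)).mpr ⟨h, Or.inr hl⟩))).1
        refine step hc (low hdP ?_)
        rw [hprd hc]
        exact evenX ⟨q.pr_mem hc, hX⟩ ⟨q.pr_mem (hmv hc), hX'⟩ hd1 hd2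
    · -- the inverting class
      have inv_iff : ∀ {e}, e ∈ (P : Subgroup G) → ((∀ f ∈ F, e * f * e⁻¹ = f⁻¹) ↔
          q.pr e ∉ a.X ∧ fr.pr e ∉ zpowers fr.r) := by
        intro e he
        constructor
        · intro h
          constructor
          · intro hX
            have hx := q.aD_le (a.X_le (mem_zpowers a.x))
            have h1 := congrArg q.pr (h _ (hsq _ hx))
            rw [q.pr_conj he (P.mul_mem hx hx), q.pr_inv (P.mul_mem hx hx), q.pr_sq hx,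
              q.pr_of_mem (a.X_le (mem_zpowers a.x)), a.rot_comm hX (mul_mem (mem_zpowers _) (mem_zpowers _)),
              mul_inv_cancel_right] at h1
            exact a.x_sq_sq_ne (eq_inv_iff_mul_eq_one.mp h1)
          · intro hr
            have hx := fr.D_le fr.r_mem
            have h1 := congrArg fr.pr (h _ (hsq _ hx))
            rw [fr.pr_conj he (P.mul_mem hx hx), fr.pr_inv (P.mul_mem hx hx), fr.pr_mul hx hx,
              fr.pr_of_mem_D fr.r_mem, fr.rot_comm hr (mul_mem (mem_zpowers _) (mem_zpowers _)),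
              mul_inv_cancel_right] at h1
            exact hl (eq_inv_iff_mul_eq_one.mp h1)
        · rintro ⟨h1, h2⟩ f hf
          obtain ⟨s, hs, rfl⟩ := (mem_sqF fr a hQ).mp hf
          have hss := P.mul_mem hs hs
          refine q.ext (P.mul_mem (P.mul_mem he hss) (P.inv_mem he)) (P.inv_mem hss) ?_ ?_
          · rw [q.pr_conj he hss, q.pr_inv hss, q.pr_sq hs]
            exact a.off_inverts_sq ⟨q.pr_mem he, h1⟩ (q.pr_mem hs)
          · rw [q.pr'_conj he hss, q.pr'_inv hss, dihHalf_pr' fr a hQ he, dihHalf_pr' fr a hQ hss]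
            exact fr.refl_conj ⟨fr.pr_mem he, h2⟩ (fr.sq_rot_mem hf.2.2)
      have J_inv : ∀ {e}, e ∈ (P : Subgroup G) → (∀ f ∈ F, e * f * e⁻¹ = f⁻¹) →
          ∀ f ∈ F, g * e * g⁻¹ * f * (g * e * g⁻¹)⁻¹ = f⁻¹ := by
        intro e _ h f hf
        have hf' : g⁻¹ * f * g ∈ F := by
          have := sqF_conj fr a hQ (inv_mem hg) hf
          rwa [inv_inv] at this
        calc g * e * g⁻¹ * f * (g * e * g⁻¹)⁻¹ = g * (e * (g⁻¹ * f * g) * e⁻¹) * g⁻¹ := by group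
          _ = g * (g⁻¹ * f * g)⁻¹ * g⁻¹ := by rw [h _ hf']
          _ = f⁻¹ := by group
      have J_inv' : ∀ {e}, e ∈ (P : Subgroup G) → (∀ f ∈ F, g * e * g⁻¹ * f * (g * e * g⁻¹)⁻¹ = f⁻¹) →
          ∀ f ∈ F, e * f * e⁻¹ = f⁻¹ := by
        intro e _ h f hf
        have := h _ (hFg f hf)
        exact (MulAut.conj g).injective (by simpa [mul_assoc] using this)
      have C_ne : ∀ {e}, e ∈ (P : Subgroup G) → (q.pr e ∈ a.X ∧ fr.pr e ∈ zpowers fr.r) →
          q.pr (g * e * g⁻¹) ∈ a.X ∧ fr.pr (g * e * g⁻¹) ∈ zpowers fr.r := by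
        intro e he h
        have := (sqCent_iff fr a hQ (hmv he)).mp ((C_inv he).mpr ((sqCent_iff fr a hQ he).mpr ⟨h.1, Or.inl h.2⟩))
        exact ⟨this.1, this.2.resolve_right hl⟩
      have C_ne' : ∀ {e}, e ∈ (P : Subgroup G) → (q.pr (g * e * g⁻¹) ∈ a.X ∧ fr.pr (g * e * g⁻¹) ∈ zpowers fr.r) →
          q.pr e ∈ a.X ∧ fr.pr e ∈ zpowers fr.r := by
        intro e he h
        have := (sqCent_iff fr a hQ he).mp ((C_inv he).mp ((sqCent_iff fr a hQ (hmv he)).mpr ⟨h.1, Or.inl h.2⟩))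
        exact ⟨this.1, this.2.resolve_right hl⟩
      have low : ∀ {e}, e ∈ (P : Subgroup G) → e ∈ I →
          (q.pr e ∈ a.X ↔ fr.pr e ∈ zpowers fr.r) → e ∈ K := by
        intro e he heI hiff
        have hd := (hIiff he).mp heI
        by_cases hr : fr.pr e ∈ zpowers fr.r
        · exact hR he ⟨⟨hiff.mpr hr, hd⟩, hr⟩
        · obtain ⟨h1, h2⟩ := (inv_iff (hmv he)).mp (J_inv he ((inv_iff he).mpr ⟨fun h => hr (hiff.mp h), hr⟩))
          refine step he (hR (P.mul_mem (P.inv_mem he) (hmv he)) ⟨?_, ?_⟩)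
          · rw [hprd he]
            exact evenX ⟨q.pr_mem he, fun h => hr (hiff.mp h)⟩ ⟨q.pr_mem (hmv he), h1⟩ hd
              ((hIiff (hmv he)).mp ((I_inv he).mpr heI))
          · rw [hprd' he]
            have := fr.refl_mul_refl ⟨fr.pr_mem he, hr⟩ ⟨fr.pr_mem (hmv he), h2⟩
            rwa [fr.refl_inv ⟨fr.pr_mem he, hr⟩]
      by_cases hiff : q.pr c ∈ a.X ↔ fr.pr c ∈ zpowers fr.r
      · exact low hc hcI hiff
      · have hiff' : ¬ (q.pr (g * c * g⁻¹) ∈ a.X ↔ fr.pr (g * c * g⁻¹) ∈ zpowers fr.r) := by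
          intro h
          by_cases hx : q.pr (g * c * g⁻¹) ∈ a.X
          · obtain ⟨h1, h2⟩ := C_ne' hc ⟨hx, h.mp hx⟩
            exact hiff ⟨fun _ => h2, fun _ => h1⟩
          · obtain ⟨h1, h2⟩ := (inv_iff hc).mp (J_inv' hc ((inv_iff (hmv hc)).mpr ⟨hx, fun h' => hx (h.mpr h')⟩))
            exact hiff ⟨fun h' => absurd h' h1, fun h' => absurd h' h2⟩
        refine step hc (low hdP (mul_mem (inv_mem hcI) hgI) ?_)
        rw [hprd hc, hprd' hc]
        by_cases hX : q.pr c ∈ a.X <;> by_cases hX' : q.pr (g * c * g⁻¹) ∈ a.X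
        · have hr : fr.pr c ∉ zpowers fr.r := fun h => hiff ⟨fun _ => h, fun _ => hX⟩
          have hr' : fr.pr (g * c * g⁻¹) ∉ zpowers fr.r := fun h => hiff' ⟨fun _ => h, fun _ => hX'⟩
          exact ⟨fun _ => hreflmul hr hr', fun _ => mul_mem (inv_mem hX) hX'⟩
        · have hr : fr.pr c ∉ zpowers fr.r := fun h => hiff ⟨fun _ => h, fun _ => hX⟩
          have hr' : fr.pr (g * c * g⁻¹) ∈ zpowers fr.r :=
            by_contra fun h => hiff' ⟨fun h' => absurd h' hX', fun h' => absurd h' h⟩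
          exact ⟨fun h => absurd ((mul_mem_cancel_left (inv_mem hX)).mp h) hX',
            fun h => absurd (inv_mem_iff.mp ((mul_mem_cancel_right hr').mp h)) hr⟩
        · have hr : fr.pr c ∈ zpowers fr.r :=
            by_contra fun h => hiff ⟨fun h' => absurd h' hX, fun h' => absurd h' h⟩
          have hr' : fr.pr (g * c * g⁻¹) ∉ zpowers fr.r := fun h => hiff' ⟨fun _ => h, fun _ => hX'⟩
          exact ⟨fun h => absurd (inv_mem_iff.mp ((mul_mem_cancel_right hX').mp h)) hX,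
            fun h => absurd ((mul_mem_cancel_left (inv_mem hr)).mp h) hr'⟩
        · have hr : fr.pr c ∈ zpowers fr.r :=
            by_contra fun h => hiff ⟨fun h' => absurd h' hX, fun h' => absurd h' h⟩
          have hr' : fr.pr (g * c * g⁻¹) ∈ zpowers fr.r :=
            by_contra fun h => hiff' ⟨fun h' => absurd h' hX', fun h' => absurd h' h⟩
          exact ⟨fun _ => mul_mem (inv_mem hr) hr', fun _ => (evenX ⟨q.pr_mem hc, hX⟩ ⟨q.pr_mem (hmv hc), hX'⟩ hd1 hd2).1⟩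
  have hall : ∀ {c}, c ∈ (P : Subgroup G) → c ∈ K := by
    intro c hc
    by_cases hcI : c ∈ I
    · exact hIK hc hcI
    · have hgI : g * c * g⁻¹ ∉ I := fun h => hcI ((I_inv hc).mp h)
      have hdP := P.mul_mem (P.inv_mem hc) (hmv hc)
      refine step hc (hIK hdP ((hIiff hdP).mpr ?_))
      rw [hprd hc]
      exact a.mul_mem_Dm (inv_mem (q.pr_mem hc)) (q.pr_mem (hmv hc)) (fun h => hcI ((hIiff hc).mpr (inv_mem_iff.mp h)))
        fun h => hgI ((hIiff (hmv hc)).mpr h)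
  refine fixed_of_frattini hg ho (fun c hc => ?_) hb
  obtain ⟨s, hs, e⟩ := (mem_sqF fr a hQ).mp (hall hc).2
  rw [← e]
  exact SDSquare.sq_mem_frattini le_rfl hs

end CfsgLib.SDMixed
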