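import Cfsg.Agent.Lib.SDMixed.Refl
import Cfsg.Agent.Lib.SDSquare.Types

/-!
The two types of essential subgroups containing the other factor, and their invariant subgroups.
-/

set_option autoImplicit false
set_option linter.unusedSectionVars false

namespace CfsgLib.SDMixed

open Cfsg Cfsg.FusionSystem Subgroup CfsgLib.AfterFT.DihedralSquare CfsgLib.SDSquare

universe u
variable {G : Type u} [Group G] [Finite G] {P : Sylow 2 G} {E : Subgroup G}

/-- `E = V × B` with `V` a four group in the semidihedral factor. -/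
structure TypeV (q : Half (P : Subgroup G)) (E : Subgroup G) (u : G) : Prop where
  ess : (groupFusionSystem (P : Subgroup G)).IsEssential 2 E
  four : Four q E u
  bD : q.B ≤ E
  invZ : Inv E q.ZB

/-- `E = Q × B` with `Q` quaternion in the semidihedral factor. -/
structure TypeQ (q : Half (P : Subgroup G)) (E : Subgroup G) (u : G) : Prop where
  ess : (groupFusionSystem (P : Subgroup G)).IsEssential 2 E
  eight : Eight q E u
  mem : u ∈ E
  sq : u * u = q.a.z
  bD : q.B ≤ E

variable {q : Half (P : Subgroup G)}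

/-- An essential subgroup containing the other factor has one of the two types. -/
theorem side (hE : (groupFusionSystem (P : Subgroup G)).IsEssential 2 E) (ha : ¬ q.a.D ≤ E) (hb : q.B ≤ E)
    (hinv : ∀ u, Four q E u → Inv E q.ZB) : ∃ u, TypeV q E u ∨ TypeQ q E u := by
  have hES := hE.1.1
  rcases four_or_eight q hE ha with ⟨u, h⟩ | ⟨u, h⟩
  · exact ⟨u, Or.inl ⟨hE, h, hb, hinv u h⟩⟩
  · have huE : u ∈ E := h.u_mem_of hES fun e he => hb (q.pr'_mem (hES he))
    rcases q.a.off_cases h.off with ⟨hu, -⟩ | ⟨hu, -⟩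
    · exact (h.false_refl_full hE hu huE hb).elim
    · exact ⟨u, Or.inr ⟨hE, h, huE, hu, hb⟩⟩

theorem cent_mem_ZB (hES : E ≤ P) (hb : q.B ≤ E) {e : G} (he : e ∈ E) (h : ∀ b ∈ q.B, b * b = 1 → e * b = b * e) :
    q.pr' e ∈ q.ZB := by
  refine q.ZB_cent _ (q.pr'_mem (hES he)) fun c hc => ?_
  have key : ∀ x ∈ closure {b | b ∈ q.B ∧ b * b = 1}, q.pr' e * x = x * q.pr' e := by
    intro x hx
    suffices closure {b | b ∈ q.B ∧ b * b = 1} ≤ centralizer {q.pr' e} from
      (mem_centralizer_singleton_iff.mp (this hx)).symm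
    refine (closure_le _).mpr fun b hb' => mem_centralizer_singleton_iff.mpr ?_
    have := q.pr'_commute (hES he) (hES (hb hb'.1)) (h b hb'.1 hb'.2)
    rw [q.pr'_of_mem_b hb'.1] at this
    exact this.symm
  exact key c (q.B_gen hc)

namespace TypeV

variable {u : G} (h : TypeV q E u)
include h

theorem le : E ≤ P := h.ess.1.1

theorem Zb_le : q.ZB ≤ E := q.ZB_le.trans h.bD

theorem inv_Zb : Inv E q.ZB := h.invZ

theorem mem_cen_iff {e : G} (he : e ∈ E) : e ∈ cen E ↔ q.pr' e ∈ q.ZB := by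
  have hES := h.le
  constructor
  · intro hc
    exact cent_mem_ZB hES h.bD he fun b hb _ => (mem_cen.mp hc).2 b (h.bD hb)
  · intro hz
    exact mem_cen.mpr ⟨he, fun f hf => q.commute_of (hES he) (hES hf) (h.four.pr_comm he hf hES)
      (q.ZB_comm _ (q.pr'_mem (hES hf)) _ hz)⟩

end TypeV

namespace TypeQ

variable {u : G} (h : TypeQ q E u)
include h

theorem le : E ≤ P := h.ess.1.1

theorem inv_C : Inv E (invC E) := inv_cent inv_closure_invol

theorem invol_pr {f : G} (hf : f ∈ E) (hf2 : f * f = 1) : q.pr f ∈ q.a.Z := by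
  have e1 : q.pr f * q.pr f = 1 := by rw [← q.pr_sq (h.le hf), hf2, q.pr_one]
  by_cases hX : q.pr f ∈ q.a.X
  · exact q.a.eq_Z_of_sq hX e1
  · exact absurd ((h.sq.symm.trans (h.eight.off_sq h.le hf hX).symm).trans e1) q.a.z_ne_one

theorem mem_C {e : G} (he : e ∈ E) : e ∈ invC E ↔ q.pr' e ∈ q.ZB := by
  have hES := h.le
  constructor
  · intro hc
    exact cent_mem_ZB hES h.bD he fun b hb hb2 =>
      (mem_centralizer_iff.mp hc.2 b (subset_closure ⟨h.bD hb, hb2⟩)).symm
  · intro hz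
    refine ⟨he, mem_centralizer_iff.mpr fun w hw => ?_⟩
    suffices closure {e | e ∈ E ∧ e * e = 1} ≤ centralizer {e} from mem_centralizer_singleton_iff.mp (this hw)
    refine (closure_le _).mpr fun f hf => mem_centralizer_singleton_iff.mpr ?_
    exact q.commute_of (hES hf.1) (hES he) (q.a.Z_comm (q.pr_mem (hES he)) (h.invol_pr hf.1 hf.2))
      (q.ZB_comm _ (q.pr'_mem (hES hf.1)) _ hz).symm

theorem inv_CC : Inv E (invCC E) := inv_cent h.inv_C

theorem u_mem_C : u ∈ invC E ∧ q.a.c ∈ invC E :=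
  ⟨(h.mem_C h.mem).mpr (by rw [q.pr'_of_mem h.eight.off.1]; exact one_mem _),
    (h.mem_C h.eight.c_mem).mpr (by rw [q.pr'_of_mem (q.a.X_le q.a.c_mem_X)]; exact one_mem _)⟩

theorem mem_CC {e : G} (he : e ∈ E) : e ∈ invCC E ↔ q.pr e ∈ q.a.Z := by
  have hES := h.le
  constructor
  · intro hc
    have key : ∀ w ∈ invC E, w * e = e * w := mem_centralizer_iff.mp hc.2
    have h1 := q.pr_commute (hES h.eight.c_mem) (hES he) (key _ h.u_mem_C.2)
    rw [q.pr_of_mem (q.a.X_le q.a.c_mem_X)] at h1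
    have h2 := q.pr_commute (hES he) (hES h.mem) (key _ h.u_mem_C.1).symm
    rw [q.pr_of_mem h.eight.off.1] at h2
    exact q.a.off_comm_rot h.eight.off (q.a.c_comm_mem (q.pr_mem (hES he)) h1) h2
  · intro hz
    refine ⟨he, mem_centralizer_iff.mpr fun w hw => ?_⟩
    have hwE : w ∈ E := hw.1
    exact (q.commute_of (hES he) (hES hwE) (q.a.Z_comm (q.pr_mem (hES hwE)) hz)
      (q.ZB_comm _ (q.pr'_mem (hES he)) _ ((h.mem_C hwE).mp hw)).symm).symm

theorem mem_cen_iff {e : G} (he : e ∈ E) : e ∈ cen E ↔ q.pr e ∈ q.a.Z ∧ q.pr' e ∈ q.ZB := by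
  constructor
  · intro hc
    refine ⟨h.eight.cen_pr h.le h.mem hc, (h.mem_C he).mp ⟨he, mem_centralizer_iff.mpr fun w hw => ?_⟩⟩
    exact ((mem_cen.mp hc).2 w (inv_closure_invol.le hw)).symm
  · rintro ⟨h1, h2⟩
    exact mem_cen.mpr ⟨he, fun f hf => q.commute_of (h.le he) (h.le hf) (q.a.Z_comm (q.pr_mem (h.le hf)) h1)
      (q.ZB_comm _ (q.pr'_mem (h.le hf)) _ h2)⟩

theorem pr_mem_C {e : G} (he : e ∈ E) : q.pr e ∈ invC E :=
  (h.mem_C (h.eight.pr_mem h.le h.mem he)).mpr (by rw [q.pr'_of_mem (q.pr_mem (h.le he))]; exact one_mem _)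

end TypeQ

end CfsgLib.SDMixed
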