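import Cfsg.Agent.Lib.SDMixed.Dih
import Cfsg.Agent.Lib.SDMixed.Types
import Cfsg.Agent.Lib.SDSquare.Kill

/-!
A dihedral factor: the classification of the essential subgroups.
-/

set_option autoImplicit false
set_option linter.unusedSectionVars false

namespace CfsgLib.SDMixed

open Cfsg Cfsg.FusionSystem Subgroup CfsgLib.AfterFT.DihedralSquare CfsgLib.SDSquare

universe u
variable {G : Type u} [Group G] [Finite G] {P : Sylow 2 G} {E : Subgroup G}

/-- The trace of `E` on the dihedral factor is a four group contained in `E`. -/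
structure InVE (fr : Frame (P : Subgroup G)) (E : Subgroup G) (t : G) : Prop where
  refl : fr.IsRefl t
  sub : ∀ d, fr.InV t d → d ∈ E
  range : ∀ e ∈ E, fr.InV t (fr.pr e)

namespace InVE

variable {fr : Frame (P : Subgroup G)} {t : G} (h : InVE fr E t)
include h

theorem z_mem : fr.z ∈ E := h.sub _ (Or.inr (Or.inl rfl))

theorem t_mem : t ∈ E := h.sub _ (Or.inr (Or.inr (Or.inl rfl)))

theorem x_notMem : fr.x ∉ E := fun hx =>
  fr.x_sq_ne_one (fr.inV_sq h.refl (by have := h.range _ hx; rwa [fr.pr_of_mem_D fr.x_mem] at this))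

theorem x_comm (hES : E ≤ P) {e : G} (he : e ∈ E) : fr.x * e * fr.x⁻¹ * e⁻¹ ∈ fr.centreD := by
  rw [fr.commutator_pr fr.x_mem (hES he)]
  rcases (fr.inV_x_conj h.refl (h.range e he)).2 with e' | e' <;> rw [e']
  · rw [mul_inv_cancel]; exact one_mem _
  · rw [fr.z_comm_D (fr.pr_mem (hES he)), mul_inv_cancel_right]; exact mem_zpowers _

theorem x_norm (hES : E ≤ P) : fr.x ∈ normalizerIn (P : Subgroup G) E := by
  refine ⟨fr.D_le fr.x_mem, mem_normalizer_fintype fun e he => ?_⟩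
  have := mul_mem (zpowers_le.mpr h.z_mem (h.x_comm hES he)) he
  simpa using this

theorem x_trans (hES : E ≤ P) : IsTrans E fr.x fr.z := fun e he => by
  rcases fr.mem_centreD.mp (h.x_comm hES he) with e' | e'
  · left; rw [MulAut.conj_apply, ← mul_inv_eq_one]; exact e'
  · right; rw [MulAut.conj_apply, mul_inv_eq_iff_eq_mul.mp e', fr.z_comm (hES he)]

theorem x_fix_z : MulAut.conj fr.x fr.z = fr.z := by
  rw [MulAut.conj_apply, fr.z_comm_D fr.x_mem, mul_inv_cancel_right]

theorem centre_cen (hES : E ≤ P) {ζ : G} (hζ : ζ ∈ fr.centreD) : ζ ∈ cen E :=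
  mem_cen.mpr ⟨zpowers_le.mpr h.z_mem hζ, fun e he => by
    rcases fr.mem_centreD.mp hζ with e' | e' <;> rw [e']
    exacts [by simp, fr.z_comm (hES he)]⟩

theorem pr_mem (hES : E ≤ P) {e : G} (he : e ∈ E) : fr.pr e ∈ E := h.sub _ (h.range e he)

end InVE

variable (fr : Frame (P : Subgroup G)) (a : SDGen G) (hQ : fr.Q = a.D)
variable (hE : (groupFusionSystem (P : Subgroup G)).IsEssential 2 E)
include hE

theorem false_inV_four {t v : G} (h : InVE fr E t) (h' : Four (dihHalf fr a hQ) E v) : False := by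
  set q := dihHalf fr a hQ with hq
  have hES := hE.1.1
  have hp : ∀ {e}, e ∈ (P : Subgroup G) → q.pr' e = fr.pr e := fun he => dihHalf_pr' fr a hQ he
  have hab : ∀ x ∈ E, ∀ y ∈ E, x * y = y * x := fun x hx y hy =>
    q.commute_of (hES hx) (hES hy) (h'.pr_comm hx hy hES) (by
      rw [hp (hES hx), hp (hES hy)]; exact fr.inV_comm h.refl (h.range x hx) (h.range y hy))
  have hsyl := (isFullyNormalized_groupFusionSystem_iff P hES).mp hE.2.1
  have hNS : NoSwap (normalizer (E : Set G)) E := by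
    refine noSwap_of_sylow hsyl (fun n hn e he => (mem_normalizer_iff.mp hn e).mp he) fun s hs e he => ?_
    have hsS := hs.1
    refine q.commute_of (P.mul_mem hsS hsS) (hES he) ?_ ?_
    · rw [q.pr_sq hsS]
      refine a.Z_comm (q.pr_mem (hES he)) (a.sq_normalizing_four (q.pr_mem hsS) h'.off ?_)
      have hwS := hES h'.mem
      have hwE : s * v * s⁻¹ ∈ E := (mem_normalizer_iff.mp hs.2 v).mp h'.mem
      have hpr : q.pr (s * v * s⁻¹) = q.pr s * v * (q.pr s)⁻¹ := by rw [q.pr_conj hsS hwS, q.pr_of_mem h'.off.1]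
      rcases h'.range _ hwE with hz | hz <;> rw [hpr] at hz
      · exfalso
        refine h'.off.2 (?_ : v ∈ a.X)
        have := a.conj_mem_X (inv_mem (q.pr_mem hsS)) (a.Z_le hz)
        simpa [mul_assoc] using this
      · rw [show q.pr s * v * (q.pr s)⁻¹ * v⁻¹ = v * (v⁻¹ * (q.pr s * v * (q.pr s)⁻¹)) * v⁻¹ by group,
          ← a.Z_comm h'.off.1 hz, mul_inv_cancel_right]
        exact hz
    · rw [hp (P.mul_mem hsS hsS), hp (hES he), fr.pr_mul hsS hsS]
      refine fr.inV_comm h.refl (fr.inV_normalizing_sq h.refl (fr.pr_mem hsS) ?_) (h.range e he)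
      have := h.range _ ((mem_normalizer_iff.mp hs.2 t).mp h.t_mem)
      rwa [fr.pr_conj hsS (hES h.t_mem), fr.pr_of_mem_D h.refl.1] at this
  have hx := h.x_norm hES
  have hxt : MulAut.conj fr.x t = t * fr.z := fr.x_conj_refl h.refl
  have hy := h'.c_norm hE
  refine false_of_pairs hE hx h.x_notMem fun g hg => ?_
  set k := g * fr.x * g⁻¹ with hk'
  have hk : k ∈ normalizer (E : Set G) := mul_mem (mul_mem hg hx.2) (inv_mem hg)
  set w := MulAut.conj g fr.z with hw
  have hwE : w ∈ E := (mem_normalizer_iff.mp hg _).mp h.z_mem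
  have hw2 : w * w = 1 := by rw [hw, ← map_mul, fr.z_mul_z, map_one]
  have hw1 : w ≠ 1 := fun e => fr.z_ne_one ((MulEquiv.map_eq_one_iff _).mp e)
  have hk_apply : ∀ c, MulAut.conj k (MulAut.conj g c) = MulAut.conj g (MulAut.conj fr.x c) := fun c => by
    simp only [hk', map_mul, MulAut.mul_apply]
    rw [map_inv, MulAut.inv_apply_self]
  have hkT : IsTrans E k w := by
    intro c hc
    have hc' : MulAut.conj g⁻¹ c ∈ E := (mem_normalizer_iff.mp (inv_mem hg) c).mp hc
    have e2 : MulAut.conj g (MulAut.conj g⁻¹ c) = c := by rw [map_inv, MulAut.apply_inv_self]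
    have e3 := hk_apply (MulAut.conj g⁻¹ c)
    rw [e2] at e3
    rcases h.x_trans hES _ hc' with e | e <;> rw [e3, e]
    · exact Or.inl e2
    · exact Or.inr (by rw [map_mul, e2])
  have hkw : MulAut.conj k w = w := by rw [hw, hk_apply, h.x_fix_z]
  have hka : ∃ c ∈ E, MulAut.conj k c = c * w := ⟨MulAut.conj g t, (mem_normalizer_iff.mp hg t).mp h.t_mem, by
    rw [hk_apply, hxt, map_mul]⟩
  have hzaE : a.z ∈ E := za_memE q hE
  have finish : ∀ (y u : G) (hy : y ∈ normalizerIn (P : Subgroup G) E), y ∉ E → u ∈ E → IsTrans E y u →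
      MulAut.conj k u = u → MulAut.conj y w = w → ∃ y, ∃ hy : y ∈ normalizerIn (P : Subgroup G) E, y ∉ E ∧
        IsPGroup 2 ↥(zpowers (conjAut hk) ⊔ zpowers (conjAut hy.2)) := by
    intro y u hy hyE hu hyT hku hyw
    refine ⟨y, hy, hyE, ?_⟩
    have hcomm : ∀ c ∈ E, k * y * c * (k * y)⁻¹ = y * k * c * (y * k)⁻¹ := by
      intro c hc
      have := trans_commute hab hwE hu hkT hyT hku hyw hc
      simpa [mul_assoc] using this
    refine isPGroup_pair hES Inv.top Inv.top hk hy.2 (isPGroup_conjAut hx.1 hk) ?_ (fun c hc => ?_)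
      (fun c hc => ?_) hcomm
    · have h1 := isPGroup_conjAut (E := E) (g := 1) hy.1 (by simpa using hy.2)
      convert h1 using 3 <;> simp
    all_goals rw [hcomm c hc, mul_inv_cancel]; exact one_mem _
  have hne : fr.z ≠ a.z := fun e => fr.z_ne_one (fr.eq_one_of_mem fr.z_mem
    (by rw [e, hQ]; exact a.X_le a.z_mem_X))
  have cfa : MulAut.conj a.c a.z = a.z := c_fix_za q
  rcases hkT a.z hzaE with hku | hku
  · refine finish a.c a.z hy (h'.c_notMem hE) hzaE (h'.c_trans hE) hku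
      ((h'.c_trans hE w hwE).resolve_right fun hyw => ?_)
    exact a.z_ne_one (both_or_none hNS hk hy.2 hwE hzaE hw2 a.z_mul_z hab
      (h'.c_trans hE) hkw cfa hka hyw hku)
  · rcases hkT fr.z h.z_mem with hkz | hkz
    · refine finish fr.x fr.z hx h.x_notMem h.z_mem (h.x_trans hES) hkz
        ((h.x_trans hES w hwE).resolve_right fun hxw => ?_)
      exact fr.z_ne_one (both_or_none hNS hk hx.2 hwE h.z_mem hw2 fr.z_mul_z hab
        (h.x_trans hES) hkw h.x_fix_z hka hxw hkz)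
    · exfalso
      have hyw : MulAut.conj a.c w = w * a.z := (h'.c_trans hE w hwE).resolve_left fun e => hw1
        (both_or_none hNS hy.2 hk hzaE hwE a.z_mul_z hw2 hab hkT cfa hkw ⟨v, h'.mem, h'.c_u hE⟩ hku e)
      have hxw : MulAut.conj fr.x w = w * fr.z := (h.x_trans hES w hwE).resolve_left fun e => hw1
        (both_or_none hNS hx.2 hk h.z_mem hwE fr.z_mul_z hw2 hab hkT h.x_fix_z hkw ⟨t, h.t_mem, hxt⟩ hkz e)
      have hcx : MulAut.conj fr.x a.z = a.z := by
        rw [MulAut.conj_apply, fr.commute_DQ fr.x_mem (hQ ▸ a.X_le a.z_mem_X), mul_inv_cancel_right]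
      have hcy : MulAut.conj a.c fr.z = fr.z := by
        rw [MulAut.conj_apply, ← fr.commute_DQ fr.z_mem (hQ ▸ a.X_le a.c_mem_X), mul_inv_cancel_right]
      exact hne (no_triangle hNS hx.2 hy.2 hk h.z_mem hzaE hwE fr.z_mul_z a.z_mul_z hw2 hab h.x_fix_z hcx hcy
        cfa hkw hkz hku hxw hyw)

theorem false_inV_eight {t v : G} (h : InVE fr E t) (h' : Eight (dihHalf fr a hQ) E v) : False := by
  set q := dihHalf fr a hQ with hq
  have hES := hE.1.1
  have hp : ∀ {e}, e ∈ (P : Subgroup G) → q.pr' e = fr.pr e := fun he => dihHalf_pr' fr a hQ he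
  have hvE : v ∈ E := h'.u_mem_of hES fun e he => by rw [hp (hES he)]; exact h.pr_mem hES he
  rcases a.off_cases h'.off with ⟨hv, -⟩ | ⟨hv, -⟩
  · exact h'.false_refl hE hv hvE fun i hi j hj _ _ => by
      have hij := mul_mem (mem_sqCent.mp hi).1 (mem_sqCent.mp hj).1
      rw [hp (hES hij)]
      exact fr.inV_sq h.refl (h.range _ hij)
  · have hx := h.x_norm hES
    have hy : a.rt ∈ normalizerIn (P : Subgroup G) E := h'.rt_norm hES
    refine false_of_pairs hE hx h.x_notMem fun g hg => ⟨a.rt, hy, h'.rt_notMem hES, ?_⟩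
    set k := g * fr.x * g⁻¹ with hk'
    have hk : k ∈ normalizer (E : Set G) := mul_mem (mul_mem hg hx.2) (inv_mem hg)
    have hkc : ∀ e ∈ E, k * e * k⁻¹ * e⁻¹ ∈ cen E := by
      intro e he
      have := inv_cen.conj g hg _ (h.centre_cen hES (h.x_comm hES ((mem_normalizer_iff''.mp hg e).mp he)))
      convert this using 1
      rw [hk']; group
    have hyfix : ∀ m ∈ cen E, a.rt * m = m * a.rt := fun m hm =>
      h'.rt_fix hES (mem_cen.mp hm).1 (a.Z_le (h'.cen_pr hES hvE hm))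
    have key : ∀ e ∈ E, k * a.rt * e * (k * a.rt)⁻¹ * (a.rt * k * e * (a.rt * k)⁻¹)⁻¹ ∈ cen E := by
      intro e he
      have hye : a.rt * e * a.rt⁻¹ ∈ E := (mem_normalizer_iff.mp hy.2 e).mp he
      have hφ := hkc e he
      set φ := k * e * k⁻¹ * e⁻¹ with hφ'
      have h1 : a.rt * φ * a.rt⁻¹ = φ := mul_inv_eq_iff_eq_mul.mpr (hyfix φ hφ)
      have h2 : k * a.rt * e * (k * a.rt)⁻¹ * (a.rt * k * e * (a.rt * k)⁻¹)⁻¹ =
          k * (a.rt * e * a.rt⁻¹) * k⁻¹ * (a.rt * e * a.rt⁻¹)⁻¹ * (a.rt * φ * a.rt⁻¹)⁻¹ := by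
        rw [hφ']; group
      rw [h2, h1]
      exact mul_mem (hkc _ hye) (inv_mem hφ)
    refine isPGroup_pair hES inv_cen inv_cen hk hy.2 (isPGroup_conjAut hx.1 hk) ?_ key
      (fun e he => key e (mem_cen.mp he).1) fun e he => ?_
    · have h1 := isPGroup_conjAut (E := E) (g := 1) hy.1 (by simpa using hy.2)
      convert h1 using 3 <;> simp
    · have h1 : a.rt * e * a.rt⁻¹ = e := mul_inv_eq_iff_eq_mul.mpr (hyfix e he)
      have h2 : a.rt * (k * e * k⁻¹) * a.rt⁻¹ = k * e * k⁻¹ :=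
        mul_inv_eq_iff_eq_mul.mpr (hyfix _ (inv_cen.conj k hk e he))
      calc k * a.rt * e * (k * a.rt)⁻¹ = k * (a.rt * e * a.rt⁻¹) * k⁻¹ := by group
        _ = a.rt * (k * e * k⁻¹) * a.rt⁻¹ := by rw [h1, h2]
        _ = a.rt * k * e * (a.rt * k)⁻¹ := by group

/-- The centre of the dihedral factor is invariant under four group type. -/
theorem inv_centre {u : G} (hb : fr.D ≤ E) (h : Four (dihHalf fr a hQ) E u) : Inv E fr.centreD := by
  set q := dihHalf fr a hQ with hq
  have hES := hE.1.1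
  refine ⟨fun ζ hζ => hb (zpowers_le.mpr fr.z_mem hζ), fun g hg ζ hζ => ?_⟩
  rcases fr.mem_centreD.mp hζ with rfl | rfl
  · simp
  · have hgx := (mem_normalizer_iff.mp hg _).mp (hb fr.x_mem)
    have hgz := (mem_normalizer_iff.mp hg _).mp (hb fr.z_mem)
    have hpr : q.pr (g * fr.z * g⁻¹) = 1 := by
      rw [show g * fr.z * g⁻¹ = g * fr.x * g⁻¹ * (g * fr.x * g⁻¹) by rw [← fr.x_mul_x]; group, q.pr_sq (hES hgx),
        (h.props hgx).1]
    have hm := inv_cen.conj g hg fr.z (mem_cen.mpr ⟨hb fr.z_mem, fun e he => fr.z_comm (hES he)⟩)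
    have hz := cent_mem_ZB hES (show q.B ≤ E from hb) hgz fun b hb' _ => (mem_cen.mp hm).2 b (hb hb')
    have e := q.split (hES hgz)
    rw [hpr, one_mul] at e
    rw [e] at hz
    exact hz

/-- **Classification of the essential subgroups.** -/
theorem classify : (∃ u, TypeV (dihHalf fr a hQ) E u ∨ TypeQ (dihHalf fr a hQ) E u) ∨ ∃ t, Typical fr E t := by
  have : Fact (Nat.Prime 2) := ⟨Nat.prime_two⟩
  set q := dihHalf fr a hQ with hq
  have hne : ¬ (fr.D ≤ E ∧ fr.Q ≤ E) := fun h =>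
    (hE.lt P.2 (groupFusionSystem_isSaturated P)).not_ge (fr.prod.2.2.2.2 ▸ sup_le h.1 h.2)
  by_cases hb : fr.D ≤ E
  · exact Or.inl (side (q := q) hE (fun hA => hne ⟨hb, hQ.le.trans hA⟩) hb
      fun u h => inv_centre fr a hQ hE hb h)
  · refine Or.inr (fr.exists_typical hE hb ?_)
    obtain ⟨t, ht, hsub, hr⟩ := fr.exists_inV hE hb
    have h : InVE fr E t := ⟨ht, hsub, hr⟩
    by_contra hA
    rcases four_or_eight q hE (fun hh => hA (hQ.le.trans hh)) with ⟨v, h'⟩ | ⟨v, h'⟩
    · exact false_inV_four fr a hQ hE h h'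
    · exact false_inV_eight fr a hQ hE h h'

end CfsgLib.SDMixed
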