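import Cfsg.Agent.Lib.SDMixed.Movers
import Cfsg.Agent.Lib.SDSquare.Twist

/-!
Both types occur in the semidihedral factor, and the movers define a twisted complement.
-/

set_option autoImplicit false
set_option linter.unusedSectionVars false

namespace CfsgLib.SDMixed

open Cfsg Cfsg.FusionSystem Subgroup CfsgLib.AfterFT.DihedralSquare CfsgLib.SDSquare
open scoped commutatorElement

universe u
variable {G : Type u} [Group G] [Finite G] {P : Sylow 2 G}

/-- What is needed of the other factor. -/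
structure Ctx (q : Half (P : Subgroup G)) : Prop where
  odd : ∀ g ∈ normalizer ((P : Subgroup G) : Set G), Odd (orderOf g) → ∀ a ∈ (P : Subgroup G),
    (q.pr a)⁻¹ * q.pr (g * a * g⁻¹) ∈ q.a.Z
  cls : ∀ E, (groupFusionSystem (P : Subgroup G)).IsEssential 2 E → q.B ≤ E → ∃ u, TypeV q E u ∨ TypeQ q E u
  other : ∀ E, (groupFusionSystem (P : Subgroup G)).IsEssential 2 E → ¬ q.B ≤ E →
    ∀ g (hg : g ∈ normalizer (E : Set G)), conjAut hg ∈ extendableAut (groupFusionSystem (P : Subgroup G)) E ∨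
      ∃ d, ∃ hd : d ∈ normalizer (E : Set G), conjAut hd ∈ extendableAut (groupFusionSystem (P : Subgroup G)) E ∧
        ∀ a ∈ E, (q.pr a)⁻¹ * q.pr ((g * d⁻¹) * a * (g * d⁻¹)⁻¹) ∈ q.a.Z

/-- The trivial element extends. -/
theorem ext_one {E : Subgroup G} :
    conjAut (E := E) (g := (1 : G)) (one_mem _) ∈ extendableAut (groupFusionSystem (P : Subgroup G)) E := by
  rw [conjAut, show (⟨1, one_mem _⟩ : normalizer (E : Set G)) = 1 from rfl, map_one]
  exact one_mem _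

variable {q : Half (P : Subgroup G)} (cx : Ctx q)
include cx

/-- A subgroup of the factor containing the fusion differences is the whole factor. -/
theorem Ctx.le_of_fusion (hres : Cfsg.pResidual 2 G = ⊤) (H : Subgroup G) (hZ : q.a.Z ≤ H)
    (hsq : ∀ r ∈ q.a.X, r * r ∈ H)
    (hess : ∀ E u, TypeV q E u ∨ TypeQ q E u → ∀ g ∈ normalizer (E : Set G), ∀ a ∈ E,
      (q.pr a)⁻¹ * q.pr (g * a * g⁻¹) ∈ H) : q.a.D ≤ H := by
  haveI : Fact (Nat.Prime 2) := ⟨Nat.prime_two⟩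
  let Rel : G → G → Prop := fun a b => (q.pr a)⁻¹ * q.pr b ∈ H
  have hsymm : ∀ {a b}, Rel a b → Rel b a := fun {a b} h => by
    have := inv_mem h
    rwa [mul_inv_rev, inv_inv] at this
  have htrans : ∀ {a b c}, Rel a b → Rel b c → Rel a c := fun {a b c} h h' => by
    have := mul_mem h h'
    rwa [mul_assoc, mul_inv_cancel_left] at this
  have hinner : ∀ s ∈ (P : Subgroup G), ∀ a ∈ (P : Subgroup G), Rel a (s * a * s⁻¹) := by
    intro s hs a ha
    show (q.pr a)⁻¹ * q.pr (s * a * s⁻¹) ∈ H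
    rw [q.pr_conj hs ha]
    obtain ⟨r, hr, e⟩ := q.a.comm_sq (inv_mem (q.pr_mem ha)) (q.pr_mem hs)
    rw [show (q.pr a)⁻¹ * (q.pr s * q.pr a * (q.pr s)⁻¹) = (q.pr a)⁻¹ * q.pr s * (q.pr a)⁻¹⁻¹ * (q.pr s)⁻¹ by group, e]
    exact hsq r hr
  have key : ∀ a ∈ (P : Subgroup G), ∀ g : G, g * a * g⁻¹ ∈ (P : Subgroup G) → Rel a (g * a * g⁻¹) := by
    intro a ha g hga
    refine rel_of_alperin Rel hsymm htrans hinner (fun g hg a ha => rel_normalizer (Rel := Rel) htrans hinner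
      (fun g hg ho a ha => hZ (cx.odd g hg ho a ha)) hg ha) (fun E hE g hg => ?_) ha hga
    by_cases hb : q.B ≤ E
    · obtain ⟨u, h⟩ := cx.cls E hE hb
      refine Or.inr ⟨1, one_mem _, ext_one, fun a ha => ?_⟩
      rw [inv_one, mul_one]
      exact hess E u h g hg a ha
    · rcases cx.other E hE hb g hg with h | ⟨d, hd, h1, h2⟩
      exacts [Or.inl h, Or.inr ⟨d, hd, h1, fun a ha => hZ (h2 a ha)⟩]
  have hfoc := CfsgLib.Transfer.focalSubgroup_eq_of_pResidual_eq_top P hres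
  rw [Subgroup.focalSubgroup_def] at hfoc
  let N : Subgroup G :=
    { carrier := {y | y ∈ (P : Subgroup G) ∧ q.pr y ∈ H}
      one_mem' := ⟨one_mem _, by rw [q.pr_one]; exact one_mem _⟩
      mul_mem' := fun {a b} ha hb => ⟨mul_mem ha.1 hb.1, by rw [q.pr_mul ha.1 hb.1]; exact mul_mem ha.2 hb.2⟩
      inv_mem' := fun {a} ha => ⟨inv_mem ha.1, by rw [q.pr_inv ha.1]; exact inv_mem ha.2⟩ }
  have hle : (P : Subgroup G) ≤ N := by
    conv_lhs => rw [← hfoc]
    rw [closure_le]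
    rintro y ⟨hy, x, hx, u, rfl⟩
    refine ⟨hy, ?_⟩
    have e : ⁅x, u⁆ = x * (u * x⁻¹ * u⁻¹) := by rw [commutatorElement_def]; group
    have hu : u * x⁻¹ * u⁻¹ ∈ (P : Subgroup G) := by
      have := mul_mem (inv_mem hx) hy
      rwa [e, inv_mul_cancel_left] at this
    have h := key x⁻¹ (inv_mem hx) u hu
    simp only [Rel, q.pr_inv hx, inv_inv] at h
    rwa [e, q.pr_mul hx hu]
  intro d hd
  have := (hle (q.aD_le hd)).2
  rwa [q.pr_of_mem hd] at this

theorem Ctx.exists_typeV (hres : Cfsg.pResidual 2 G = ⊤) : ∃ E u, TypeV q E u := by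
  by_contra hcon
  push Not at hcon
  refine (q.a.refl_mem q.a.off_y q.a.y_sq).2 (cx.le_of_fusion hres q.a.Qm
    (q.a.Z_le_c.trans (zpowers_le.mpr q.a.c_mem_Qm)) (fun r hr => q.a.sq_mem_Qm (q.a.X_le hr)) ?_ q.a.off_y.1)
  rintro E u (h | h) g hg a ha
  · exact absurd h (hcon E u)
  · have hin : ∀ e ∈ E, q.pr e ∈ q.a.Qm := by
      intro e he
      have hc : zpowers q.a.c ≤ q.a.Qm := zpowers_le.mpr q.a.c_mem_Qm
      rcases h.eight.range e he with hr | hr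
      · exact hc hr
      · have := mul_mem (q.a.quat_mem h.eight.off h.sq).1 (hc hr)
        rwa [mul_inv_cancel_left] at this
    exact mul_mem (inv_mem (hin a ha)) (hin _ ((mem_normalizer_iff.mp hg a).mp ha))

theorem Ctx.exists_typeQ (hres : Cfsg.pResidual 2 G = ⊤) : ∃ E u, TypeQ q E u := by
  by_contra hcon
  push Not at hcon
  have h0 := q.a.off_xy 1
  refine (q.a.quat_mem h0 ?_).2 (cx.le_of_fusion hres q.a.Dm
    (q.a.Z_le_c.trans (zpowers_le.mpr q.a.c_mem_Dm)) (fun r hr => q.a.sq_mem_Dm (q.a.X_le hr)) ?_ h0.1)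
  · rw [q.a.xy_xy, SDGen.z, q.a.zpow_eq]
    exact ⟨0, by ring⟩
  rintro E u (h | h) g hg a ha
  · have hin : ∀ e ∈ E, q.pr e ∈ q.a.Dm := by
      intro e he
      have hZ : q.a.Z ≤ q.a.Dm := q.a.Z_le_c.trans (zpowers_le.mpr q.a.c_mem_Dm)
      rcases h.four.range e he with hr | hr
      · exact hZ hr
      · have := mul_mem (q.a.refl_mem h.four.off h.four.sq).1 (hZ hr)
        rwa [mul_inv_cancel_left] at this
    exact mul_mem (inv_mem (hin a ha)) (hin _ ((mem_normalizer_iff.mp hg a).mp ha))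
  · exact absurd h (hcon E u)

omit cx

/-- The two twisting elements. -/
structure Twist (q : Half (P : Subgroup G)) where
  /-- The twist of the reflections. -/
  eV : G
  /-- The twist of the quaternion elements. -/
  eQ : G
  eV_mem : eV ∈ q.ZB
  eQ_mem : eQ ∈ q.ZB
  hV : ∀ E u (h : TypeV q E u), ∀ g ∈ normalizer (E : Set G), h.fork.Moved g → q.pr' (g * q.a.z * g⁻¹) = eV
  hQ : ∀ E u (h : TypeQ q E u), ∀ g ∈ normalizer (E : Set G), h.fork.Moved g → q.pr' (g * q.a.c * g⁻¹) = eQ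

include cx in
theorem Ctx.exists_twist (hres : Cfsg.pResidual 2 G = ⊤) : Nonempty (Twist q) := by
  obtain ⟨E₁, u₁, h₁⟩ := cx.exists_typeV hres
  obtain ⟨E₂, u₂, h₂⟩ := cx.exists_typeQ hres
  obtain ⟨g₁, hg₁, m₁⟩ := h₁.fork.exists_moved
  obtain ⟨g₂, hg₂, m₂⟩ := h₂.fork.exists_moved
  exact ⟨⟨_, _, (h₁.w_props hg₁).2, (h₂.w_props hg₂).2, fun E u h g hg m => h.twist_unique h₁ hg hg₁ m m₁,
    fun E u h g hg m => h.twist_unique h₂ hg hg₂ m m₂⟩⟩

namespace Twist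

variable (tw : Twist q)

/-- The twist homomorphism. -/
noncomputable def zeta (p : G) : G := chi q.a.Qm tw.eV p * chi q.a.Dm tw.eQ p

theorem zeta_mem (p : G) : tw.zeta p ∈ q.ZB := mul_mem (chi_mem tw.eV_mem) (chi_mem tw.eQ_mem)

theorem zeta_mul {a b : G} (ha : a ∈ q.a.D) (hb : b ∈ q.a.D) : tw.zeta (a * b) = tw.zeta a * tw.zeta b := by
  unfold zeta
  rw [chi_mul (q.ZB_sq _ tw.eV_mem) (q.a.mul_mem_Qm ha hb), chi_mul (q.ZB_sq _ tw.eQ_mem) (q.a.mul_mem_Dm ha hb)]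
  have hc := q.ZB_comm _ (q.ZB_le (chi_mem (H := q.a.Dm) (p := a) tw.eQ_mem)) _
    (chi_mem (H := q.a.Qm) (p := b) tw.eV_mem)
  rw [mul_assoc (chi q.a.Qm tw.eV a), ← mul_assoc (chi q.a.Qm tw.eV b), hc]
  group

theorem zeta_one : tw.zeta 1 = 1 := by
  unfold zeta chi
  rw [if_pos (one_mem _), if_pos (one_mem _), one_mul]

theorem zeta_sq_part {p : G} (h1 : p ∈ q.a.Qm) (h2 : p ∈ q.a.Dm) : tw.zeta p = 1 := by
  unfold zeta chi
  rw [if_pos h1, if_pos h2, one_mul]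

theorem zeta_Z {p : G} (hp : p ∈ q.a.Z) : tw.zeta p = 1 :=
  tw.zeta_sq_part (zpowers_le.mpr q.a.c_mem_Qm (q.a.Z_le_c hp)) (zpowers_le.mpr q.a.c_mem_Dm (q.a.Z_le_c hp))

theorem zeta_refl {p : G} (hp : q.a.Off p) (h : p * p = 1) : tw.zeta p = tw.eV := by
  unfold zeta chi
  rw [if_neg (q.a.refl_mem hp h).2, if_pos (q.a.refl_mem hp h).1, mul_one]

theorem zeta_quat {p : G} (hp : q.a.Off p) (h : p * p = q.a.z) : tw.zeta p = tw.eQ := by
  unfold zeta chi
  rw [if_pos (q.a.quat_mem hp h).1, if_neg (q.a.quat_mem hp h).2, one_mul]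

theorem zeta_inv {p : G} (hp : p ∈ q.a.D) : tw.zeta p⁻¹ = (tw.zeta p)⁻¹ :=
  eq_inv_of_mul_eq_one_left (by rw [← tw.zeta_mul (inv_mem hp) hp, inv_mul_cancel, tw.zeta_one])

/-- The twisted complement. -/
noncomputable def T : Subgroup G where
  carrier := {s | s ∈ (P : Subgroup G) ∧ q.pr' s = tw.zeta (q.pr s)}
  one_mem' := ⟨one_mem _, by rw [q.pr_one, q.pr'_one, tw.zeta_one]⟩
  mul_mem' := by
    rintro a b ⟨ha, ha'⟩ ⟨hb, hb'⟩
    exact ⟨mul_mem ha hb, by rw [q.pr'_mul ha hb, q.pr_mul ha hb, tw.zeta_mul (q.pr_mem ha) (q.pr_mem hb), ha', hb']⟩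
  inv_mem' := by
    rintro a ⟨ha, ha'⟩
    exact ⟨inv_mem ha, by rw [q.pr'_inv ha, q.pr_inv ha, tw.zeta_inv (q.pr_mem ha), ha']⟩

theorem T_le : tw.T ≤ (P : Subgroup G) := fun _ h => h.1

theorem T_pr' {a : G} (ha : a ∈ tw.T) : q.pr' a ∈ q.ZB := by rw [ha.2]; exact tw.zeta_mem _

theorem conj_T {s a : G} (hs : s ∈ (P : Subgroup G)) (ha : a ∈ tw.T) : s * a * s⁻¹ ∈ tw.T := by
  refine ⟨P.mul_mem (P.mul_mem hs ha.1) (P.inv_mem hs), ?_⟩
  have hd := q.pr_mem hs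
  rw [q.pr'_conj hs ha.1, q.pr_conj hs ha.1, ← q.ZB_comm _ (q.pr'_mem hs) _ (tw.T_pr' ha), mul_inv_cancel_right, ha.2,
    tw.zeta_mul (mul_mem hd (q.pr_mem ha.1)) (inv_mem hd), tw.zeta_mul hd (q.pr_mem ha.1), tw.zeta_inv hd,
    q.ZB_comm _ (q.ZB_le (tw.zeta_mem _)) _ (tw.zeta_mem _), mul_inv_cancel_right]

/-- The twisted complement is isomorphic to the factor. -/
noncomputable def equiv : tw.T ≃* q.a.D :=
  MulEquiv.ofBijective
    (MonoidHom.mk' (fun a : tw.T => (⟨q.pr a, q.pr_mem a.2.1⟩ : q.a.D))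
      fun a b => Subtype.ext (q.pr_mul a.2.1 b.2.1))
    ⟨fun a b e => by
      have e' : q.pr (a : G) = q.pr (b : G) := congrArg Subtype.val e
      exact Subtype.ext (q.ext a.2.1 b.2.1 e' (by rw [a.2.2, b.2.2, e'])),
     fun d => by
      have hz := q.ZB_le (tw.zeta_mem d)
      refine ⟨⟨(d : G) * tw.zeta d, P.mul_mem (q.aD_le d.2) (q.B_le hz), ?_⟩, Subtype.ext ?_⟩
      · rw [q.pr'_eq d.2 hz, q.pr_eq d.2 hz]
      · exact q.pr_eq d.2 hz⟩

/-- The twisted complement and the other factor decompose `P`. -/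
theorem product : IsInternalDirectProduct tw.T q.B (P : Subgroup G) := by
  refine ⟨tw.T_le, q.B_le, fun a ha b hb => ?_, ?_, ?_⟩
  · refine q.commute_of ha.1 (q.B_le hb) (by rw [q.pr_of_mem_b hb]; simp) ?_
    exact q.ZB_comm _ (q.pr'_mem (q.B_le hb)) _ (tw.T_pr' ha)
  · rw [eq_bot_iff]
    rintro s ⟨h1, h2⟩
    rw [mem_bot]
    have e := h1.2
    rw [q.pr_of_mem_b h2, q.pr'_of_mem_b h2, tw.zeta_one] at e
    exact e
  · refine le_antisymm (sup_le tw.T_le q.B_le) fun s hs => ?_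
    have hp := q.pr_mem hs
    have hz := q.ZB_le (tw.zeta_mem (q.pr s))
    have ha : q.pr s * tw.zeta (q.pr s) ∈ tw.T :=
      ⟨P.mul_mem (q.aD_le hp) (q.B_le hz), by rw [q.pr_eq hp hz, q.pr'_eq hp hz]⟩
    have := mul_mem (mem_sup_left (T := q.B) ha) (mem_sup_right (mul_mem (inv_mem hz) (q.pr'_mem hs)))
    rwa [← mul_assoc, mul_inv_cancel_right, q.split hs] at this

end Twist

end CfsgLib.SDMixed
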