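import Cfsg.Agent.Lib.SDMixed.DihClass
import Cfsg.Agent.Lib.SDMixed.Twist

/-!
A dihedral factor: the braid steps of each side are invisible on the other one up to the centre.
-/

set_option autoImplicit false
set_option linter.unusedSectionVars false

namespace CfsgLib.SDMixed

open Cfsg Cfsg.FusionSystem Subgroup CfsgLib.AfterFT.DihedralSquare CfsgLib.SDSquare

universe u
variable {G : Type u} [Group G] [Finite G] {P : Sylow 2 G} {E : Subgroup G}

theorem step_of_moves {q : Half (P : Subgroup G)} (hES : E ≤ P) {k x : G} (hk : k ∈ normalizer (E : Set G))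
    (hx : x ∈ q.a.D) (hw : ∀ e ∈ E, q.pr' (k * e * k⁻¹ * e⁻¹) ∈ q.ZB) {g e : G} (he : e ∈ E) :
    (q.pr' e)⁻¹ * q.pr' (g * (k * x * g)⁻¹ * e * (g * (k * x * g)⁻¹)⁻¹) ∈ q.ZB := by
  have hb : k⁻¹ * e * k ∈ E := (mem_normalizer_iff''.mp hk e).mp he
  have hxP := q.aD_le (inv_mem hx)
  rw [show g * (k * x * g)⁻¹ * e * (g * (k * x * g)⁻¹)⁻¹ = x⁻¹ * (k⁻¹ * e * k) * x⁻¹⁻¹ by group,
    q.pr'_conj hxP (hES hb), q.pr'_of_mem (inv_mem hx), one_mul, inv_one, mul_one]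
  have h1 := hw _ hb
  have hd : k * (k⁻¹ * e * k) * k⁻¹ * (k⁻¹ * e * k)⁻¹ = e * (k⁻¹ * e * k)⁻¹ := by group
  rw [hd, q.pr'_mul (hES he) (P.inv_mem (hES hb)), q.pr'_inv (hES hb)] at h1
  have hc := q.ZB_comm _ (q.pr'_mem (hES he)) _ (inv_mem h1)
  rw [mul_inv_rev, inv_inv, inv_mul_cancel_right] at hc
  have h2 : (q.pr' e)⁻¹ * q.pr' (k⁻¹ * e * k) = q.pr' (k⁻¹ * e * k) * (q.pr' e)⁻¹ := by
    calc (q.pr' e)⁻¹ * q.pr' (k⁻¹ * e * k)
        = (q.pr' e)⁻¹ * (q.pr' (k⁻¹ * e * k)) := rfl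
      _ = q.pr' (k⁻¹ * e * k) * (q.pr' e)⁻¹ := by
        nth_rewrite 1 [hc]
        rw [inv_mul_cancel_left]
  rw [h2]
  simpa using inv_mem h1

/-- The step of a subgroup of four group type. -/
theorem TypeV.step {q : Half (P : Subgroup G)} {u : G} (h : TypeV q E u) {g : G} (hg : g ∈ normalizer (E : Set G)) :
    conjAut hg ∈ extendableAut (groupFusionSystem (P : Subgroup G)) E ∨
      ∃ d, ∃ hd : d ∈ normalizer (E : Set G), conjAut hd ∈ extendableAut (groupFusionSystem (P : Subgroup G)) E ∧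
        ∀ e ∈ E, (q.pr' e)⁻¹ * q.pr' ((g * d⁻¹) * e * (g * d⁻¹)⁻¹) ∈ q.ZB := by
  rcases h.fork.extend_or hg with h1 | ⟨-, hd, h1⟩
  · exact Or.inl h1
  refine Or.inr ⟨_, hd, h1, fun e he => ?_⟩
  refine step_of_moves h.le (h.fork.conjN hg) (q.a.X_le q.a.c_mem_X) (fun e he => ?_) he
  obtain ⟨hw, hw'⟩ := h.w_props hg
  rcases h.k_trans hg e he with e' | e' <;> rw [MulAut.conj_apply] at e' <;> rw [e']
  · rw [mul_inv_cancel, q.pr'_one]; exact one_mem _
  · rw [(show e * (g * q.a.z * g⁻¹) = g * q.a.z * g⁻¹ * e from ((mem_cen.mp hw).2 e he).symm), mul_inv_cancel_right]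
    exact hw'

/-- The step of a subgroup of quaternion type. -/
theorem TypeQ.step {q : Half (P : Subgroup G)} {u : G} (h : TypeQ q E u) {g : G} (hg : g ∈ normalizer (E : Set G)) :
    conjAut hg ∈ extendableAut (groupFusionSystem (P : Subgroup G)) E ∨
      ∃ d, ∃ hd : d ∈ normalizer (E : Set G), conjAut hd ∈ extendableAut (groupFusionSystem (P : Subgroup G)) E ∧
        ∀ e ∈ E, (q.pr' e)⁻¹ * q.pr' ((g * d⁻¹) * e * (g * d⁻¹)⁻¹) ∈ q.ZB := by
  rcases h.fork.extend_or hg with h1 | ⟨-, hd, h1⟩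
  · exact Or.inl h1
  refine Or.inr ⟨_, hd, h1, fun e he => ?_⟩
  refine step_of_moves h.le (h.fork.conjN hg) (q.a.X_le q.a.rt_mem_X) (fun e he => ?_) he
  obtain ⟨n, hn⟩ := mem_zpowers_iff.mp (h.k_comm hg he)
  rw [← hn]
  obtain ⟨hw, hw'⟩ := h.w_props hg
  have hwP : g * q.a.c * g⁻¹ ∈ (P : Subgroup G) := h.le hw.1
  let φ : ↥(P : Subgroup G) →* G := MonoidHom.mk' (fun m => q.pr' m) fun a b => q.pr'_mul a.2 b.2
  have e1 := map_zpow φ ⟨_, hwP⟩ n
  show q.pr' ((g * q.a.c * g⁻¹) ^ n) ∈ q.ZB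
  rw [show q.pr' ((g * q.a.c * g⁻¹) ^ n) = q.pr' (g * q.a.c * g⁻¹) ^ n from e1]
  exact zpow_mem hw' n

variable (fr : Frame (P : Subgroup G)) (a : SDGen G) (hQ : fr.Q = a.D)

/-- The dihedral side provides the context. -/
theorem dih_ctx : Ctx (dihHalf fr a hQ) := by
  set q := dihHalf fr a hQ with hq
  haveI : Fact (Nat.Prime 2) := ⟨Nat.prime_two⟩
  have hne : ∀ E, (groupFusionSystem (P : Subgroup G)).IsEssential 2 E → fr.D ≤ E → fr.Q ≤ E → False :=
    fun E hE h1 h2 => (hE.lt P.2 (groupFusionSystem_isSaturated P)).not_ge (fr.prod.2.2.2.2 ▸ sup_le h1 h2)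
  refine ⟨fun g hg ho b hb => ?_, fun E hE hb => ?_, fun E hE hb g hg => ?_⟩
  · rw [odd_central fr a hQ hg ho hb, inv_mul_cancel]; exact one_mem _
  · rcases classify fr a hQ hE with h | ⟨t, h⟩
    exacts [h, (hne E hE hb h.Q_le).elim]
  · rcases classify fr a hQ hE with ⟨u, h | h⟩ | ⟨t, h⟩
    · exact absurd h.bD hb
    · exact absurd h.bD hb
    rcases h.extendable_or_moves hg with h1 | ⟨hr, hm⟩
    · exact Or.inl h1
    obtain ⟨hd, h1⟩ := h.extendable_braid hg hr hm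
    refine Or.inr ⟨_, hd, h1, fun e he => ?_⟩
    set k := g * fr.x * g⁻¹ with hk
    have hkN : k ∈ normalizer (E : Set G) := h.exists_conj g hg
    have hwU := omegaZ_conj hg h.z_mem_U
    set w := MulAut.conj g fr.z
    have hwP := h.le hwU.1
    have hwZ : q.pr w ∈ a.Z := by
      have hc : ∀ d ∈ a.D, q.pr w * d = d * q.pr w := fun d hd => by
        have hdP := q.aD_le hd
        have := q.pr_commute hwP hdP (hwU.2.2 d (h.Q_le (hQ ▸ hd)))
        rwa [q.pr_of_mem hd] at this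
      exact a.off_comm_rot a.off_y (a.c_comm_mem (q.pr_mem hwP) (hc _ (a.X_le a.c_mem_X)).symm) (hc _ a.off_y.1)
    have hb' : k⁻¹ * e * k ∈ E := (mem_normalizer_iff''.mp hkN e).mp he
    have hx : fr.x⁻¹ ∈ q.B := inv_mem fr.x_mem
    rw [show g * (k * fr.x * g)⁻¹ * e * (g * (k * fr.x * g)⁻¹)⁻¹ = fr.x⁻¹ * (k⁻¹ * e * k) * fr.x⁻¹⁻¹ by group,
      q.pr_conj (q.B_le hx) (h.le hb'), q.pr_of_mem_b hx, one_mul, inv_one, mul_one]
    rcases h.trans_conj hg _ hb' with e' | e' <;> rw [MulAut.conj_apply] at e'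
    · have : e = k⁻¹ * e * k := by
        conv_lhs => rw [show e = k * (k⁻¹ * e * k) * k⁻¹ by group, e']
      rw [← this, inv_mul_cancel]; exact one_mem _
    · have he2 : e = k⁻¹ * e * k * w := by
        have e3 : k * (k⁻¹ * e * k) * k⁻¹ = e := by group
        exact e3.symm.trans e'
      nth_rewrite 1 [he2]
      rw [q.pr_mul (h.le hb') hwP, mul_inv_rev, inv_mul_cancel_right]
      exact inv_mem hwZ

end CfsgLib.SDMixed
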