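import Cfsg.Agent.Lib.SDMixed.Shapes

/-!
A four group or a group of order eight as projection.
-/

set_option autoImplicit false
set_option linter.unusedSectionVars false

namespace CfsgLib.SDMixed

open Cfsg Cfsg.FusionSystem Subgroup CfsgLib.AfterFT.DihedralSquare CfsgLib.SDSquare

universe u
variable {G : Type u} [Group G] [Finite G] {P : Sylow 2 G} {E : Subgroup G} (q : Half (P : Subgroup G))

namespace Four

variable {q} {u : G} (h : Four q E u)
include h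

theorem props {e : G} (he : e ∈ E) :
    q.pr e * q.pr e = 1 ∧ u * q.pr e = q.pr e * u ∧ q.pr e ∈ E ⊔ q.a.Z := by
  rcases h.range e he with hz | hz
  · exact ⟨q.a.Z_sq hz, (q.a.Z_comm h.off.1 hz).symm, mem_sup_right hz⟩
  · have e' : q.pr e = u * (u⁻¹ * q.pr e) := by group
    have hc := q.a.Z_comm h.off.1 hz
    refine ⟨?_, ?_, e' ▸ mul_mem (mem_sup_left h.mem) (mem_sup_right hz)⟩
    · rw [e']
      calc u * (u⁻¹ * q.pr e) * (u * (u⁻¹ * q.pr e)) = u * ((u⁻¹ * q.pr e) * u) * (u⁻¹ * q.pr e) := by group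
        _ = u * u * ((u⁻¹ * q.pr e) * (u⁻¹ * q.pr e)) := by rw [hc]; group
        _ = 1 := by rw [h.sq, q.a.Z_sq hz, one_mul]
    · rw [e', mul_assoc u (u⁻¹ * q.pr e) u, hc]

theorem pr_comm {e f : G} (he : e ∈ E) (hf : f ∈ E) (hES : E ≤ P) : q.pr e * q.pr f = q.pr f * q.pr e := by
  have := (h.props (mul_mem he hf)).1
  rw [q.pr_mul (hES he) (hES hf)] at this
  have i : ∀ {g}, g ∈ E → (q.pr g)⁻¹ = q.pr g := fun hg => inv_eq_of_mul_eq_one_left (h.props hg).1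
  have := inv_eq_of_mul_eq_one_left this
  rwa [mul_inv_rev, i he, i hf, eq_comm] at this

variable (hE : (groupFusionSystem (P : Subgroup G)).IsEssential 2 E)
include hE

theorem pr_mem {e : G} (he : e ∈ E) : q.pr e ∈ E :=
  (sup_le le_rfl (Za_leE q hE)) (h.props he).2.2

theorem pr'_mem {e : G} (he : e ∈ E) : q.pr' e ∈ E := by
  have := mul_mem (inv_mem (h.pr_mem hE he)) he
  nth_rewrite 2 [← q.split (hE.1.1 he)] at this
  rwa [inv_mul_cancel_left] at this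

theorem c_comm {e : G} (he : e ∈ E) : q.a.c * e * q.a.c⁻¹ * e⁻¹ ∈ q.a.Z := by
  rw [q.comm_pr (q.a.X_le q.a.c_mem_X) (hE.1.1 he)]
  by_cases hX : q.pr e ∈ q.a.X
  · rw [q.a.rot_comm_self q.a.c_mem_X hX]; exact one_mem _
  · rw [q.a.c_conj ⟨q.pr_mem (hE.1.1 he), hX⟩]; exact mem_zpowers _

theorem c_norm : q.a.c ∈ normalizerIn (P : Subgroup G) E :=
  normIn_of q hE.1.1 (q.a.X_le q.a.c_mem_X) fun e he => by
    rw [← q.comm_pr (q.a.X_le q.a.c_mem_X) (hE.1.1 he)]; exact Za_leE q hE (h.c_comm hE he)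

theorem c_notMem : q.a.c ∉ E := fun hc => by
  rcases h.range _ hc with hz | hz <;> rw [q.pr_of_mem (q.a.X_le q.a.c_mem_X)] at hz
  · exact q.a.c_notMem_Z hz
  · exact h.off.2 (by
      have := q.a.X.mul_mem q.a.c_mem_X (inv_mem (q.a.Z_le hz))
      rwa [mul_inv_rev, inv_inv, mul_inv_cancel_left] at this)

theorem c_trans : IsTrans E q.a.c q.a.z := fun e he => by
  rcases q.a.mem_Z.mp (h.c_comm hE he) with e' | e'
  · left; rw [MulAut.conj_apply, ← mul_inv_eq_one]; exact e'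
  · right; rw [MulAut.conj_apply, mul_inv_eq_iff_eq_mul.mp e', q.za_comm (hE.1.1 he)]

theorem c_u : MulAut.conj q.a.c u = u * q.a.z := by
  rw [MulAut.conj_apply, mul_inv_eq_iff_eq_mul.mp (q.a.c_conj h.off), q.a.z_comm h.off.1]

end Four

theorem c_fix_za : MulAut.conj q.a.c q.a.z = q.a.z := by
  rw [MulAut.conj_apply, ← q.za_comm (q.aD_le (q.a.X_le q.a.c_mem_X)), mul_inv_cancel_right]

variable {q}

namespace Eight

variable {u : G} (h : Eight q E u)
include h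

theorem rot_c {r : G} (hr : r ∈ zpowers q.a.c) : r ∈ E ∧ r ∈ q.a.X :=
  ⟨zpowers_le.mpr h.c_mem hr, zpowers_le.mpr q.a.c_mem_X hr⟩

theorem off_range {e : G} (he : e ∈ E) (hn : q.pr e ∉ q.a.X) : u⁻¹ * q.pr e ∈ zpowers q.a.c :=
  (h.range e he).resolve_left fun hr => hn (h.rot_c hr).2

theorem rot_range' {e : G} (he : e ∈ E) (hX : q.pr e ∈ q.a.X) : q.pr e ∈ zpowers q.a.c :=
  (h.range e he).resolve_right fun hr => h.off.2 (by
    have := q.a.X.mul_mem hX (inv_mem (h.rot_c hr).2)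
    rwa [mul_inv_rev, inv_inv, mul_inv_cancel_left] at this)

variable (hES : E ≤ P)
include hES

theorem off_sq {e : G} (he : e ∈ E) (hn : q.pr e ∉ q.a.X) : q.pr e * q.pr e = u * u := by
  have hr := h.off_range he hn
  have hoff : q.a.Off (q.pr e) := ⟨q.pr_mem (hES he), hn⟩
  have hDm : u⁻¹ * q.pr e ∈ q.a.Dm ∧ u⁻¹ * q.pr e ∈ q.a.Qm :=
    ⟨zpowers_le.mpr q.a.c_mem_Dm hr, zpowers_le.mpr q.a.c_mem_Qm hr⟩
  rcases q.a.off_cases h.off with ⟨hu, hum, -⟩ | ⟨hu, hum, -⟩ <;>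
    rcases q.a.off_cases hoff with ⟨he', -, hnQ⟩ | ⟨he', -, hnD⟩
  · rw [hu, he']
  · exact absurd (by simpa using mul_mem hum hDm.1) hnD
  · exact absurd (by simpa using mul_mem hum hDm.2) hnQ
  · rw [hu, he']

theorem sq_Z {e : G} (he : e ∈ E) : q.pr e * q.pr e ∈ q.a.Z := by
  by_cases hX : q.pr e ∈ q.a.X
  · exact q.a.sq_mem_Z_of_c (h.rot_range' he hX)
  · rw [h.off_sq hES he hX]; exact q.a.off_sq h.off

theorem rt_comm {e : G} (he : e ∈ E) : q.a.rt * e * q.a.rt⁻¹ * e⁻¹ ∈ zpowers q.a.c := by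
  rw [q.comm_pr (q.a.X_le q.a.rt_mem_X) (hES he)]
  by_cases hX : q.pr e ∈ q.a.X
  · rw [q.a.rot_comm_self q.a.rt_mem_X hX]; exact one_mem _
  · obtain ⟨ζ, hζ, e'⟩ := q.a.rot_off_sq ⟨q.pr_mem (hES he), hX⟩ q.a.rt_mem_X
    rw [e', q.a.rt_mul_rt]
    exact mul_mem (mem_zpowers _) (q.a.Z_le_c hζ)

theorem rt_norm : q.a.rt ∈ normalizerIn (P : Subgroup G) E :=
  normIn_of q hES (q.a.X_le q.a.rt_mem_X) fun e he => by
    rw [← q.comm_pr (q.a.X_le q.a.rt_mem_X) (hES he)]; exact (h.rot_c (h.rt_comm hES he)).1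

theorem rt_notMem : q.a.rt ∉ E := fun he => by
  have hp := q.pr_of_mem (q.a.X_le q.a.rt_mem_X)
  have := h.rot_range' he (by rw [hp]; exact q.a.rt_mem_X)
  rw [hp] at this
  exact q.a.rt_notMem this

theorem rt_fix {e : G} (he : e ∈ E) (hX : q.pr e ∈ q.a.X) : q.a.rt * e = e * q.a.rt :=
  (q.commute_iff_pr (q.a.X_le q.a.rt_mem_X) (hES he)).mpr (q.a.rot_comm q.a.rt_mem_X hX)

theorem pr_mem (hu : u ∈ E) {e : G} (he : e ∈ E) : q.pr e ∈ E := by
  by_cases hX : q.pr e ∈ q.a.X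
  · exact (h.rot_c (h.rot_range' he hX)).1
  · have := mul_mem hu (h.rot_c (h.off_range he hX)).1
    rwa [mul_inv_cancel_left] at this

theorem pr'_mem (hu : u ∈ E) {e : G} (he : e ∈ E) : q.pr' e ∈ E := by
  have := mul_mem (inv_mem (h.pr_mem hES hu he)) he
  nth_rewrite 2 [← q.split (hES he)] at this
  rwa [inv_mul_cancel_left] at this

theorem u_mem_of (h1 : ∀ e ∈ E, q.pr' e ∈ E) : u ∈ E := by
  obtain ⟨e, he, heu⟩ := h.lift
  have := mul_mem he (inv_mem (h1 e he))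
  nth_rewrite 1 [← q.split (hES he)] at this
  rwa [mul_inv_cancel_right, heu] at this

/-- An element of the centre of `E` projects into the centre. -/
theorem cen_pr (hu : u ∈ E) {m : G} (hm : m ∈ cen E) : q.pr m ∈ q.a.Z := by
  obtain ⟨hmE, hmc⟩ := mem_cen.mp hm
  have hX : q.pr m ∈ q.a.X := by
    refine q.a.c_comm_mem (q.pr_mem (hES hmE)) ?_
    have := q.pr_commute (hES h.c_mem) (hES hmE) (hmc _ h.c_mem).symm
    rwa [q.pr_of_mem (q.a.X_le q.a.c_mem_X)] at this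
  refine q.a.off_comm_rot h.off hX ?_
  have := q.pr_commute (hES hmE) (hES hu) (hmc _ hu)
  rwa [q.pr_of_mem h.off.1] at this

end Eight

end CfsgLib.SDMixed
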