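import Cfsg.Agent.Lib.SDSquare.Minimal
import Cfsg.Agent.Lib.QDWreathedNoIndexTwo.Main
import Cfsg.Agent.Lib.GW.Reduction
import Cfsg.Agent.Lib.DihedralTransfer

/-!
Direct factors of a group without proper normal subgroups of odd index are perfect once they have no subgroup of
index two.
-/

set_option autoImplicit false
set_option linter.unusedSectionVars false

namespace CfsgLib.SDMixed

open Cfsg Subgroup
open scoped commutatorElement

universe u
variable {H : Type u} [Group H] [Finite H] {N₁ N₂ : Subgroup H}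

/-- The projection on a direct factor. -/
theorem exists_proj (h : IsInternalDirectProduct N₁ N₂ (⊤ : Subgroup H)) :
    ∃ π : H →* ↥N₁, Function.Surjective π ∧ N₂ ≤ π.ker := by
  have hcomm : ∀ (a : ↥N₁) (b : ↥N₂), Commute (N₁.subtype a) (N₂.subtype b) := fun a b => h.2.2.1 a a.2 b b.2
  let f : ↥N₁ × ↥N₂ →* H := MonoidHom.noncommCoprod N₁.subtype N₂.subtype hcomm
  have hf : Function.Bijective f := by
    refine ⟨(injective_iff_map_eq_one f).mpr fun p hp => ?_, fun g => ?_⟩
    · change (p.1 : H) * p.2 = 1 at hp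
      have h1 : (p.1 : H) ∈ N₁ ⊓ N₂ := ⟨p.1.2, by rw [eq_inv_of_mul_eq_one_left hp]; exact N₂.inv_mem p.2.2⟩
      rw [h.2.2.2.1, mem_bot] at h1
      rw [h1, one_mul] at hp
      exact Prod.ext (Subtype.ext h1) (Subtype.ext hp)
    · have : f.range = ⊤ := by
        simp only [f]; rw [MonoidHom.noncommCoprod_range, range_subtype, range_subtype, h.2.2.2.2]
      exact MonoidHom.mem_range.mp (this ▸ Subgroup.mem_top g)
  let e := MulEquiv.ofBijective f hf
  refine ⟨(MonoidHom.fst ↥N₁ ↥N₂).comp e.symm.toMonoidHom, fun a => ⟨a, ?_⟩, fun b hb => ?_⟩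
  · have : e.symm (a : H) = (a, 1) := e.symm_apply_eq.mpr (by show (a : H) = (a : H) * 1; rw [mul_one])
    show (e.symm (a : H)).1 = a
    rw [this]
  · have : e.symm b = (1, ⟨b, hb⟩) := e.symm_apply_eq.mpr (by show b = 1 * b; rw [one_mul])
    show (e.symm b).1 = 1
    rw [this]

/-- Facts inherited by a direct factor. -/
theorem factor_data (h : IsInternalDirectProduct N₁ N₂ (⊤ : Subgroup H)) [N₁.Normal] (hO : oddCore H = ⊥)
    (hmin : ∀ M : Subgroup H, M.Normal → Odd M.index → M = ⊤) :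
    oddCore ↥N₁ = ⊥ ∧ ∀ M : Subgroup ↥N₁, M.Normal → Odd M.index → M = ⊤ := by
  obtain ⟨π, hπ, hker⟩ := exists_proj h
  refine ⟨?_, fun M hM hMo => ?_⟩
  · have h4 : (oddCore ↥N₁).map N₁.subtype = ⊥ := le_bot_iff.mp (hO ▸ CfsgLib.le_oddCore
      (by rw [card_map_of_injective N₁.subtype_injective]; exact CfsgLib.odd_card_oddCore))
    exact (map_eq_bot_iff_of_injective _ N₁.subtype_injective).mp h4
  · have := hmin (M.comap π) (hM.comap π) (by rw [index_comap_of_surjective _ hπ]; exact hMo)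
    refine eq_top_iff.mpr fun a _ => ?_
    obtain ⟨b, rfl⟩ := hπ a
    exact (this.symm ▸ Subgroup.mem_top b : b ∈ M.comap π)

theorem factor_no_two (h : IsInternalDirectProduct N₁ N₂ (⊤ : Subgroup H))
    (h2 : ∀ K : Subgroup H, N₂ ≤ K → K.index ≠ 2) (K : Subgroup ↥N₁) : K.index ≠ 2 := by
  obtain ⟨π, hπ, hker⟩ := exists_proj h
  intro hK
  exact h2 (K.comap π) (hker.trans (π.ker_le_comap K)) (by rw [index_comap_of_surjective _ hπ, hK])

/-- The product decomposition, remembering where the two strongly closed factors lie. -/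
theorem exists_product_sub (hO : oddCore H = ⊥) (P : Sylow 2 H) {T₁ T₂ : Subgroup H}
    (h : IsInternalDirectProduct T₁ T₂ (P : Subgroup H)) (h₁ : IsStronglyClosed T₁ (P : Subgroup H))
    (h₂ : IsStronglyClosed T₂ (P : Subgroup H)) :
    ∃ N : Subgroup H, N.Normal ∧ Odd N.index ∧ (P : Subgroup H) ≤ N ∧ oddCore ↥N = ⊥ ∧
      (∀ M : Subgroup ↥N, M.Normal → Odd M.index → M = ⊤) ∧
      ∃ L₁ L₂ : Subgroup ↥N, L₁.Normal ∧ L₂.Normal ∧ IsInternalDirectProduct L₁ L₂ ⊤ ∧
        T₁.subgroupOf N ≤ L₁ ∧ T₂.subgroupOf N ≤ L₂ ∧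
        (∃ S₁ : Sylow 2 ↥L₁, Nonempty ((S₁ : Subgroup ↥L₁) ≃* T₁)) ∧
        (∃ S₂ : Sylow 2 ↥L₂, Nonempty ((S₂ : Subgroup ↥L₂) ≃* T₂)) := by
  haveI : Fact (Nat.Prime 2) := ⟨Nat.prime_two⟩
  obtain ⟨N, hN, hNo, hPN, hON, hmin⟩ := SDSquare.exists_minimal_odd_normal hO P
  obtain ⟨hd, hc₁, hc₂⟩ := SDSquare.restrict_pair P N hPN h h₁ h₂
  obtain ⟨hprod, ho₁, ho₂⟩ := CfsgLib.AfterFT.PairClosed.product_decomposition
    (fun _ _ _ h => Cfsg.Agent.S0205.result h) hON hmin (P.subtype hPN) hd hc₁ hc₂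
  refine ⟨N, hN, hNo, hPN, hON, hmin, _, _, normalClosure_normal, normalClosure_normal, hprod,
    subset_normalClosure, subset_normalClosure, ?_, ?_⟩
  all_goals
    first
      | refine ⟨IsPGroup.toSylow (P := (T₁.subgroupOf N).subgroupOf _) (((P.subtype hPN).2.to_le hd.1).comap_subtype)
          (fun hd' => Nat.not_even_iff_odd.mpr ho₁ (even_iff_two_dvd.mpr hd')), ⟨?_⟩⟩
        exact (subgroupOfEquivOfLe subset_normalClosure).trans (subgroupOfEquivOfLe (h.1.trans hPN))
      | refine ⟨IsPGroup.toSylow (P := (T₂.subgroupOf N).subgroupOf _) (((P.subtype hPN).2.to_le hd.2.1).comap_subtype)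
          (fun hd' => Nat.not_even_iff_odd.mpr ho₂ (even_iff_two_dvd.mpr hd')), ⟨?_⟩⟩
        exact (subgroupOfEquivOfLe subset_normalClosure).trans (subgroupOfEquivOfLe (h.2.1.trans hPN))

variable {X : Type u} [Group X] [Finite X]

/-- No subgroup of index two and no proper normal subgroup of odd index: perfect. -/
theorem isPerfect_of_min (h2 : ∀ K : Subgroup X, K.index ≠ 2)
    (hmin : ∀ M : Subgroup X, M.Normal → Odd M.index → M = ⊤) : Group.IsPerfect X := by
  haveI : Fact (Nat.Prime 2) := ⟨Nat.prime_two⟩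
  obtain ⟨S⟩ : Nonempty (Sylow 2 X) := inferInstance
  refine ⟨hmin _ inferInstance ?_⟩
  have hfoc := CfsgLib.Transfer.focalSubgroup_eq_of_pResidual_eq_top S
    (CfsgLib.AfterFT.DihedralSquare.pResidual_eq_top fun N _ => h2 N)
  rw [Subgroup.focalSubgroup_def] at hfoc
  have hle : (S : Subgroup X) ≤ commutator X := by
    conv_lhs => rw [← hfoc]
    rw [closure_le]
    rintro y ⟨-, x, -, v, rfl⟩
    exact commutator_mem_commutator (Subgroup.mem_top x) (Subgroup.mem_top v)
  exact Nat.not_even_iff_odd.mp fun he => S.not_dvd_index ((even_iff_two_dvd.mp he).trans (index_dvd_of_le hle))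

/-- A factor with quasi-dihedral Sylow subgroups is simple. -/
theorem qd_simple (hO : oddCore X = ⊥) (h2 : ∀ K : Subgroup X, K.index ≠ 2)
    (hmin : ∀ M : Subgroup X, M.Normal → Odd M.index → M = ⊤) (S : Sylow 2 X)
    (hS : Cfsg.IsQuasiDihedral (S : Subgroup X)) : IsSimpleGroup X := by
  obtain ⟨L, hL, hLo, hsimple, -⟩ := CfsgLib.QDWNoTwo.exists_simple_odd_index S (Or.inl hS) h2 hO
  haveI := hsimple
  exact (MulEquiv.isSimpleGroup_congr ((MulEquiv.subgroupCongr (hmin L hL hLo)).trans topEquiv)).mp hsimple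

/-- A factor with dihedral Sylow subgroups is simple. -/
theorem dihedral_simple (hO : oddCore X = ⊥) (h2 : ∀ K : Subgroup X, K.index ≠ 2)
    (hmin : ∀ M : Subgroup X, M.Normal → Odd M.index → M = ⊤) (S : Sylow 2 X) {n : ℕ} (hn : 2 ≤ n)
    (e : (S : Subgroup X) ≃* DihedralGroup n) : IsSimpleGroup X ∧ ¬ IsMulCommutative X := by
  haveI := isPerfect_of_min h2 hmin
  exact CfsgLib.GW.isSimple_of_core_eq_bot ⟨S, n, hn, ⟨e⟩⟩ hO

/-- A factor with Klein Sylow subgroups is a four group, or simple. -/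
theorem klein_or_simple (hO : oddCore X = ⊥) (hmin : ∀ M : Subgroup X, M.Normal → Odd M.index → M = ⊤)
    (S : Sylow 2 X) (hS : IsKleinFour (S : Subgroup X)) (e : (S : Subgroup X) ≃* DihedralGroup 2) :
    IsKleinFour X ∨ (IsSimpleGroup X ∧ ¬ IsMulCommutative X) := by
  haveI : Fact (Nat.Prime 2) := ⟨Nat.prime_two⟩
  by_cases hall : ∀ U : Subgroup X, U ≤ (S : Subgroup X) → IsKleinFour U → CfsgLib.DihedralFusion.Lacking U
  · left
    obtain ⟨P, N, hN, hNP⟩ := CfsgLib.DihedralFusion.hasNormalPComplement_of_lacking e le_rfl hall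
    have hodd : Odd (Nat.card N) := by
      rw [← hNP.index_eq_card]
      exact Nat.not_even_iff_odd.mp fun h => P.not_dvd_index (even_iff_two_dvd.mp h)
    have hbot : N = ⊥ := le_bot_iff.mp (hO ▸ CfsgLib.le_oddCore hodd)
    have htop : (P : Subgroup X) = ⊤ := by
      have := hNP.sup_eq_top
      rwa [hbot, bot_sup_eq] at this
    let f : X ≃* (S : Subgroup X) :=
      (topEquiv.symm.trans (MulEquiv.subgroupCongr htop.symm)).trans (Sylow.equiv P S)
    exact ⟨(Nat.card_congr f.toEquiv).trans hS.card_four,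
      (Monoid.exponent_eq_of_mulEquiv f).trans hS.exponent_two⟩
  · right
    push Not at hall
    obtain ⟨U, hU, hUK, hUn⟩ := hall
    have hUS : U = (S : Subgroup X) := eq_of_le_of_card_ge hU (by rw [hS.card_four, hUK.card_four])
    have hconj := CfsgLib.DihedralFusion.all_conj_of_not_lacking e le_rfl (fun V hV hVK => by
      have hVS : V = (S : Subgroup X) := eq_of_le_of_card_ge hV (by rw [hS.card_four, hVK.card_four])
      rw [hVS, ← hUS]; exact hUn)
    exact dihedral_simple hO (CfsgLib.DihedralFusion.fusion_simple_of_all_conj e le_rfl hconj).1 hmin S le_rfl e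

end CfsgLib.SDMixed
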