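import Cfsg.Agent.Lib.SDMixed.KleinClosed
import Cfsg.Agent.Lib.SDMixed.Factors
import Cfsg.Agent.Lib.SDSquare.Final

/-!
Fusion-simple groups whose Sylow `2`-subgroup is the product of a dihedral and a semidihedral group.
-/

set_option autoImplicit false
set_option linter.unusedSectionVars false

namespace CfsgLib.SDMixed

open Cfsg Subgroup CfsgLib.AfterFT.DihedralSquare CfsgLib.SDSquare

universe u
variable {G : Type u} [Group G] [Finite G]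

/-- The possibilities for the dihedral side. -/
def DihRow (F : Type u) [Group F] : Prop :=
  Nonempty (F ≃* alternatingGroup (Fin 7)) ∨
    (∃ (K : Type) (_ : Field K) (_ : Fintype K), Odd (Fintype.card K) ∧ 5 ≤ Fintype.card K ∧
      Nonempty (F ≃* Matrix.ProjectiveSpecialLinearGroup (Fin 2) K)) ∨
    IsKleinFour F

theorem DihRow.congr {A B : Type u} [Group A] [Group B] (e : A ≃* B) (h : DihRow A) : DihRow B := by
  rcases h with hA | ⟨K, i₁, i₂, ho, h5, ⟨f⟩⟩ | h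
  · obtain ⟨f⟩ := hA
    exact Or.inl ⟨e.symm.trans f⟩
  · exact Or.inr (Or.inl ⟨K, i₁, i₂, ho, h5, ⟨e.symm.trans f⟩⟩)
  · exact Or.inr (Or.inr ⟨(Nat.card_congr e.toEquiv).symm.trans h.card_four,
      (Monoid.exponent_eq_of_mulEquiv e).symm.trans h.exponent_two⟩)

theorem dihRow_of_simple {X : Type u} [Group X] [Finite X] (hX : IsSimpleGroup X ∧ ¬ IsMulCommutative X)
    (S : Sylow 2 X) {n : ℕ} (hn : 2 ≤ n) (e : (S : Subgroup X) ≃* DihedralGroup n) : DihRow X := by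
  haveI := hX.1
  rcases CfsgLib.RankTwoModel.Rows.dihedral hX.2 S hn e with h | h
  exacts [Or.inr (Or.inl h), Or.inl h]

/-- The dihedral parameter is a power of two. -/
theorem exists_four_mul {P : Sylow 2 G} {S₁ : Subgroup G} (hS : S₁ ≤ (P : Subgroup G)) {m : ℕ} (hm : 2 ≤ m)
    (e : S₁ ≃* DihedralGroup m) : m = 2 ∨ ∃ l, 0 < l ∧ m = 4 * l := by
  haveI : Fact (Nat.Prime 2) := ⟨Nat.prime_two⟩
  obtain ⟨k, hk⟩ := (P.2.to_le hS).exists_card_eq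
  rw [Nat.card_congr e.toEquiv, DihedralGroup.nat_card] at hk
  obtain ⟨j, -, hj⟩ := (Nat.dvd_prime_pow Nat.prime_two).mp (hk ▸ dvd_mul_left m 2 : m ∣ 2 ^ k)
  rcases j with _ | _ | j
  · omega
  · left; simpa using hj
  · exact Or.inr ⟨2 ^ j, Nat.two_pow_pos j, by rw [hj, pow_succ, pow_succ]; ring⟩

/-- S3167. -/
theorem s3167 (main : RankTwoModel.Rows.Main.{u})
    (h2 : ∀ H : Subgroup G, H.index ≠ 2) (hO : Cfsg.oddCore G = ⊥)
    (S : Sylow 2 G) (S₁ S₂ : Subgroup G) (hS : Cfsg.IsInternalDirectProduct S₁ S₂ (S : Subgroup G))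
    (m : ℕ) (hm : 2 ≤ m) (e₁ : Nonempty (↥S₁ ≃* DihedralGroup m)) (h₂ : Cfsg.IsQuasiDihedral ↥S₂) :
    ∃ N : Subgroup G, N.Normal ∧ Odd N.index ∧ ∃ F₁ F₂ : Subgroup G, Cfsg.IsInternalDirectProduct F₁ F₂ N ∧
      DihRow ↥F₁ ∧ Row ↥F₂ := by
  haveI : Fact (Nat.Prime 2) := ⟨Nat.prime_two⟩
  obtain ⟨e⟩ := e₁
  obtain ⟨a, ha⟩ := exists_sdGen h₂
  rw [← ha] at hS h₂
  have hres := pResidual_eq_top fun N _ => h2 N
  obtain ⟨T₁, T₂, hT, hc₁, hc₂, hrow, ⟨e₂⟩, L, hLodd, hL⟩ :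
      ∃ T₁ T₂ : Subgroup G, IsInternalDirectProduct T₁ T₂ (S : Subgroup G) ∧
        IsStronglyClosed T₁ (S : Subgroup G) ∧ IsStronglyClosed T₂ (S : Subgroup G) ∧
        ((IsKleinFour T₁ ∧ Nonempty (T₁ ≃* DihedralGroup 2)) ∨
          (Nonempty (T₁ ≃* DihedralGroup m) ∧ ∀ g ∈ normalizer ((S : Subgroup G) : Set G), Odd (orderOf g) →
            ∀ b ∈ (S : Subgroup G), g * b * g⁻¹ = b)) ∧
        Nonempty (T₂ ≃* a.D) ∧ ∃ L : Subgroup G,
          (∀ g ∈ normalizer ((S : Subgroup G) : Set G), Odd (orderOf g) →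
            ∀ b ∈ (S : Subgroup G), b⁻¹ * (g * b * g⁻¹) ∈ L) ∧
          L ≤ closure {x | ∃ s ∈ (S : Subgroup G), s * s = x} ⊔ T₁ := by
    rcases exists_four_mul hS.1 hm e with rfl | ⟨l, hl, rfl⟩
    · obtain ⟨T₁, T₂, hT, hc₁, hc₂, hK, he₂, hd⟩ := exists_closed_klein (fun M _ => h2 M) hres a hS e
      haveI := hK
      refine ⟨T₁, T₂, hT, hc₁, hc₂, Or.inl ⟨hK, IsKleinFour.nonempty_mulEquiv⟩, he₂, _, fun g hg ho b hb => ?_,
        le_rfl⟩
      obtain ⟨s, hs, t, ht, he⟩ := hd g hg ho b hb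
      rw [he]
      exact mul_mem (mem_sup_left (subset_closure ⟨s, hs, rfl⟩)) (mem_sup_right ht)
    · obtain ⟨fr₀, -, hfQ, -⟩ := exists_frame hS hl e
      have hodd := fun g hg ho b hb => odd_central fr₀ a hfQ (g := g) hg ho (b := b) hb
      obtain ⟨T₁, T₂, hT, hc₁, hc₂, ⟨f₁⟩, he₂⟩ := exists_closed_dihedral hres a hS hl e
      exact ⟨T₁, T₂, hT, hc₁, hc₂, Or.inr ⟨⟨f₁.trans e⟩, hodd⟩, he₂, ⊥,
        fun g hg ho b hb => by rw [hodd g hg ho b hb, inv_mul_cancel]; exact one_mem _, bot_le⟩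
  obtain ⟨N, hN, hNo, hSN, hON, hmin, N₁, N₂, hN₁, hN₂, hprod, hTN₁, hTN₂, ⟨R₁, ⟨f₁⟩⟩, R₂, ⟨f₂⟩⟩ :=
    exists_product_sub hO S hT hc₁ hc₂
  haveI := hN₁
  haveI := hN₂
  haveI := hN
  have hsqN : closure {x | ∃ s ∈ (S : Subgroup G), s * s = x} ⊔ T₁ ≤ N :=
    sup_le ((closure_le _).mpr fun x ⟨s, hs, hx⟩ => hx ▸ hSN (S.mul_mem hs hs)) (hT.1.trans hSN)
  have hover : ∀ K : Subgroup ↥N, N₁ ≤ K → K.index ≠ 2 := by
    intro K hK hKi
    refine no_index_two_over S hres L hLodd N hSN K (hL.trans hsqN) ?_ hKi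
    intro x hx
    have hle : closure {x | ∃ s ∈ (S : Subgroup G), s * s = x} ⊔ T₁ ≤ K.map N.subtype := by
      refine sup_le ((closure_le _).mpr ?_) fun t ht => ⟨⟨t, hSN (hT.1 ht)⟩, hK (hTN₁ ht), rfl⟩
      rintro _ ⟨s, hs, rfl⟩
      exact ⟨⟨s, hSN hs⟩ * ⟨s, hSN hs⟩, mul_self_mem_of_index_two hKi _, rfl⟩
    obtain ⟨y, hy, e⟩ := hle (hL hx)
    rwa [show y = x from Subtype.ext e] at hy
  obtain ⟨hO₁, hm₁⟩ := factor_data hprod hON hmin
  have hprod' := isInternalDirectProduct_symm hprod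
  obtain ⟨hO₂, hm₂⟩ := factor_data hprod' hON hmin
  have h2₂ := factor_no_two hprod' hover
  have hq₂ : Cfsg.IsQuasiDihedral (R₂ : Subgroup ↥N₂) :=
    CfsgLib.GLTwoSylow.isQuasiDihedral_congr (f₂.trans e₂).symm h₂
  haveI := qd_simple hO₂ h2₂ hm₂ R₂ hq₂
  have hrow₁ : DihRow ↥N₁ := by
    rcases hrow with ⟨hK, ⟨d⟩⟩ | ⟨⟨d⟩, hodd⟩
    · have hR : IsKleinFour (R₁ : Subgroup ↥N₁) :=
        ⟨(Nat.card_congr f₁.toEquiv).trans hK.card_four, (Monoid.exponent_eq_of_mulEquiv f₁).trans hK.exponent_two⟩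
      rcases klein_or_simple hO₁ hm₁ R₁ hR (f₁.trans d) with h | h
      · exact Or.inr (Or.inr h)
      · exact dihRow_of_simple h R₁ le_rfl (f₁.trans d)
    · have h2N : ∀ K : Subgroup ↥N, K.index ≠ 2 := no_index_two S hres hodd N hSN
      exact dihRow_of_simple (dihedral_simple hO₁ (factor_no_two hprod fun K _ => h2N K) hm₁ R₁ hm (f₁.trans d))
        R₁ hm (f₁.trans d)
  refine ⟨N, hN, hNo, N₁.map N.subtype, N₂.map N.subtype, ?_,
    hrow₁.congr (N₁.equivMapOfInjective _ N.subtype_injective),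
    (row_of main R₂ hq₂).congr (N₂.equivMapOfInjective _ N.subtype_injective)⟩
  refine ⟨map_subtype_le _, map_subtype_le _, ?_, ?_, ?_⟩
  · rintro _ ⟨x, hx, rfl⟩ _ ⟨y, hy, rfl⟩
    show (x : G) * y = y * x
    exact congrArg Subtype.val (hprod.2.2.1 x hx y hy)
  · rw [← map_inf _ _ _ N.subtype_injective, hprod.2.2.2.1, Subgroup.map_bot]
  · rw [← Subgroup.map_sup, hprod.2.2.2.2, ← MonoidHom.range_eq_map, range_subtype]

end CfsgLib.SDMixed
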