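import Cfsg.Agent.Lib.SDSquare.Shapes

/-!
An element of odd order normalising a Sylow `2`-subgroup and fixing the steps of a series above the Frattini subgroup.
-/

set_option autoImplicit false
set_option linter.unusedSectionVars false

namespace CfsgLib.SDMixed

open Cfsg Cfsg.FusionSystem Subgroup CfsgLib.AfterFT.DihedralSquare

universe u
variable {G : Type u} [Group G]

/-- The elements of `P` fixed by `g` modulo `F`. -/
def fixedMod (P F : Subgroup G) (hFn : ∀ s ∈ P, ∀ f ∈ F, s * f * s⁻¹ ∈ F) (g : G) : Subgroup G where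
  carrier := {a | a ∈ P ∧ a⁻¹ * (g * a * g⁻¹) ∈ F}
  one_mem' := ⟨one_mem _, by simp⟩
  mul_mem' := by
    rintro a b ⟨ha, ha'⟩ ⟨hb, hb'⟩
    refine ⟨mul_mem ha hb, ?_⟩
    have h := mul_mem (hFn b⁻¹ (inv_mem hb) _ ha') hb'
    simpa [mul_assoc] using h
  inv_mem' := by
    rintro a ⟨ha, ha'⟩
    refine ⟨inv_mem ha, ?_⟩
    have h := inv_mem (hFn a ha _ ha')
    simpa [mul_assoc] using h

theorem mem_fixedMod {P F : Subgroup G} {hFn : ∀ s ∈ P, ∀ f ∈ F, s * f * s⁻¹ ∈ F} {g a : G} :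
    a ∈ fixedMod P F hFn g ↔ a ∈ P ∧ a⁻¹ * (g * a * g⁻¹) ∈ F := Iff.rfl

variable {P F : Subgroup G} {hFn : ∀ s ∈ P, ∀ f ∈ F, s * f * s⁻¹ ∈ F} {g : G}

theorem fixedMod_of_mem (hFP : F ≤ P) (hFg : ∀ f ∈ F, g * f * g⁻¹ ∈ F) {a : G} (ha : a ∈ F) :
    a ∈ fixedMod P F hFn g := ⟨hFP ha, mul_mem (inv_mem ha) (hFg a ha)⟩

/-- **One step of the series.** -/
theorem fixedMod_step (hg : g ∈ normalizer (P : Set G)) (ho : Odd (orderOf g)) (hFg : ∀ f ∈ F, g * f * g⁻¹ ∈ F)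
    (hsq : ∀ s ∈ P, s * s ∈ F) {a : G} (ha : a ∈ P) (hd : a⁻¹ * (g * a * g⁻¹) ∈ fixedMod P F hFn g) :
    a ∈ fixedMod P F hFn g := by
  set d := a⁻¹ * (g * a * g⁻¹) with hd'
  have hit : ∀ n : ℕ, (a * d ^ n)⁻¹ * (g ^ n * a * (g ^ n)⁻¹) ∈ F := by
    intro n
    induction n with
    | zero => simp
    | succ n ih =>
      have h1 := hFg _ ih
      have h2 := (pow_mem hd n : d ^ n ∈ fixedMod P F hFn g).2
      have e1 : a * d = g * a * g⁻¹ := by rw [hd', mul_inv_cancel_left]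
      have e : (a * d ^ (n + 1))⁻¹ * (g ^ (n + 1) * a * (g ^ (n + 1))⁻¹) =
          (d ^ n)⁻¹ * (g * d ^ n * g⁻¹) * (g * ((a * d ^ n)⁻¹ * (g ^ n * a * (g ^ n)⁻¹)) * g⁻¹) := by
        rw [pow_succ' d, ← mul_assoc a d, e1, pow_succ' g]
        group
      rw [e]
      exact mul_mem h2 h1
  have hN := inv_mem (hit (orderOf g))
  rw [pow_orderOf_eq_one g, one_mul, inv_one, mul_one, mul_inv_rev, inv_inv, inv_mul_cancel_left] at hN
  refine ⟨ha, ?_⟩
  obtain ⟨m, hm⟩ := ho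
  rw [hm, pow_succ, pow_mul, pow_two] at hN
  exact (Subgroup.mul_mem_cancel_left _ (pow_mem (hsq d hd.1) m)).mp hN

variable [Finite G] {S : Sylow 2 G}

/-- An element of odd order acting trivially modulo the Frattini subgroup centralises. -/
theorem fixed_of_frattini (hg : g ∈ normalizer ((S : Subgroup G) : Set G)) (ho : Odd (orderOf g))
    (hK : ∀ a ∈ (S : Subgroup G), a⁻¹ * (g * a * g⁻¹) ∈ (frattini ↥(S : Subgroup G)).map (S : Subgroup G).subtype)
    {a : G} (ha : a ∈ (S : Subgroup G)) : g * a * g⁻¹ = a := by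
  haveI : Fact (Nat.Prime 2) := ⟨Nat.prime_two⟩
  have h2 : conjAut hg ^ orderOf g = 1 := by
    rw [conjAut, ← map_pow, show (⟨g, hg⟩ : normalizer ((S : Subgroup G) : Set G)) ^ orderOf g = 1 from
      Subtype.ext (by simp [pow_orderOf_eq_one]), map_one]
  have hco : (orderOf (conjAut hg)).Coprime 2 :=
    Nat.Coprime.coprime_dvd_left (orderOf_dvd_of_pow_eq_one h2) ho.coprime_two_right
  have h1 : conjAut hg = 1 := by
    refine Cfsg.MetaType.eq_one_of_trivial_mod_frattini S.2 hco fun e => ?_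
    symm
    rw [QuotientGroup.eq]
    obtain ⟨f, hf, hfe⟩ := hK e e.2
    have : e⁻¹ * conjAut hg e = f := Subtype.ext hfe.symm
    rw [this]
    exact hf
  exact congrArg (fun f : MulAut ↥(S : Subgroup G) => ((f ⟨a, ha⟩ : ↥(S : Subgroup G)) : G)) h1

end CfsgLib.SDMixed
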