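import Cfsg.Agent.Lib.SDMixed.Dih

/-!
A four group as second factor: elements of odd order shift by central elements.
-/

set_option autoImplicit false
set_option linter.unusedSectionVars false

namespace CfsgLib.SDMixed

open Cfsg Cfsg.FusionSystem Subgroup CfsgLib.AfterFT.DihedralSquare CfsgLib.SDSquare

universe u
variable {G : Type u} [Group G] [Finite G] {P : Sylow 2 G}

/-- The other factor is a four group. -/
structure Kl (q : Half (P : Subgroup G)) : Prop where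
  all : q.B ≤ q.ZB
  card : Nat.card q.B = 4

/-- A four group factor gives a half. -/
def kleinHalf {a : SDGen G} {K : Subgroup G} (h : IsInternalDirectProduct a.D K (P : Subgroup G))
    (hc : ∀ k ∈ K, ∀ l ∈ K, k * l = l * k) (h2 : ∀ k ∈ K, k * k = 1) : Half (P : Subgroup G) where
  a := a
  B := K
  ZB := K
  core := 1
  prod := h
  ZB_le := le_rfl
  ZB_comm := fun b hb z hz => hc z hz b hb
  ZB_cent := fun b hb _ => hb
  ZB_sq := h2
  B_gen := fun b hb => subset_closure ⟨hb, h2 b hb⟩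
  core_mem := one_mem _
  core_roots := fun f hf g hg _ _ => hc f hf g hg

namespace Kl

variable {q : Half (P : Subgroup G)} (kl : Kl q)
include kl

theorem sq {k : G} (hk : k ∈ q.B) : k * k = 1 := q.ZB_sq k (kl.all hk)

theorem comm {g k : G} (hg : g ∈ (P : Subgroup G)) (hk : k ∈ q.B) : k * g = g * k := q.ZB_central hg (kl.all hk)

/-- The centre of `P`. -/
theorem central_iff {b : G} (hb : b ∈ (P : Subgroup G)) :
    (∀ e ∈ (P : Subgroup G), b * e = e * b) ↔ q.pr b ∈ q.a.Z := by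
  constructor
  · intro h
    have key : ∀ d ∈ q.a.D, q.pr b * d = d * q.pr b := fun d hd => by
      have := q.pr_commute hb (q.aD_le hd) (h d (q.aD_le hd))
      rwa [q.pr_of_mem hd] at this
    exact q.a.off_comm_rot q.a.off_y (q.a.c_comm_mem (q.pr_mem hb) (key _ (q.a.X_le q.a.c_mem_X)).symm)
      (key _ q.a.off_y.1)
  · intro h e he
    exact q.commute_of hb he (q.a.Z_comm (q.pr_mem he) h)
      (q.ZB_comm _ (q.pr'_mem he) _ (kl.all (q.pr'_mem hb)))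

theorem central_sq {b : G} (hb : b ∈ (P : Subgroup G)) (h : q.pr b ∈ q.a.Z) : b * b = 1 := by
  rw [← q.split (P.mul_mem hb hb), q.pr_sq hb, q.pr'_sq hb, q.a.Z_sq h, kl.sq (q.pr'_mem hb), one_mul]

theorem central_comm {b e : G} (hb : b ∈ (P : Subgroup G)) (h : q.pr b ∈ q.a.Z) (he : e ∈ (P : Subgroup G)) :
    b * e = e * b := (kl.central_iff hb).mpr h e he

variable {g : G} (hg : g ∈ normalizer ((P : Subgroup G) : Set G))
include hg

theorem conjP {b : G} (hb : b ∈ (P : Subgroup G)) : g * b * g⁻¹ ∈ (P : Subgroup G) :=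
  (mem_normalizer_iff.mp hg b).mp hb

theorem conj_central {b : G} (hb : b ∈ (P : Subgroup G)) (h : q.pr b ∈ q.a.Z) :
    q.pr (g * b * g⁻¹) ∈ q.a.Z := by
  refine (kl.central_iff (kl.conjP hg hb)).mp fun e he => ?_
  have := congrArg (MulAut.conj g) (kl.central_comm hb h ((mem_normalizer_iff''.mp hg e).mp he))
  simpa [mul_assoc] using this

theorem conj_rot {b : G} (hb : b ∈ (P : Subgroup G)) (h : q.pr b ∈ q.a.X) : q.pr (g * b * g⁻¹) ∈ q.a.X := by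
  have hr := q.aD_le (q.a.X_le q.a.rt_mem_X)
  have hs : g⁻¹ * q.a.rt * g ∈ (P : Subgroup G) := (mem_normalizer_iff''.mp hg _).mp hr
  have h1 : b * (g⁻¹ * q.a.rt * g * (g⁻¹ * q.a.rt * g)) = g⁻¹ * q.a.rt * g * (g⁻¹ * q.a.rt * g) * b := by
    refine q.commute_of hb (P.mul_mem hs hs) ?_ ?_
    · rw [q.pr_sq hs]; exact q.a.rot_comm h (q.a.sq_mem_X (q.pr_mem hs))
    · rw [q.pr'_sq hs, kl.sq (q.pr'_mem hs), mul_one, one_mul]
  have h2 : g * b * g⁻¹ * (q.a.rt * q.a.rt) = q.a.rt * q.a.rt * (g * b * g⁻¹) := by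
    have := congrArg (MulAut.conj g) h1
    simpa [mul_assoc] using this
  have h3 := q.pr_commute (kl.conjP hg hb) (P.mul_mem hr hr) h2
  rw [q.pr_sq hr, q.pr_of_mem (q.a.X_le q.a.rt_mem_X), q.a.rt_mul_rt] at h3
  exact q.a.c_comm_mem (q.pr_mem (kl.conjP hg hb)) h3.symm

theorem conj_refl {b : G} (hb : b ∈ (P : Subgroup G)) (h : q.pr b ∈ q.a.Dm) : q.pr (g * b * g⁻¹) ∈ q.a.Dm := by
  let H : Subgroup G :=
    { carrier := {b | b ∈ (P : Subgroup G) ∧ q.pr (g * b * g⁻¹) ∈ q.a.Dm}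
      one_mem' := ⟨one_mem _, by rw [mul_one, mul_inv_cancel, q.pr_one]; exact one_mem _⟩
      mul_mem' := fun {b c} hb hc => ⟨mul_mem hb.1 hc.1, by
        rw [show g * (b * c) * g⁻¹ = g * b * g⁻¹ * (g * c * g⁻¹) by group,
          q.pr_mul (kl.conjP hg hb.1) (kl.conjP hg hc.1)]
        exact mul_mem hb.2 hc.2⟩
      inv_mem' := fun {b} hb => ⟨inv_mem hb.1, by
        rw [← conj_inv, q.pr_inv (kl.conjP hg hb.1)]; exact inv_mem hb.2⟩ }
  have hinv : ∀ c ∈ (P : Subgroup G), c * c = 1 → c ∈ H := by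
    intro c hc hc2
    refine ⟨hc, ?_⟩
    have hgc := kl.conjP hg hc
    have h2 : q.pr (g * c * g⁻¹) * q.pr (g * c * g⁻¹) = 1 := by
      rw [← q.pr_sq hgc, show g * c * g⁻¹ * (g * c * g⁻¹) = g * (c * c) * g⁻¹ by group, hc2, mul_one,
        mul_inv_cancel, q.pr_one]
    by_cases hX : q.pr (g * c * g⁻¹) ∈ q.a.X
    · exact (q.a.Z_le_c.trans (zpowers_le.mpr q.a.c_mem_Dm)) (q.a.eq_Z_of_sq hX h2)
    · exact (q.a.refl_mem ⟨q.pr_mem hgc, hX⟩ h2).1
  have hD : q.a.Dm ≤ H := q.a.Dm_le_of fun t ht ht2 => hinv t (q.aD_le ht.1) ht2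
  have := mul_mem (hD h) (hinv _ (q.B_le (q.pr'_mem hb)) (kl.sq (q.pr'_mem hb)))
  rw [q.split hb] at this
  exact this.2

/-- The first projection of a shift is a square. -/
theorem shift_square {b : G} (hb : b ∈ (P : Subgroup G)) :
    ∃ i : ℤ, q.pr (b⁻¹ * (g * b * g⁻¹)) = q.a.x ^ (2 * i) := by
  have hgb := kl.conjP hg hb
  have back : g⁻¹ * (g * b * g⁻¹) * g⁻¹⁻¹ = b := by group
  rw [q.pr_mul (P.inv_mem hb) hgb, q.pr_inv hb]
  have hX : (q.pr b)⁻¹ * q.pr (g * b * g⁻¹) ∈ q.a.X := by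
    by_cases h : q.pr b ∈ q.a.X
    · exact mul_mem (inv_mem h) (kl.conj_rot hg hb h)
    · refine q.a.off_mul_off ⟨inv_mem (q.pr_mem hb), fun h' => h (inv_mem_iff.mp h')⟩ ⟨q.pr_mem hgb, fun h' => h ?_⟩
      have := kl.conj_rot (inv_mem hg) hgb h'
      rwa [back] at this
  have hD : (q.pr b)⁻¹ * q.pr (g * b * g⁻¹) ∈ q.a.Dm := by
    by_cases h : q.pr b ∈ q.a.Dm
    · exact mul_mem (inv_mem h) (kl.conj_refl hg hb h)
    · refine q.a.mul_mem_Dm (inv_mem (q.pr_mem hb)) (q.pr_mem hgb) (fun h' => h (inv_mem_iff.mp h'))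
        fun h' => h ?_
      have := kl.conj_refl (inv_mem hg) hgb h'
      rwa [back] at this
  obtain ⟨i, e | e⟩ := q.a.mem_Dm.mp hD
  · exact ⟨i, e⟩
  · exact absurd (e ▸ hX) (q.a.xy_notMem _)

variable (ho : Odd (orderOf g))
include ho

/-- The squares are fixed. -/
theorem fix_even (i : ℤ) : g * q.a.x ^ (2 * i) * g⁻¹ = q.a.x ^ (2 * i) := by
  suffices g * q.a.x ^ (2 : ℤ) * g⁻¹ = q.a.x ^ (2 : ℤ) by
    rw [zpow_mul, ← conj_zpow, this]
  have hxP : q.a.x ∈ (P : Subgroup G) := q.aD_le (q.a.X_le (mem_zpowers _))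
  have hgx := kl.conjP hg hxP
  have hX : q.pr (g * q.a.x * g⁻¹) ∈ q.a.X :=
    kl.conj_rot hg hxP (by rw [q.pr_of_mem (q.a.X_le (mem_zpowers _))]; exact mem_zpowers _)
  obtain ⟨j, hj⟩ := mem_zpowers_iff.mp hX
  have e : g * q.a.x ^ (2 : ℤ) * g⁻¹ = (q.a.x ^ (2 : ℤ)) ^ j := by
    rw [show g * q.a.x ^ (2 : ℤ) * g⁻¹ = g * q.a.x * g⁻¹ * (g * q.a.x * g⁻¹) by rw [zpow_two]; group]
    rw [← q.split (P.mul_mem hgx hgx), q.pr_sq hgx, q.pr'_sq hgx, kl.sq (q.pr'_mem hgx), mul_one, ← hj,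
      zpow_two, (Commute.refl q.a.x).mul_zpow]
  have hit : ∀ n : ℕ, g ^ n * q.a.x ^ (2 : ℤ) * (g ^ n)⁻¹ = (q.a.x ^ (2 : ℤ)) ^ (j ^ n) := by
    intro n
    induction n with
    | zero => simp
    | succ n ih =>
      rw [pow_succ' g, show g * g ^ n * q.a.x ^ (2 : ℤ) * (g * g ^ n)⁻¹ =
        g * (g ^ n * q.a.x ^ (2 : ℤ) * (g ^ n)⁻¹) * g⁻¹ by group, ih, ← conj_zpow, e, ← zpow_mul, pow_succ']
  have h1 := hit (orderOf g)
  rw [pow_orderOf_eq_one g, one_mul, inv_one, mul_one, ← zpow_mul, q.a.zpow_eq] at h1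
  obtain ⟨d, hd⟩ := h1
  have h2 : ((4 * q.a.M : ℕ) : ℤ) ∣ j ^ orderOf g - 1 := ⟨d, by push_cast; linarith⟩
  obtain ⟨k, hk⟩ := q.a.two_pow
  obtain ⟨c, hc⟩ := odd_root_eq_one ⟨k + 2, by rw [hk, pow_add]; ring⟩ ho h2
  push_cast at hc
  rw [e, ← zpow_mul, q.a.zpow_eq]
  exact ⟨-c, by linarith⟩

/-- **Odd elements shift by central elements.** -/
theorem shift {b : G} (hb : b ∈ (P : Subgroup G)) : q.pr (b⁻¹ * (g * b * g⁻¹)) ∈ q.a.Z := by
  obtain ⟨i, hi⟩ := kl.shift_square hg hb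
  set δ := b⁻¹ * (g * b * g⁻¹) with hδ
  have hgb := kl.conjP hg hb
  have hδP : δ ∈ (P : Subgroup G) := P.mul_mem (P.inv_mem hb) hgb
  set r := q.a.x ^ (2 * i) with hr
  have hrD : r ∈ q.a.D := q.a.X_le (q.a.zpow_mem_X _)
  have hrn : ∀ n : ℕ, g * r ^ n * g⁻¹ = r ^ n := fun n => by rw [← conj_pow, kl.fix_even hg ho]
  have hit : ∀ n : ℕ, ∃ v ∈ (P : Subgroup G), q.pr v ∈ q.a.Z ∧ g ^ n * b * (g ^ n)⁻¹ = b * r ^ n * v := by
    intro n
    induction n with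
    | zero => exact ⟨1, one_mem _, by rw [q.pr_one]; exact one_mem _, by simp⟩
    | succ n ih =>
      obtain ⟨v, hv, hvZ, e⟩ := ih
      set l := q.pr' δ with hl
      have hlB := q.pr'_mem hδP
      refine ⟨l * (g * v * g⁻¹), P.mul_mem (q.B_le hlB) (kl.conjP hg hv), ?_, ?_⟩
      · rw [q.pr_mul (q.B_le hlB) (kl.conjP hg hv), q.pr_of_mem_b hlB, one_mul]
        exact kl.conj_central hg hv hvZ
      · have e1 : g * b * g⁻¹ = b * (r * l) := by
          rw [← hi, hl, q.split hδP, hδ, mul_inv_cancel_left]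
        rw [pow_succ' g, show g * g ^ n * b * (g * g ^ n)⁻¹ = g * (g ^ n * b * (g ^ n)⁻¹) * g⁻¹ by group, e,
          show g * (b * r ^ n * v) * g⁻¹ = g * b * g⁻¹ * (g * r ^ n * g⁻¹) * (g * v * g⁻¹) by group, e1, hrn,
          pow_succ']
        calc b * (r * l) * r ^ n * (g * v * g⁻¹) = b * r * (l * r ^ n) * (g * v * g⁻¹) := by group
          _ = b * r * (r ^ n * l) * (g * v * g⁻¹) := by rw [kl.comm (q.aD_le (pow_mem hrD n)) hlB]
          _ = b * (r * r ^ n) * (l * (g * v * g⁻¹)) := by group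
  obtain ⟨v, hv, hvZ, e⟩ := hit (orderOf g)
  rw [pow_orderOf_eq_one g, one_mul, inv_one, mul_one, mul_assoc, left_eq_mul] at e
  have h1 : r ^ orderOf g ∈ q.a.Z := by
    have hrP := q.aD_le (pow_mem hrD (orderOf g))
    have := congrArg q.pr e
    rw [q.pr_mul hrP hv, q.pr_of_mem (pow_mem hrD _), q.pr_one, mul_eq_one_iff_eq_inv] at this
    rw [this]; exact inv_mem hvZ
  rw [hi]
  show r ∈ q.a.Z
  obtain ⟨k, hk⟩ := q.a.two_pow
  obtain ⟨A, B, hAB⟩ : ∃ A B : ℤ, (orderOf g : ℤ) * A + (8 * (q.a.M : ℤ)) * B = 1 := by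
    have hco : Nat.Coprime (orderOf g) (8 * q.a.M) := by
      rw [hk, show 8 * 2 ^ k = 2 ^ (k + 3) by rw [pow_add]; ring]
      exact (Nat.coprime_two_right.mpr ho).pow_right _
    refine ⟨Nat.gcdA (orderOf g) (8 * q.a.M), Nat.gcdB (orderOf g) (8 * q.a.M), ?_⟩
    have h := Nat.gcd_eq_gcd_ab (orderOf g) (8 * q.a.M)
    rw [hco] at h
    push_cast at h
    linarith
  have h8 : r ^ (8 * (q.a.M : ℤ)) = 1 := by
    rw [hr, ← zpow_mul, q.a.zpow_eq_one]; exact ⟨2 * i, by ring⟩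
  rw [← zpow_one r, ← hAB, zpow_add, zpow_mul, zpow_natCast, zpow_mul, h8, one_zpow, mul_one]
  exact zpow_mem h1 A

/-- The shift is a homomorphism. -/
theorem shift_mul {b c : G} (hb : b ∈ (P : Subgroup G)) (hc : c ∈ (P : Subgroup G)) :
    (b * c)⁻¹ * (g * (b * c) * g⁻¹) = b⁻¹ * (g * b * g⁻¹) * (c⁻¹ * (g * c * g⁻¹)) := by
  have h := kl.central_comm (P.mul_mem (P.inv_mem hb) (kl.conjP hg hb)) (kl.shift hg ho hb) (P.inv_mem hc)
  calc (b * c)⁻¹ * (g * (b * c) * g⁻¹) = c⁻¹ * (b⁻¹ * (g * b * g⁻¹)) * (g * c * g⁻¹) := by group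
    _ = b⁻¹ * (g * b * g⁻¹) * c⁻¹ * (g * c * g⁻¹) := by rw [h]
    _ = b⁻¹ * (g * b * g⁻¹) * (c⁻¹ * (g * c * g⁻¹)) := by group

theorem fix_za : g * q.a.z * g⁻¹ = q.a.z := by
  have := kl.fix_even hg ho (2 * (q.a.M : ℤ))
  rwa [show 2 * (2 * (q.a.M : ℤ)) = 4 * (q.a.M : ℤ) by ring] at this

end Kl

end CfsgLib.SDMixed
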