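import Cfsg.Agent.Lib.SDMixed.KleinCtx
import Cfsg.Agent.Lib.SDMixed.Closed
import Mathlib.GroupTheory.SpecificGroups.KleinFour

/-!
A four group as second factor: both complements are strongly closed.
-/

set_option autoImplicit false
set_option linter.unusedSectionVars false

namespace CfsgLib.SDMixed

open Cfsg Cfsg.FusionSystem Subgroup CfsgLib.AfterFT.DihedralSquare CfsgLib.SDSquare

universe u
variable {G : Type u} [Group G] [Finite G] {P : Sylow 2 G} {q : Half (P : Subgroup G)}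

variable (kl : Kl q)
include kl

/-- The four group and a split semidihedral factor are strongly closed. -/
theorem klein_strongly_closed {σ : G} (sg : Sig q σ) (hres : Cfsg.pResidual 2 G = ⊤) (tw : Twist q) :
    IsStronglyClosed tw.T (P : Subgroup G) ∧ IsStronglyClosed q.B (P : Subgroup G) := by
  haveI : Fact (Nat.Prime 2) := ⟨Nat.prime_two⟩
  have cx := klein_ctx kl sg
  have hζ := zeta_eq_one kl sg hres tw
  have hT : ∀ {b}, b ∈ tw.T → q.pr' b = 1 := fun hb => (hb.2 : q.pr' _ = _).trans (hζ _)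
  have hBE : ∀ E, (groupFusionSystem (P : Subgroup G)).IsEssential 2 E → q.B ≤ E := fun E hE b hb =>
    SDSquare.mem_of_cent hE (q.B_le hb) fun e he => kl.comm (hE.1.1 he) hb
  have hBZ : q.ZB = q.B := le_antisymm q.ZB_le kl.all
  obtain ⟨E₁, v₁, h₁⟩ := cx.exists_typeV hres
  obtain ⟨E₂, v₂, h₂⟩ := cx.exists_typeQ hres
  obtain ⟨g₁, hg₁, m₁⟩ := h₁.fork.exists_moved
  obtain ⟨g₂, hg₂, m₂⟩ := h₂.fork.exists_moved
  have hodd : ∀ g ∈ normalizer ((P : Subgroup G) : Set G), Odd (orderOf g) →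
      (∀ b ∈ tw.T, g * b * g⁻¹ ∈ tw.T) ∧ ∀ b ∈ q.B, g * b * g⁻¹ ∈ q.B := by
    intro g hg ho
    have hshift : ∀ b ∈ (P : Subgroup G), (q.pr b)⁻¹ * q.pr (g * b * g⁻¹) ∈ q.a.Z := fun b hb => cx.odd g hg ho b hb
    have hN₁ : g ∈ normalizer (E₁ : Set G) := h₁.four.norm_of_shift h₁.ess h₁.bD hg hshift
    refine ⟨?_, fun b hb => by
      have := h₁.inv_Zb.conj g hN₁ b (kl.all hb)
      exact q.ZB_le this⟩
    have hN₂ : g ∈ normalizer (E₂ : Set G) := by
      refine mem_normalizer_fintype fun e he => h₂.mem_iff.mpr ?_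
      have heP := h₂.le he
      refine ⟨(mem_normalizer_iff.mp hg e).mp heP, ?_⟩
      have e1 : q.pr (g * e * g⁻¹) = q.pr e * ((q.pr e)⁻¹ * q.pr (g * e * g⁻¹)) := by group
      have hz := q.a.Z_le_c (hshift e heP)
      rcases h₂.eight.range e he with hr | hr
      · left; rw [e1]; exact mul_mem hr hz
      · right; rw [e1, ← mul_assoc]; exact mul_mem hr hz
    let H : Subgroup G :=
      { carrier := {b | b ∈ tw.T ∧ g * b * g⁻¹ ∈ tw.T}
        one_mem' := ⟨one_mem _, by rw [mul_one, mul_inv_cancel]; exact one_mem _⟩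
        mul_mem' := fun {b c} hb hc => ⟨mul_mem hb.1 hc.1, by
          rw [show g * (b * c) * g⁻¹ = g * b * g⁻¹ * (g * c * g⁻¹) by group]; exact mul_mem hb.2 hc.2⟩
        inv_mem' := fun {b} hb => ⟨inv_mem hb.1, by rw [← conj_inv]; exact inv_mem hb.2⟩ }
    set w₁ := g₁ * q.a.z * g₁⁻¹ with hw₁
    set w₂ := g₂ * q.a.c * g₂⁻¹ with hw₂
    have hH₁ : w₁ ∈ H := ⟨h₁.w_mem_T tw hg₁, by
      have := h₁.w_mem_T tw (mul_mem hN₁ hg₁)
      rwa [show g * g₁ * q.a.z * (g * g₁)⁻¹ = g * w₁ * g⁻¹ by rw [hw₁]; group] at this⟩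
    have hH₂ : w₂ ∈ H := ⟨h₂.w_mem_T tw hg₂, by
      have := h₂.w_mem_T tw (mul_mem hN₂ hg₂)
      rwa [show g * g₂ * q.a.c * (g * g₂)⁻¹ = g * w₂ * g⁻¹ by rw [hw₂]; group] at this⟩
    have hP₁ : w₁ ∈ (P : Subgroup G) := hH₁.1.1
    have hP₂ : w₂ ∈ (P : Subgroup G) := hH₂.1.1
    have c₁ : q.pr w₁ ∈ q.a.Dm ∧ q.pr w₁ ∉ q.a.Qm :=
      q.a.refl_mem ⟨q.pr_mem hP₁, (h₁.moved_iff hg₁).mp m₁⟩ (h₁.four.props (mem_cen.mp (h₁.w_props hg₁).1).1).1
    have c₂ : q.pr w₂ ∈ q.a.Qm ∧ q.pr w₂ ∉ q.a.Dm :=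
      q.a.quat_mem ⟨q.pr_mem hP₂, (h₂.moved_iff hg₂).mp m₂⟩
        ((h₂.eight.off_sq h₂.le (h₂.w_props hg₂).1.1 ((h₂.moved_iff hg₂).mp m₂)).trans h₂.sq)
    have heven : ∀ b ∈ tw.T, q.pr b ∈ q.a.Dm → q.pr b ∈ q.a.Qm → b ∈ H := by
      intro b hb h1 h2
      have hX : q.pr b ∈ q.a.X := by
        by_contra hX
        rcases q.a.off_cases ⟨q.pr_mem hb.1, hX⟩ with ⟨-, -, e⟩ | ⟨-, -, e⟩
        exacts [e h2, e h1]
      obtain ⟨i, hi | hi⟩ := q.a.mem_Dm.mp h1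
      · have hb' : b = q.a.x ^ (2 * i) := by rw [← q.split hb.1, hT hb, mul_one, hi]
        refine ⟨hb, ?_⟩
        rw [hb', kl.fix_even hg ho, ← hb']
        exact hb
      · exact absurd (hi ▸ hX) (q.a.xy_notMem _)
    have hQm : ∀ b ∈ tw.T, q.pr b ∈ q.a.Qm → b ∈ H := by
      intro b hb h2
      by_cases h1 : q.pr b ∈ q.a.Dm
      · exact heven b hb h1 h2
      · have := mul_mem (inv_mem hH₂) (heven _ (mul_mem hH₂.1 hb)
          (by rw [q.pr_mul hP₂ hb.1]; exact q.a.mul_mem_Dm (q.pr_mem hP₂) (q.pr_mem hb.1) c₂.2 h1)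
          (by rw [q.pr_mul hP₂ hb.1]; exact mul_mem c₂.1 h2))
        rwa [inv_mul_cancel_left] at this
    intro b hb
    by_cases h2 : q.pr b ∈ q.a.Qm
    · exact (hQm b hb h2).2
    · have := mul_mem (inv_mem hH₁) (hQm _ (mul_mem hH₁.1 hb)
        (by rw [q.pr_mul hP₁ hb.1]; exact q.a.mul_mem_Qm (q.pr_mem hP₁) (q.pr_mem hb.1) c₁.2 h2))
      rw [inv_mul_cancel_left] at this
      exact this.2
  let Rel := Preserve tw.T q.B
  have hsymm : ∀ {b c}, Rel b c → Rel c b := fun h => ⟨h.1.symm, h.2.symm⟩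
  have htrans : ∀ {b c d}, Rel b c → Rel c d → Rel b d := fun h h' => ⟨h.1.trans h'.1, h.2.trans h'.2⟩
  have hB : ∀ s ∈ (P : Subgroup G), ∀ b ∈ q.B, s * b * s⁻¹ ∈ q.B := fun s hs b hb => by
    rw [← kl.comm hs hb, mul_inv_cancel_right]; exact hb
  have hinner : ∀ s ∈ (P : Subgroup G), ∀ b ∈ (P : Subgroup G), Rel b (s * b * s⁻¹) := by
    intro s hs b _
    constructor <;> constructor <;> intro h
    · exact tw.conj_T hs h
    · simpa [mul_assoc] using tw.conj_T (P.inv_mem hs) h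
    · exact hB s hs b h
    · simpa [mul_assoc] using hB s⁻¹ (P.inv_mem hs) _ h
  have hoddRel : ∀ g ∈ normalizer ((P : Subgroup G) : Set G), Odd (orderOf g) →
      ∀ b ∈ (P : Subgroup G), Rel b (g * b * g⁻¹) := by
    intro g hg ho b _
    have hg' := hodd g hg ho
    have hg'' := hodd g⁻¹ (inv_mem hg) (by rw [orderOf_inv]; exact ho)
    constructor <;> constructor <;> intro h
    · exact hg'.1 b h
    · simpa [mul_assoc] using hg''.1 _ h
    · exact hg'.2 b h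
    · simpa [mul_assoc] using hg''.2 _ h
  have step : ∀ {E L₀ L₁ : Subgroup G} {x a₀ : G} (F : Fork P E L₀ L₁ x a₀),
      (∀ g ∈ normalizer (E : Set G), F.Moved g →
        Keep E tw.T (g * x * g⁻¹) ∧ Keep E q.B (g * x * g⁻¹)) →
      ∀ g (hg : g ∈ normalizer (E : Set G)), conjAut hg ∈ extendableAut (groupFusionSystem (P : Subgroup G)) E ∨
        ∃ d, ∃ hd : d ∈ normalizer (E : Set G),
          conjAut hd ∈ extendableAut (groupFusionSystem (P : Subgroup G)) E ∧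
          ∀ a ∈ E, Rel a ((g * d⁻¹) * a * (g * d⁻¹)⁻¹) := by
    intro E L₀ L₁ x a₀ F hk g hg
    rcases F.extend_or hg with h1 | ⟨hm, hd, he⟩
    · exact Or.inl h1
    refine Or.inr ⟨_, hd, he, fun a ha => ?_⟩
    obtain ⟨k1, k2⟩ := hk g hg hm
    set k := g * x * g⁻¹ with hk'
    have hkN : k ∈ normalizer (E : Set G) := F.conjN hg
    set b := k⁻¹ * a * k with hb
    have hbE : b ∈ E := (mem_normalizer_iff''.mp hkN a).mp ha
    have e : k * b * k⁻¹ = a := by rw [hb]; group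
    have r1 : Rel b a := by
      refine ⟨?_, ?_⟩
      · have := k1 b hbE; rwa [e] at this
      · have := k2 b hbE; rwa [e] at this
    have r2 := hinner x⁻¹ (P.inv_mem F.xN.1) b (F.ess.1.1 hbE)
    have e2 : g * (k * x * g)⁻¹ * a * (g * (k * x * g)⁻¹)⁻¹ = x⁻¹ * b * x⁻¹⁻¹ := by rw [hb]; group
    rw [e2]
    exact htrans (hsymm r1) r2
  have key : ∀ b ∈ (P : Subgroup G), ∀ g : G, g * b * g⁻¹ ∈ (P : Subgroup G) → Rel b (g * b * g⁻¹) := by
    intro b hb g hgb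
    refine rel_of_alperin Rel hsymm htrans hinner (fun g hg b hb => rel_normalizer (Rel := Rel) htrans hinner
      hoddRel hg hb) (fun E hE => ?_) hb hgb
    obtain ⟨u, h | h⟩ := cx.cls E hE (hBE E hE)
    · exact step h.fork fun g hg _ => ⟨Keep.of_le (fun n hn c hc => h.keep_T tw hn hc) (h.fork.conjN hg),
        Keep.of_cent fun c hc => h.fork.conj_bot hg c (kl.all hc)⟩
    · exact step h.fork fun g hg _ => ⟨Keep.of_le (fun n hn c hc => h.keep_T tw hn hc) (h.fork.conjN hg),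
        Keep.of_cent (h.cent_B hg)⟩
  exact ⟨⟨tw.T_le, fun b hb g hgb => (key b (tw.T_le hb) g hgb).1.mp hb⟩,
    ⟨q.B_le, fun b hb g hgb => (key b (q.B_le hb) g hgb).2.mp hb⟩⟩

omit kl

/-- **A four group times semidihedral Sylow subgroup has strongly closed complements.** -/
theorem exists_closed_klein (hG : ∀ M : Subgroup G, M.Normal → M.index ≠ 2) (hres : Cfsg.pResidual 2 G = ⊤)
    {S₁ : Subgroup G} (a : SDGen G) (hS : IsInternalDirectProduct S₁ a.D (P : Subgroup G))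
    (e : S₁ ≃* DihedralGroup 2) :
    ∃ T₁ T₂ : Subgroup G, IsInternalDirectProduct T₁ T₂ (P : Subgroup G) ∧ IsStronglyClosed T₁ (P : Subgroup G) ∧
      IsStronglyClosed T₂ (P : Subgroup G) ∧ IsKleinFour T₁ ∧ Nonempty (T₂ ≃* a.D) ∧
      ∀ g ∈ normalizer ((P : Subgroup G) : Set G), Odd (orderOf g) → ∀ b ∈ (P : Subgroup G),
        ∃ s ∈ (P : Subgroup G), ∃ t ∈ T₁, b⁻¹ * (g * b * g⁻¹) = s * s * t := by
  have h2 : ∀ k ∈ S₁, k * k = 1 := fun k hk => by
    have h : ∀ d : DihedralGroup 2, d * d = 1 := by decide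
    have := h (e ⟨k, hk⟩)
    rw [← map_mul, MulEquiv.map_eq_one_iff] at this
    exact congrArg Subtype.val this
  have hc : ∀ k ∈ S₁, ∀ l ∈ S₁, k * l = l * k := fun k hk l hl => by
    have i : ∀ {c}, c ∈ S₁ → c⁻¹ = c := fun hc => inv_eq_of_mul_eq_one_left (h2 _ hc)
    have := i (mul_mem hk hl)
    rw [mul_inv_rev, i hk, i hl] at this
    exact this.symm
  let q₀ := kleinHalf (isInternalDirectProduct_symm hS) hc h2
  have kl₀ : Kl q₀ := ⟨le_refl _, by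
    show Nat.card S₁ = 4
    rw [Nat.card_congr e.toEquiv, DihedralGroup.nat_card]⟩
  obtain ⟨q, σ, kl, sg, ⟨e'⟩⟩ := kl₀.exists_split hG
  obtain ⟨tw⟩ := (klein_ctx kl sg).exists_twist hres
  obtain ⟨h₁, h₂'⟩ := klein_strongly_closed kl sg hres tw
  refine ⟨q.B, tw.T, isInternalDirectProduct_symm tw.product, h₂', h₁, ⟨kl.card, ?_⟩, ⟨tw.equiv.trans e'⟩,
    fun g hg ho b hb => ?_⟩
  haveI : Nontrivial q.B := Finite.one_lt_card_iff_nontrivial.mp (by rw [kl.card]; norm_num)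
  · refine (Monoid.exponent_eq_prime_iff Nat.prime_two).mpr fun k hk => orderOf_eq_prime ?_ hk
    rw [pow_two]
    exact Subtype.ext (kl.sq k.2)
  · have hδ : b⁻¹ * (g * b * g⁻¹) ∈ (P : Subgroup G) := P.mul_mem (P.inv_mem hb) (kl.conjP hg hb)
    refine (q.a.mem_Z.mp (kl.shift hg ho hb)).elim
      (fun e => ⟨1, one_mem _, q.pr' (b⁻¹ * (g * b * g⁻¹)), q.pr'_mem hδ, ?_⟩)
      fun e => ⟨q.a.c, q.aD_le (q.a.X_le q.a.c_mem_X), q.pr' (b⁻¹ * (g * b * g⁻¹)), q.pr'_mem hδ, ?_⟩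
    · rw [one_mul, ← e, q.split hδ]
    · rw [q.a.c_mul_c, ← e, q.split hδ]

end CfsgLib.SDMixed
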