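import Cfsg.Agent.Lib.SDMixed.Straight
import Cfsg.Agent.Lib.SDSquare.Squares

/-!
A dihedral factor: squares of two-elements normalising a small subgroup act on it almost trivially.
-/

set_option autoImplicit false
set_option linter.unusedSectionVars false

namespace CfsgLib.SDMixed

open Cfsg Cfsg.FusionSystem Subgroup CfsgLib.AfterFT.DihedralSquare CfsgLib.SDSquare

universe u
variable {G : Type u} [Group G] [Finite G] {P : Sylow 2 G}
variable (fr : Frame (P : Subgroup G)) (a : SDGen G) (hQ : fr.Q = a.D)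

/-- A square of a normalising element commutes with one projection of an elementary abelian group. -/
theorem sq_commute_pr (q : Half (P : Subgroup G)) {A : Subgroup G} (hA : A ≤ (P : Subgroup G))
    (hA2 : ∀ a ∈ A, a * a = 1) (hAc : ∀ a ∈ A, ∀ b ∈ A, a * b = b * a) {s : G}
    (hs : s ∈ normalizerIn (P : Subgroup G) A) {b : G} (hb : b ∈ A) :
    q.pr (s * s) * q.pr b = q.pr b * q.pr (s * s) := by
  have hbS := hA hb
  have hd := q.pr_mem hs.1
  have hc : q.pr b * q.pr b = 1 := by rw [← q.pr_sq hbS, hA2 b hb, q.pr_one]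
  rw [q.pr_sq hs.1]
  by_cases hX : q.pr b ∈ q.a.X
  · exact (q.a.Z_comm (mul_mem hd hd) (q.a.eq_Z_of_sq hX hc)).symm
  · have ht : q.a.Off (q.pr b) := ⟨q.pr_mem hbS, hX⟩
    have hb' : s * b * s⁻¹ ∈ A := (mem_normalizer_iff.mp hs.2 b).mp hb
    have hp : q.pr (s * b * s⁻¹) = q.pr s * q.pr b * (q.pr s)⁻¹ := q.pr_conj hs.1 hbS
    refine q.a.Z_comm ht.1 (q.a.sq_normalizing_four hd ht ?_)
    rcases off_pair ht (q.pr_mem (hA hb')) (q.pr_commute hbS (hA hb') (hAc b hb _ hb')) with h | h <;> rw [hp] at h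
    · exfalso
      refine hX ?_
      have := q.a.conj_mem_X (inv_mem hd) (q.a.Z_le h)
      simpa [mul_assoc] using this
    · rw [show q.pr s * q.pr b * (q.pr s)⁻¹ * (q.pr b)⁻¹ =
        q.pr b * ((q.pr b)⁻¹ * (q.pr s * q.pr b * (q.pr s)⁻¹)) * (q.pr b)⁻¹ by group,
        ← q.a.Z_comm ht.1 h, mul_inv_cancel_right]
      exact h

include hQ in
/-- Squares of normalising elements centralise elementary abelian subgroups. -/
theorem noSwap_elementary {A : Subgroup G} (hA : A ≤ (P : Subgroup G)) (hA2 : ∀ b ∈ A, b * b = 1) :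
    NoSwap (normalizer (A : Set G)) A := by
  haveI : Fact (Nat.Prime 2) := ⟨Nat.prime_two⟩
  set q := dihHalf fr a hQ
  obtain ⟨h, hB, hsyl⟩ := exists_conj_isSylowIn P hA
  set B : Subgroup G := A.map (MulAut.conj h : G ≃* G).toMonoidHom with hB'
  have hB2 : ∀ b ∈ B, b * b = 1 := by
    rintro _ ⟨b, hb, rfl⟩
    rw [← map_mul, hA2 b hb, map_one]
  have hBc : ∀ x ∈ B, ∀ y ∈ B, x * y = y * x := fun x hx y hy => by
    have e : ∀ c ∈ B, c⁻¹ = c := fun c hc => inv_eq_of_mul_eq_one_left (hB2 c hc)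
    have := e _ (B.mul_mem hx hy)
    rw [mul_inv_rev, e x hx, e y hy] at this
    exact this.symm
  have hNB : NoSwap (normalizer (B : Set G)) B := by
    refine noSwap_of_sylow hsyl (fun n hn b hb => (mem_normalizer_iff.mp hn b).mp hb) fun s hs b hb => ?_
    have hss := P.mul_mem hs.1 hs.1
    refine q.commute_of hss (hB hb) (sq_commute_pr q hB hB2 hBc hs hb) ?_
    rw [dihHalf_pr' fr a hQ hss, dihHalf_pr' fr a hQ (hB hb), fr.pr_mul hs.1 hs.1]
    exact fr.sq_commute_pr hB hB2 hBc hs hb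
  intro k hk x hx y hy h1 h2
  refine (MulAut.conj h).injective (hNB (h * k * h⁻¹) ?_ _ ⟨x, hx, rfl⟩ _ ⟨y, hy, rfl⟩ ?_ ?_)
  · rw [hB', ← Subgroup.map_normalizer_eq_of_bijective A (MulEquiv.bijective (MulAut.conj h))]
    exact ⟨k, hk, rfl⟩
  · rw [← h1]; simp [mul_assoc]
  · rw [← h2]; simp [mul_assoc]

include hQ in
/-- A subgroup of exponent four with three independent central involutions and two anticommuting roots. -/
theorem sq_almost_trivial {B : Subgroup G} (hB : B ≤ (P : Subgroup G)) (h4 : ∀ r ∈ B, r * r * (r * r) = 1)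
    {f₁ f₂ : G} (p₁ : f₁ ∈ B) (p₂ : f₂ ∈ B) (hf1 : f₁ * f₁ ≠ 1) (hf2 : f₂ * f₂ = f₁ * f₁)
    (hcom : f₁ * f₂ ≠ f₂ * f₁)
    {a₁ a₂ a₃ : G} (m₁ : a₁ ∈ B) (m₂ : a₂ ∈ B)
    (m₃ : a₃ ∈ B) (s₁ : a₁ * a₁ = 1) (s₂ : a₂ * a₂ = 1) (s₃ : a₃ * a₃ = 1) (n₁ : a₁ ≠ 1) (n₂ : a₂ ≠ 1)
    (n₃ : a₃ ≠ 1) (n₁₂ : a₁ ≠ a₂) (n₁₃ : a₁ ≠ a₃) (n₂₃ : a₂ ≠ a₃) (hind : a₁ * a₂ ≠ a₃)
    (c₁ : ∀ r ∈ B, a₁ * r = r * a₁) (c₂ : ∀ r ∈ B, a₂ * r = r * a₂) (c₃ : ∀ r ∈ B, a₃ * r = r * a₃)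
    {s : G} (hs : s ∈ normalizerIn (P : Subgroup G) B) {r : G} (hr : r ∈ B) :
    ∃ f ∈ B, s * s * r * (s * s)⁻¹ * r⁻¹ = f * f := by
  set q := dihHalf fr a hQ with hq
  have hp : ∀ {g}, g ∈ (P : Subgroup G) → q.pr' g = fr.pr g := fun hg => dihHalf_pr' fr a hQ hg
  -- an off semidihedral projection is impossible
  have noD : ∀ c ∈ B, c * c = 1 → (∀ r ∈ B, c * r = r * c) → q.pr c ∈ a.X := by
    intro c hc hc2 hcc
    by_contra hX
    have ht : a.Off (q.pr c) := ⟨q.pr_mem (hB hc), hX⟩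
    have ht2 : q.pr c * q.pr c = 1 := by rw [← q.pr_sq (hB hc), hc2, q.pr_one]
    have sq1 : ∀ r ∈ B, q.pr r * q.pr r = 1 ∧ ((q.pr r ∈ a.Z) ∨ (q.pr c)⁻¹ * q.pr r ∈ a.Z) := by
      intro r hr
      have hrange := off_pair ht (q.pr_mem (hB hr)) (q.pr_commute (hB hc) (hB hr) (hcc r hr))
      refine ⟨?_, hrange⟩
      rcases hrange with h | h
      · exact a.Z_sq h
      · set ζ := (q.pr c)⁻¹ * q.pr r with hζ
        have e : q.pr r = q.pr c * ζ := by rw [hζ]; group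
        have hc' := a.Z_comm ht.1 h
        rw [e]
        calc q.pr c * ζ * (q.pr c * ζ) = q.pr c * (ζ * q.pr c) * ζ := by group
          _ = q.pr c * q.pr c * (ζ * ζ) := by rw [hc']; group
          _ = 1 := by rw [ht2, a.Z_sq h, one_mul]
    have hrot : ∀ f ∈ B, f * f = f₁ * f₁ → fr.pr f ∈ zpowers fr.r := by
      intro f hf hff
      by_contra hrf
      refine hf1 (q.ext (P.mul_mem (hB p₁) (hB p₁)) P.one_mem ?_ ?_)
      · rw [q.pr_sq (hB p₁), (sq1 f₁ p₁).1, q.pr_one]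
      · rw [← hff, q.pr'_sq (hB hf), hp (hB hf), fr.refl_sq ⟨fr.pr_mem (hB hf), hrf⟩, q.pr'_one]
    refine hcom (q.commute_of (hB p₁) (hB p₂) ?_ ?_)
    · have e : ∀ x ∈ B, (q.pr x)⁻¹ = q.pr x := fun x hx => inv_eq_of_mul_eq_one_left (sq1 x hx).1
      have := e _ (B.mul_mem p₁ p₂)
      rw [q.pr_mul (hB p₁) (hB p₂), mul_inv_rev, e f₁ p₁, e f₂ p₂] at this
      exact this.symm
    · rw [hp (hB p₁), hp (hB p₂)]
      exact fr.rot_comm (hrot f₁ p₁ rfl) (hrot f₂ p₂ hf2)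
  -- some central involution has a reflection as dihedral projection
  obtain ⟨c, hc, hc2, hcc, href⟩ :
      ∃ c ∈ B, c * c = 1 ∧ (∀ r ∈ B, c * r = r * c) ∧ fr.pr c ∉ zpowers fr.r := by
    by_contra hcon
    push Not at hcon
    have val : ∀ x ∈ B, x * x = 1 → x ≠ 1 → (∀ r ∈ B, x * r = r * x) → x = a.z ∨ x = fr.z ∨ x = a.z * fr.z := by
      intro x hx hx2 hxne hxc
      have za := a.eq_Z_of_sq (noD x hx hx2 hxc) (by rw [← q.pr_sq (hB hx), hx2, q.pr_one])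
      have zb := fr.eq_z_of_sq (hcon x hx hx2 hxc) (by rw [← fr.pr_mul (hB hx) (hB hx), hx2, fr.pr_one])
      have hsp := q.split (hB hx)
      rw [hp (hB hx)] at hsp
      rcases a.mem_Z.mp za with e | e <;> rcases zb with e' | e' <;> rw [e, e'] at hsp
      · exact absurd (hsp.symm.trans (one_mul 1)) hxne
      · exact Or.inr (Or.inl (by rw [← hsp, one_mul]))
      · exact Or.inl (by rw [← hsp, mul_one])
      · exact Or.inr (Or.inr hsp.symm)
    have hzz : a.z * fr.z = fr.z * a.z := q.za_comm (fr.D_le fr.z_mem)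
    have k1 : a.z * (a.z * fr.z) = fr.z := by rw [← mul_assoc, a.z_mul_z, one_mul]
    have k2 : fr.z * (a.z * fr.z) = a.z := by rw [hzz, ← mul_assoc, fr.z_mul_z, one_mul]
    have k3 : a.z * fr.z * a.z = fr.z := by rw [hzz, mul_assoc, a.z_mul_z, mul_one]
    have k4 : a.z * fr.z * fr.z = a.z := by rw [mul_assoc, fr.z_mul_z, mul_one]
    rcases val a₁ m₁ s₁ n₁ c₁ with e | e | e <;> rcases val a₂ m₂ s₂ n₂ c₂ with e' | e' | e' <;>
      rcases val a₃ m₃ s₃ n₃ c₃ with e'' | e'' | e'' <;>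
      first
        | exact n₁₂ (e.trans e'.symm)
        | exact n₁₃ (e.trans e''.symm)
        | exact n₂₃ (e'.trans e''.symm)
        | exact hind (by simp only [e, e', e'', k1, k2, k3, k4, ← hzz])
  have ht : fr.IsRefl (fr.pr c) := ⟨fr.pr_mem (hB hc), href⟩
  have inV : ∀ x ∈ B, fr.InV (fr.pr c) (fr.pr x) := fun x hx =>
    fr.inV_of_commute ht (fr.pr_mem (hB hx)) (by
      rw [← fr.pr_mul (hB hx) (hB hc), ← fr.pr_mul (hB hc) (hB hx), hcc x hx])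
  have hd := q.pr_mem hs.1
  have hssP := P.mul_mem hs.1 hs.1
  have hm1 := P.mul_mem (P.mul_mem hssP (hB hr)) (P.inv_mem hssP)
  have hm := P.mul_mem hm1 (P.inv_mem (hB hr))
  have e1 : fr.pr (s * s * r * (s * s)⁻¹ * r⁻¹) = 1 := by
    have hss : fr.InV (fr.pr c) (fr.pr s * fr.pr s) := by
      refine fr.inV_normalizing_sq ht (fr.pr_mem hs.1) ?_
      rw [← fr.pr_conj hs.1 (hB hc)]
      exact inV _ ((mem_normalizer_iff.mp hs.2 c).mp hc)
    rw [fr.pr_mul hm1 (P.inv_mem (hB hr)), fr.pr_conj hssP (hB hr), fr.pr_inv (hB hr), fr.pr_mul hs.1 hs.1,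
      fr.inV_comm ht hss (inV r hr), mul_inv_cancel_right, mul_inv_cancel]
  have hrot : ∀ x ∈ B, q.pr x ∈ a.X → q.pr x ∈ zpowers a.c := by
    intro x hx hX
    refine a.mem_zpowers_c hX (a.eq_Z_of_sq (mul_mem hX hX) ?_)
    rw [← q.pr_sq (hB hx), ← q.pr_sq (P.mul_mem (hB hx) (hB hx)), h4 x hx, q.pr_one]
  have e2 : q.pr (s * s * r * (s * s)⁻¹ * r⁻¹) ∈ a.Z := by
    rw [q.pr_mul hm1 (P.inv_mem (hB hr)), q.pr_conj hssP (hB hr), q.pr_inv (hB hr), q.pr_sq hs.1]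
    have hr' := q.pr_mem (hB hr)
    by_cases hX : q.pr r ∈ a.X
    · rw [a.rot_comm (a.sq_mem_X hd) hX, mul_inv_cancel_right, mul_inv_cancel]; exact one_mem _
    · refine a.sq_normalizing hd ⟨hr', hX⟩ ?_
      have hsr : s * r * s⁻¹ ∈ B := (mem_normalizer_iff.mp hs.2 r).mp hr
      rw [← q.pr_conj hs.1 (hB hr), ← q.pr_inv (hB hr), ← q.pr_mul (hB hsr) (P.inv_mem (hB hr))]
      refine hrot _ (mul_mem hsr (inv_mem hr)) ?_
      rw [q.pr_mul (hB hsr) (P.inv_mem (hB hr)), q.pr_conj hs.1 (hB hr), q.pr_inv (hB hr)]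
      exact a.off_mul_off ⟨mul_mem (mul_mem hd hr') (inv_mem hd), fun h' => hX (by
        have := a.conj_mem_X (inv_mem hd) h'
        simpa [mul_assoc] using this)⟩ ⟨inv_mem hr', fun h' => hX (inv_mem_iff.mp h')⟩
  have hsp := q.split hm
  rw [hp hm, e1, mul_one] at hsp
  rcases a.mem_Z.mp e2 with e | e <;> rw [e] at hsp
  · exact ⟨1, one_mem _, by rw [← hsp, one_mul]⟩
  · refine ⟨f₁, p₁, ?_⟩
    have hZ : q.pr f₁ * q.pr f₁ ∈ a.Z := by
      by_cases hX : q.pr f₁ ∈ a.X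
      · exact a.sq_mem_Z_of_c (hrot f₁ p₁ hX)
      · exact a.off_sq ⟨q.pr_mem (hB p₁), hX⟩
    have hsp' := q.split (P.mul_mem (hB p₁) (hB p₁))
    rw [hp (P.mul_mem (hB p₁) (hB p₁)), fr.pr_mul (hB p₁) (hB p₁), fr.inV_sq ht (inV f₁ p₁), mul_one,
      q.pr_sq (hB p₁)] at hsp'
    rcases a.mem_Z.mp hZ with e' | e'
    · exact absurd (hsp'.symm.trans e') hf1
    · rw [← hsp, ← hsp']; exact e'.symm

end CfsgLib.SDMixed
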