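import Cfsg.Agent.Lib.SDMixed.KleinSplit
import Cfsg.Agent.Lib.SDMixed.Squares
import Cfsg.Agent.Lib.SDMixed.Twist

/-!
A four group as second factor: it is invariant in the essential subgroups, and the twist is trivial.
-/

set_option autoImplicit false
set_option linter.unusedSectionVars false

namespace CfsgLib.SDMixed

open Cfsg Cfsg.FusionSystem Subgroup CfsgLib.AfterFT.DihedralSquare CfsgLib.SDSquare

universe u
variable {G : Type u} [Group G] [Finite G] {P : Sylow 2 G} {q : Half (P : Subgroup G)} {E : Subgroup G}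

namespace Four

variable {u : G} (h : Four q E u) (hE : (groupFusionSystem (P : Subgroup G)).IsEssential 2 E) (hb : q.B ≤ E)
include h hE hb

theorem mem_iff' {e : G} : e ∈ E ↔ e ∈ (P : Subgroup G) ∧ (q.pr e ∈ q.a.Z ∨ u⁻¹ * q.pr e ∈ q.a.Z) := by
  refine ⟨fun he => ⟨hE.1.1 he, h.range e he⟩, fun ⟨he, hr⟩ => ?_⟩
  rw [← q.split he]
  refine mul_mem ?_ (hb (q.pr'_mem he))
  rcases hr with hz | hz
  · exact Za_leE q hE hz
  · have := mul_mem h.mem (Za_leE q hE hz)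
    rwa [mul_inv_cancel_left] at this

/-- An element of `N(P)` changing first projections by central elements normalises `E`. -/
theorem norm_of_shift {n : G} (hn : n ∈ normalizer ((P : Subgroup G) : Set G))
    (hs : ∀ b ∈ (P : Subgroup G), (q.pr b)⁻¹ * q.pr (n * b * n⁻¹) ∈ q.a.Z) :
    n ∈ normalizer (E : Set G) := by
  refine mem_normalizer_fintype fun e he => (h.mem_iff' hE hb).mpr ?_
  have heP := hE.1.1 he
  refine ⟨(mem_normalizer_iff.mp hn e).mp heP, ?_⟩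
  have e1 : q.pr (n * e * n⁻¹) = q.pr e * ((q.pr e)⁻¹ * q.pr (n * e * n⁻¹)) := by group
  rcases h.range e he with hz | hz
  · left; rw [e1]; exact mul_mem hz (hs e heP)
  · right; rw [e1, ← mul_assoc]; exact mul_mem hz (hs e heP)

variable (kl : Kl q)
include kl

theorem abelian {a b : G} (ha : a ∈ E) (hb' : b ∈ E) : a * b = b * a :=
  q.commute_of (hE.1.1 ha) (hE.1.1 hb') (h.pr_comm ha hb' hE.1.1)
    (q.ZB_comm _ (q.pr'_mem (hE.1.1 hb')) _ (kl.all (q.pr'_mem (hE.1.1 ha))))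

theorem sq_one {a : G} (ha : a ∈ E) : a * a = 1 := by
  have haP := hE.1.1 ha
  rw [← q.split (P.mul_mem haP haP), q.pr_sq haP, q.pr'_sq haP, (h.props ha).1, kl.sq (q.pr'_mem haP), one_mul]

theorem noSwap : NoSwap (normalizer (E : Set G)) E := by
  refine noSwap_of_sylow ((isFullyNormalized_groupFusionSystem_iff P hE.1.1).mp hE.2.1)
    (fun n hn a ha => (mem_normalizer_iff.mp hn a).mp ha) fun s hs a ha => ?_
  refine q.commute_of (P.mul_mem hs.1 hs.1) (hE.1.1 ha)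
    (sq_commute_pr q hE.1.1 (fun a ha => h.sq_one hE hb kl ha) (fun a ha b hb' => h.abelian hE hb kl ha hb') hs ha) ?_
  exact q.ZB_comm _ (q.pr'_mem (hE.1.1 ha)) _ (kl.all (q.pr'_mem (P.mul_mem hs.1 hs.1)))

/-- Elements of `N_P(E)` act trivially or like `c`. -/
theorem normalizerIn_act {s : G} (hs : s ∈ normalizerIn (P : Subgroup G) E) :
    (∀ e ∈ E, MulAut.conj s e = e) ∨ ∀ e ∈ E, MulAut.conj s e = MulAut.conj q.a.c e := by
  have hd := q.pr_mem hs.1
  have huP := hE.1.1 h.mem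
  have hse : s * u * s⁻¹ ∈ E := (mem_normalizer_iff.mp hs.2 u).mp h.mem
  have hcm : q.pr s * u * (q.pr s)⁻¹ * u⁻¹ ∈ q.a.Z := by
    have hp : q.pr (s * u * s⁻¹) = q.pr s * u * (q.pr s)⁻¹ := by rw [q.pr_conj hs.1 huP, q.pr_of_mem h.off.1]
    rcases h.range _ hse with hz | hz <;> rw [hp] at hz
    · exfalso
      refine h.off.2 ?_
      have := q.a.conj_mem_X (inv_mem hd) (q.a.Z_le hz)
      simpa [mul_assoc] using this
    · rw [show q.pr s * u * (q.pr s)⁻¹ * u⁻¹ = u * (u⁻¹ * (q.pr s * u * (q.pr s)⁻¹)) * u⁻¹ by group,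
        ← q.a.Z_comm h.off.1 hz, mul_inv_cancel_right]
      exact hz
  have hc : ∀ r ∈ q.a.X, r * u * r⁻¹ * u⁻¹ ∈ q.a.Z → r ∈ q.a.Z ∨ q.a.c⁻¹ * r ∈ q.a.Z := by
    intro r hr hrc
    obtain ⟨ζ, hζ, e⟩ := q.a.rot_off_sq h.off hr
    rw [e, q.a.Z.mul_mem_cancel_right hζ] at hrc
    obtain ⟨k, rfl⟩ := q.a.mem_zpowers_c hr hrc
    rcases Int.even_or_odd' k with ⟨j, rfl | rfl⟩
    · left
      show q.a.c ^ (2 * j) ∈ q.a.Z
      rw [zpow_mul, zpow_two, q.a.c_mul_c]; exact zpow_mem (mem_zpowers _) j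
    · right
      show q.a.c⁻¹ * q.a.c ^ (2 * j + 1) ∈ q.a.Z
      rw [show q.a.c⁻¹ * q.a.c ^ (2 * j + 1) = q.a.c ^ (2 * j) by group, zpow_mul, zpow_two, q.a.c_mul_c]
      exact zpow_mem (mem_zpowers _) j
  have hcP := q.aD_le (q.a.X_le q.a.c_mem_X)
  have hpc : q.pr (q.a.c⁻¹ * s) = q.a.c⁻¹ * q.pr s := by
    rw [q.pr_mul (P.inv_mem hcP) hs.1, q.pr_inv hcP, q.pr_of_mem (q.a.X_le q.a.c_mem_X)]
  have fin : s ∈ E ∨ q.a.c⁻¹ * s ∈ E := by
    by_cases hX : q.pr s ∈ q.a.X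
    · rcases hc _ hX hcm with hz | hz
      · exact Or.inl ((h.mem_iff' hE hb).mpr ⟨hs.1, Or.inl hz⟩)
      · exact Or.inr ((h.mem_iff' hE hb).mpr ⟨P.mul_mem (P.inv_mem hcP) hs.1, Or.inl (hpc ▸ hz)⟩)
    · have hu2 : u⁻¹ = u := inv_eq_of_mul_eq_one_left h.sq
      have hr : u * q.pr s ∈ q.a.X := q.a.off_mul_off h.off ⟨hd, hX⟩
      have hrc : u * q.pr s * u * (u * q.pr s)⁻¹ * u⁻¹ ∈ q.a.Z := by
        rw [show u * q.pr s * u * (u * q.pr s)⁻¹ * u⁻¹ = u * (q.pr s * u * (q.pr s)⁻¹ * u⁻¹) * u⁻¹ by group,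
          ← q.a.Z_comm h.off.1 hcm, mul_inv_cancel_right]
        exact hcm
      rcases hc _ hr hrc with hz | hz
      · exact Or.inl ((h.mem_iff' hE hb).mpr ⟨hs.1, Or.inr (by rw [hu2]; exact hz)⟩)
      · refine Or.inr ((h.mem_iff' hE hb).mpr ⟨P.mul_mem (P.inv_mem hcP) hs.1, Or.inr ?_⟩)
        rw [hpc, hu2]
        have hcu : q.a.c * u * q.a.c⁻¹ * u⁻¹ = q.a.z := q.a.c_conj h.off
        have e : u * (q.a.c⁻¹ * q.pr s) = (u * q.a.c⁻¹ * u⁻¹ * q.a.c) * (q.a.c⁻¹ * (u * q.pr s)) := by group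
        rw [e]
        refine mul_mem ?_ hz
        rw [show u * q.a.c⁻¹ * u⁻¹ * q.a.c = q.a.c⁻¹ * (q.a.c * u * q.a.c⁻¹ * u⁻¹) * q.a.c by group, hcu,
          ← q.a.Z_comm (inv_mem (q.a.X_le q.a.c_mem_X)) (mem_zpowers _), inv_mul_cancel_right]
        exact mem_zpowers _
  rcases fin with hsE | hsE
  · left
    intro e he
    rw [MulAut.conj_apply, h.abelian hE hb kl hsE he, mul_inv_cancel_right]
  · right
    intro e he
    rw [show s = q.a.c * (q.a.c⁻¹ * s) by group, map_mul, MulAut.mul_apply]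
    congr 1
    rw [MulAut.conj_apply, h.abelian hE hb kl hsE he, mul_inv_cancel_right]

/-- A conjugate of the transvection. -/
theorem trans {g : G} (hg : g ∈ normalizer (E : Set G)) :
    g * q.a.c * g⁻¹ ∈ normalizer (E : Set G) ∧ IsTrans E (g * q.a.c * g⁻¹) (MulAut.conj g q.a.z) ∧
      MulAut.conj (g * q.a.c * g⁻¹) (MulAut.conj g q.a.z) = MulAut.conj g q.a.z ∧
      MulAut.conj (g * q.a.c * g⁻¹) (MulAut.conj g u) = MulAut.conj g u * MulAut.conj g q.a.z ∧
      MulAut.conj g q.a.z ∈ E ∧ MulAut.conj g u ∈ E := by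
  have happ : ∀ a, MulAut.conj (g * q.a.c * g⁻¹) (MulAut.conj g a) = MulAut.conj g (MulAut.conj q.a.c a) :=
    fun a => by rw [map_mul, map_mul, MulAut.mul_apply, MulAut.mul_apply, conj_inv_conj]
  refine ⟨mul_mem (mul_mem hg (h.c_norm hE).2) (inv_mem hg), fun a ha => ?_, by rw [happ, c_fix_za q],
    by rw [happ, h.c_u hE, map_mul], (mem_normalizer_iff.mp hg _).mp (za_memE q hE),
    (mem_normalizer_iff.mp hg _).mp h.mem⟩
  have ha' : MulAut.conj g⁻¹ a ∈ E := (mem_normalizer_iff.mp (inv_mem hg) a).mp ha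
  have e : MulAut.conj g (MulAut.conj g⁻¹ a) = a := conj_conj_inv g a
  rcases h.c_trans hE _ ha' with e' | e'
  · left; rw [← e, happ, e']
  · right; rw [← e, happ, e', map_mul, e]

/-- A conjugate transvection fixing the centre of another one acts like it. -/
theorem alike {g₁ g₂ : G} (hg₁ : g₁ ∈ normalizer (E : Set G)) (hg₂ : g₂ ∈ normalizer (E : Set G))
    (hfix : MulAut.conj (g₁ * q.a.c * g₁⁻¹) (MulAut.conj g₂ q.a.z) = MulAut.conj g₂ q.a.z) :
    MulAut.conj g₁ q.a.z = MulAut.conj g₂ q.a.z ∧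
      ∀ e ∈ E, MulAut.conj (g₁ * q.a.c * g₁⁻¹) e = MulAut.conj (g₂ * q.a.c * g₂⁻¹) e := by
  haveI : Fact (Nat.Prime 2) := ⟨Nat.prime_two⟩
  obtain ⟨hk, hkT, hkw, hka, hw₁, hu₁⟩ := h.trans hE hb kl hg₁
  obtain ⟨hl, hlT, hlv, hla, hw₂, hu₂⟩ := h.trans hE hb kl hg₂
  set k := g₁ * q.a.c * g₁⁻¹
  set l := g₂ * q.a.c * g₂⁻¹
  set w := MulAut.conj g₁ q.a.z
  set v := MulAut.conj g₂ q.a.z
  have hab : ∀ a ∈ E, ∀ b ∈ E, a * b = b * a := fun a ha b hb' => h.abelian hE hb kl ha hb'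
  have hw1 : w ≠ 1 := fun e => q.a.z_ne_one ((MulEquiv.map_eq_one_iff _).mp e)
  have hlw : MulAut.conj l w = w := by
    refine (hlT w hw₁).resolve_right fun e => ?_
    exact q.a.z_ne_one ((MulEquiv.map_eq_one_iff _).mp
      (both_or_none (h.noSwap hE hb kl) hk hl hw₁ hw₂ (h.sq_one hE hb kl hw₁) (h.sq_one hE hb kl hw₂) hab hlT
        hkw hlv ⟨_, hu₁, hka⟩ e hfix))
  have hES := hE.1.1
  have hcomm : ∀ e ∈ E, k * l * e * (k * l)⁻¹ = l * k * e * (l * k)⁻¹ := fun e he => by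
    have := trans_commute hab hw₁ hw₂ hkT hlT hfix hlw he
    simpa [mul_assoc] using this
  have hA : IsPGroup 2 ↥(zpowers (conjAut hk) ⊔ zpowers (conjAut hl)) := by
    refine isPGroup_pair hES Inv.top Inv.top hk hl (isPGroup_conjAut (h.c_norm hE).1 hk)
      (isPGroup_conjAut (h.c_norm hE).1 hl) (fun a ha => ?_) (fun a ha => ?_) hcomm
    all_goals rw [hcomm a ha, mul_inv_cancel]; exact one_mem _
  set F := groupFusionSystem (P : Subgroup G)
  obtain ⟨-, T, hT⟩ := (groupFusionSystem_isSaturated P).isFullyAutomized_of_isFullyNormalized P.2 hE.2.1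
  have hle : zpowers (conjAut hk) ⊔ zpowers (conjAut hl) ≤ F.autGroup E :=
    sup_le (zpowers_le.mpr (conjAut_mem hES hk)) (zpowers_le.mpr (conjAut_mem hES hl))
  obtain ⟨δ, hδ⟩ := exists_conj_mem_sylow T (hA.of_equiv (subgroupOfEquivOfLe hle).symm)
  have key : ∀ t (ht : t ∈ zpowers (conjAut hk) ⊔ zpowers (conjAut hl)), t ≠ 1 →
      (δ : MulAut E) * t * (δ : MulAut E)⁻¹ = conjAut (h.c_norm hE).2 := by
    intro t ht ht1
    have h1 := hδ ⟨t, hle ht⟩ ht
    rw [hT] at h1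
    obtain ⟨s, hs, hsN, hse⟩ := mem_autInducedBy_iff.mp h1
    rcases h.normalizerIn_act hE hb kl ⟨hs, hsN⟩ with e0 | e0
    · refine absurd ?_ ht1
      have : (δ : MulAut E) * t * (δ : MulAut E)⁻¹ = 1 := MulEquiv.ext fun a => Subtype.ext ((hse a).trans (e0 a a.2))
      exact conj_eq_one_iff.mp this
    · exact MulEquiv.ext fun a => Subtype.ext ((hse a).trans (e0 a a.2))
  have hne : ∀ {n w a : G} (hn : n ∈ normalizer (E : Set G)), a ∈ E → MulAut.conj n a = a * w → w ≠ 1 →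
      conjAut hn ≠ 1 := fun {n w a} hn ha e hw e1 =>
    hw (mul_eq_left.mp (e.symm.trans (congrArg (fun f : MulAut E => ((f ⟨a, ha⟩ : E) : G)) e1)))
  have h1 := key _ (mem_sup_left (mem_zpowers _)) (hne hk hu₁ hka hw1)
  have h2 := key _ (mem_sup_right (mem_zpowers _))
    (hne hl hu₂ hla fun e => q.a.z_ne_one ((MulEquiv.map_eq_one_iff _).mp e))
  have h3 : conjAut hk = conjAut hl := mul_left_cancel (mul_right_cancel (h1.trans h2.symm))
  have same : ∀ e ∈ E, MulAut.conj k e = MulAut.conj l e := fun e he =>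
    congrArg (fun f : MulAut E => ((f ⟨e, he⟩ : E) : G)) h3
  refine ⟨?_, same⟩
  rcases hlT _ hu₁ with e | e
  · exact absurd (mul_eq_left.mp (hka.symm.trans ((same _ hu₁).trans e))) hw1
  · exact mul_left_cancel (hka.symm.trans ((same _ hu₁).trans e))

variable {σ : G} (sg : Sig q σ)
include sg

theorem sig_norm : σ ∈ normalizer (E : Set G) :=
  h.norm_of_shift hE hb sg.norm fun b hb' => by
    have hp := q.pr_mem hb'
    have hl := q.pr'_mem hb'
    have e : σ * b * σ⁻¹ = σ * q.pr b * σ⁻¹ * (σ * q.pr' b * σ⁻¹) := by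
      conv_lhs => rw [← q.split hb']
      group
    rw [e, sg.fixD _ hp, q.pr_eq hp (sg.keep _ hl), inv_mul_cancel]
    exact one_mem _

/-- The centres of the conjugate transvections are fixed by the odd element. -/
theorem centre_fix {g : G} (hg : g ∈ normalizer (E : Set G)) :
    MulAut.conj σ (MulAut.conj g q.a.z) = MulAut.conj g q.a.z := by
  have hσ := h.sig_norm hE hb kl sg
  have hσg : σ * g ∈ normalizer (E : Set G) := mul_mem hσ hg
  have hza := q.a.X_le q.a.z_mem_X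
  have hσz : MulAut.conj σ q.a.z = q.a.z := sg.fixD _ hza
  obtain ⟨hk, hkT, hkw, -, hwE, -⟩ := h.trans hE hb kl hg
  obtain ⟨hk', hkT', hkw', -, hwE', -⟩ := h.trans hE hb kl hσg
  set k := g * q.a.c * g⁻¹ with hk0
  set w := MulAut.conj g q.a.z with hw0
  have hw' : MulAut.conj (σ * g) q.a.z = MulAut.conj σ w := by rw [map_mul, MulAut.mul_apply]
  rcases hkT _ hwE' with e | e
  · exact hw' ▸ ((h.alike hE hb kl hg hσg e).1).symm
  by_contra hne
  rw [← hw'] at hne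
  set w' := MulAut.conj (σ * g) q.a.z with hw'0
  have hkz : MulAut.conj k q.a.z = q.a.z * w := by
    refine (hkT _ (za_memE q hE)).resolve_left fun e0 => hne ?_
    have := (h.alike hE hb kl hg (one_mem _) (by rw [map_one, MulAut.one_apply]; exact e0)).1
    rw [map_one, MulAut.one_apply] at this
    rw [hw', show w = q.a.z from this]
    exact hσz
  have hσk : ∀ a, MulAut.conj (σ * g * q.a.c * (σ * g)⁻¹) (MulAut.conj σ a) =
      MulAut.conj σ (MulAut.conj k a) := fun a => by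
    rw [hk0, ← MulAut.mul_apply, ← map_mul, ← MulAut.mul_apply, ← map_mul]
    congr 2
    group
  set k' := σ * g * q.a.c * (σ * g)⁻¹
  have hk'z : MulAut.conj k' q.a.z = q.a.z * w' := by
    rw [show MulAut.conj k' q.a.z = MulAut.conj k' (MulAut.conj σ q.a.z) by rw [hσz], hσk, hkz, map_mul, hσz, ← hw']
  have hk'w : MulAut.conj k' w = w * w' := by
    refine (hkT' w hwE).resolve_left fun e0 => hne ?_
    exact (h.alike hE hb kl hσg hg e0).1
  have hyfix : MulAut.conj k' (MulAut.conj k q.a.z) = MulAut.conj k q.a.z := by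
    rw [hkz, map_mul, hk'z, hk'w]
    calc q.a.z * w' * (w * w') = q.a.z * (w' * w) * w' := by group
      _ = q.a.z * w * (w' * w') := by rw [h.abelian hE hb kl hwE' hwE]; group
      _ = q.a.z * w := by rw [h.sq_one hE hb kl hwE', mul_one]
  have h1 := (h.alike hE hb kl hσg hk hyfix).1
  rw [hkz] at h1
  change w' = _ at h1
  have h2 : MulAut.conj σ (MulAut.conj σ w) = w := by
    rw [← hw', h1, map_mul, hσz, ← hw', h1, ← mul_assoc, q.a.z_mul_z, one_mul]
  exact hne (hw' ▸ fix_of_sq_fix sg.odd h2)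

theorem conj_fix_B {g : G} (hg : g ∈ normalizer (E : Set G)) {l : G} (hl : l ∈ q.B) :
    MulAut.conj (g * q.a.c * g⁻¹) l = l := by
  have hσ := h.sig_norm hE hb kl sg
  let f : q.B → q.B := fun m => ⟨(m : G)⁻¹ * (σ * m * σ⁻¹), mul_mem (inv_mem m.2) (sg.keep _ m.2)⟩
  have hf : Function.Injective f := by
    intro a b e
    have e' : (a : G)⁻¹ * (σ * a * σ⁻¹) = (b : G)⁻¹ * (σ * b * σ⁻¹) := congrArg Subtype.val e
    refine Subtype.ext (mul_inv_eq_one.mp (sg.free _ (mul_mem a.2 (inv_mem b.2)) ?_))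
    calc σ * ((a : G) * (b : G)⁻¹) * σ⁻¹ = (a : G) * ((a : G)⁻¹ * (σ * a * σ⁻¹)) * (σ * b * σ⁻¹)⁻¹ := by group
      _ = (a : G) * (b : G)⁻¹ := by rw [e']; group
  obtain ⟨⟨m, hm⟩, hme⟩ := (Finite.injective_iff_surjective.mp hf) ⟨l, hl⟩
  have hl' : m⁻¹ * MulAut.conj σ m = l := congrArg Subtype.val hme
  have hmE := hb hm
  obtain ⟨hk, hkT, hkw, -, hwE, -⟩ := h.trans hE hb kl hg
  set k := g * q.a.c * g⁻¹
  set w := MulAut.conj g q.a.z
  have hσg : σ⁻¹ * g ∈ normalizer (E : Set G) := mul_mem (inv_mem hσ) hg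
  have hσw := h.centre_fix hE hb kl sg hg
  have hinv : MulAut.conj (σ⁻¹ * g) q.a.z = w := by
    rw [map_mul, MulAut.mul_apply]
    show MulAut.conj σ⁻¹ w = w
    exact (congrArg (MulAut.conj σ⁻¹) hσw).symm.trans (conj_inv_conj σ w)
  have hk2 : ∀ a ∈ E, MulAut.conj (σ⁻¹ * g * q.a.c * (σ⁻¹ * g)⁻¹) a = MulAut.conj k a :=
    (h.alike hE hb kl hσg hg (by
      rw [show MulAut.conj g q.a.z = MulAut.conj (σ⁻¹ * g) q.a.z from hinv.symm]
      exact (h.trans hE hb kl hσg).2.2.1)).2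
  have hcom : MulAut.conj k (MulAut.conj σ m) = MulAut.conj σ (MulAut.conj k m) := by
    rw [← hk2 m hmE, ← MulAut.mul_apply, ← map_mul, ← MulAut.mul_apply, ← map_mul]
    congr 2
    simp only [k]
    group
  rw [← hl', map_mul, map_inv, hcom]
  rcases hkT m hmE with e | e <;> rw [e]
  rw [map_mul, hσw]
  have hσm : MulAut.conj σ m ∈ E := hb (sg.keep m hm)
  rw [show (m * w)⁻¹ * (MulAut.conj σ m * w) = w⁻¹ * (m⁻¹ * MulAut.conj σ m * w) by group,
    h.abelian hE hb kl (mul_mem (inv_mem hmE) hσm) hwE, inv_mul_cancel_left]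

/-- **The four group is invariant.** -/
theorem invariant : Inv E q.B := by
  refine ⟨hb, fun n hn l hl => ?_⟩
  set a := n * l * n⁻¹
  have haE : a ∈ E := (mem_normalizer_iff.mp hn l).mp (hb hl)
  have haP := hE.1.1 haE
  have hfix : ∀ g ∈ normalizer (E : Set G), MulAut.conj (g * q.a.c * g⁻¹) a = a := by
    intro g hg
    have := congrArg (MulAut.conj n) (h.conj_fix_B hE hb kl sg (mul_mem (inv_mem hn) hg) hl)
    simp only [MulAut.conj_apply] at this ⊢
    simp only [a]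
    simpa [mul_assoc] using this
  have hc0 := hfix 1 (one_mem _)
  rw [one_mul, inv_one, mul_one] at hc0
  have hZ : q.pr a ∈ q.a.Z := by
    refine q.a.eq_Z_of_sq (q.a.c_comm_mem (q.pr_mem haP) ?_) (h.props haE).1
    have h0 := q.pr_commute (q.aD_le (q.a.X_le q.a.c_mem_X)) haP (mul_inv_eq_iff_eq_mul.mp hc0)
    rwa [q.pr_of_mem (q.a.X_le q.a.c_mem_X)] at h0
  rcases q.a.mem_Z.mp hZ with e | e
  · have := q.split haP
    rw [e, one_mul] at this
    rw [← this]; exact q.pr'_mem haP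
  exfalso
  obtain ⟨g, hg, hgz⟩ : ∃ g ∈ normalizer (E : Set G), MulAut.conj g q.a.z ≠ q.a.z := by
    by_contra hcon
    push Not at hcon
    refine h.c_notMem hE (mem_of_step hE ⟨Za_leE q hE, fun g hg ζ hζ => ?_⟩ (h.c_norm hE)
      (fun e he => h.c_comm hE he) fun ζ hζ => q.a.rot_comm q.a.c_mem_X (q.a.Z_le hζ))
    rcases q.a.mem_Z.mp hζ with e | e <;> rw [e]
    · simp
    · rw [show g * q.a.z * g⁻¹ = q.a.z from hcon g hg]; exact mem_zpowers _
  obtain ⟨hk, hkT, hkw, -, hwE, -⟩ := h.trans hE hb kl hg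
  have hkz : MulAut.conj (g * q.a.c * g⁻¹) q.a.z = q.a.z * MulAut.conj g q.a.z := by
    refine (hkT _ (za_memE q hE)).resolve_left fun e0 => hgz ?_
    have := (h.alike hE hb kl hg (one_mem _) (by simpa using e0)).1
    simpa using this
  have h1 := hfix g hg
  rw [← q.split haP, e, map_mul, hkz, h.conj_fix_B hE hb kl sg hg (q.pr'_mem haP)] at h1
  exact q.a.z_ne_one ((MulEquiv.map_eq_one_iff _).mp (mul_eq_left.mp (mul_right_cancel h1)))

end Four

variable (kl : Kl q)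
include kl

/-- A four group side provides the context. -/
theorem klein_ctx {σ : G} (sg : Sig q σ) : Ctx q := by
  have hBE : ∀ E, (groupFusionSystem (P : Subgroup G)).IsEssential 2 E → q.B ≤ E := fun E hE b hb =>
    SDSquare.mem_of_cent hE (q.B_le hb) fun e he => kl.comm (hE.1.1 he) hb
  refine ⟨fun g hg ho b hb => ?_, fun E hE _ => ?_, fun E hE hb => absurd (hBE E hE) hb⟩
  · have := kl.shift hg ho hb
    rwa [q.pr_mul (P.inv_mem hb) (kl.conjP hg hb), q.pr_inv hb] at this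
  · have hb := hBE E hE
    refine side hE (fun ha => (hE.lt P.2 (groupFusionSystem_isSaturated P)).not_ge
      (q.prod.2.2.2.2 ▸ sup_le ha hb)) hb fun u h => ?_
    have hBZ : q.ZB = q.B := le_antisymm q.ZB_le kl.all
    rw [hBZ]
    exact h.invariant hE hb kl sg

theorem sig_twist_one {σ : G} (sg : Sig q σ) {E : Subgroup G} {u : G} (h : TypeV q E u ∨ TypeQ q E u) :
    σ ∈ normalizer (E : Set G) := by
  have hp : ∀ b ∈ (P : Subgroup G), q.pr (σ * b * σ⁻¹) = q.pr b := fun b hb => by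
    have e : σ * b * σ⁻¹ = σ * q.pr b * σ⁻¹ * (σ * q.pr' b * σ⁻¹) := by
      conv_lhs => rw [← q.split hb]
      group
    rw [e, sg.fixD _ (q.pr_mem hb), q.pr_eq (q.pr_mem hb) (sg.keep _ (q.pr'_mem hb))]
  refine mem_normalizer_fintype fun e he => ?_
  rcases h with h | h
  · have heP := h.le he
    exact h.mem_iff.mpr ⟨(mem_normalizer_iff.mp sg.norm e).mp heP, by rw [hp e heP]; exact h.four.range e he⟩
  · have heP := h.le he
    exact h.mem_iff.mpr ⟨(mem_normalizer_iff.mp sg.norm e).mp heP, by rw [hp e heP]; exact h.eight.range e he⟩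

/-- The twist of a split four group is trivial. -/
theorem zeta_eq_one {σ : G} (sg : Sig q σ) (hres : Cfsg.pResidual 2 G = ⊤) (tw : Twist q) (p : G) :
    tw.zeta p = 1 := by
  have cx := klein_ctx kl sg
  have hp : ∀ b ∈ (P : Subgroup G), q.pr (σ * b * σ⁻¹) = q.pr b ∧ q.pr' (σ * b * σ⁻¹) = σ * q.pr' b * σ⁻¹ :=
    fun b hb => by
    have e : σ * b * σ⁻¹ = σ * q.pr b * σ⁻¹ * (σ * q.pr' b * σ⁻¹) := by
      conv_lhs => rw [← q.split hb]
      group
    rw [e, sg.fixD _ (q.pr_mem hb)]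
    exact ⟨q.pr_eq (q.pr_mem hb) (sg.keep _ (q.pr'_mem hb)), q.pr'_eq (q.pr_mem hb) (sg.keep _ (q.pr'_mem hb))⟩
  obtain ⟨E₁, u₁, h₁⟩ := cx.exists_typeV hres
  obtain ⟨E₂, u₂, h₂⟩ := cx.exists_typeQ hres
  have hV : tw.eV = 1 := by
    obtain ⟨g, hg, hm⟩ := h₁.fork.exists_moved
    have hσg : σ * g ∈ normalizer (E₁ : Set G) := mul_mem (sig_twist_one kl sg (Or.inl h₁)) hg
    have hwP := h₁.le (mem_cen.mp (h₁.w_props hg).1).1
    have e : σ * g * q.a.z * (σ * g)⁻¹ = σ * (g * q.a.z * g⁻¹) * σ⁻¹ := by group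
    have hm' : h₁.fork.Moved (σ * g) := (h₁.moved_iff hσg).mpr (by
      rw [e, (hp _ hwP).1]; exact (h₁.moved_iff hg).mp hm)
    have e1 := tw.hV E₁ u₁ h₁ _ hσg hm'
    rw [e, (hp _ hwP).2, tw.hV E₁ u₁ h₁ g hg hm] at e1
    exact sg.free _ (q.ZB_le tw.eV_mem) e1
  have hQ : tw.eQ = 1 := by
    obtain ⟨g, hg, hm⟩ := h₂.fork.exists_moved
    have hσg : σ * g ∈ normalizer (E₂ : Set G) := mul_mem (sig_twist_one kl sg (Or.inr h₂)) hg
    have hwP := h₂.le (h₂.w_props hg).1.1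
    have e : σ * g * q.a.c * (σ * g)⁻¹ = σ * (g * q.a.c * g⁻¹) * σ⁻¹ := by group
    have hm' : h₂.fork.Moved (σ * g) := (h₂.moved_iff hσg).mpr (by
      rw [e, (hp _ hwP).1]; exact (h₂.moved_iff hg).mp hm)
    have e1 := tw.hQ E₂ u₂ h₂ _ hσg hm'
    rw [e, (hp _ hwP).2, tw.hQ E₂ u₂ h₂ g hg hm] at e1
    exact sg.free _ (q.ZB_le tw.eQ_mem) e1
  unfold Twist.zeta chi
  rw [hV, hQ]
  simp

end CfsgLib.SDMixed
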