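import Cfsg.Agent.Lib.SDMixed.Klein
import Cfsg.Agent.Lib.TransferExtremal
import Cfsg.Agent.Lib.Transfer

/-!
A four group as second factor: some element of odd order moves it, and splits the Sylow subgroup.
-/

set_option autoImplicit false
set_option linter.unusedSectionVars false

namespace CfsgLib.SDMixed

open Cfsg Cfsg.FusionSystem Subgroup CfsgLib.AfterFT.DihedralSquare CfsgLib.SDSquare

universe u
variable {G : Type u} [Group G] [Finite G] {P : Sylow 2 G}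

/-- An element centralising the semidihedral factor and acting freely on the other one. -/
structure Sig (q : Half (P : Subgroup G)) (σ : G) : Prop where
  norm : σ ∈ normalizer ((P : Subgroup G) : Set G)
  odd : Odd (orderOf σ)
  fixD : ∀ d ∈ q.a.D, σ * d * σ⁻¹ = d
  keep : ∀ k ∈ q.B, σ * k * σ⁻¹ ∈ q.B
  free : ∀ k ∈ q.B, σ * k * σ⁻¹ = k → k = 1

/-- The centre of `P`. -/
def Half.W (q : Half (P : Subgroup G)) : Subgroup G where
  carrier := {b | b ∈ (P : Subgroup G) ∧ q.pr b ∈ q.a.Z}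
  one_mem' := ⟨one_mem _, by rw [q.pr_one]; exact one_mem _⟩
  mul_mem' := fun {a b} ha hb => ⟨mul_mem ha.1 hb.1, by rw [q.pr_mul ha.1 hb.1]; exact mul_mem ha.2 hb.2⟩
  inv_mem' := fun {a} ha => ⟨inv_mem ha.1, by rw [q.pr_inv ha.1]; exact inv_mem ha.2⟩

namespace Kl

variable {q : Half (P : Subgroup G)} (kl : Kl q)
include kl

theorem four {κ κ₁ : G} (h : κ ∈ q.B) (h₁ : κ₁ ∈ q.B) (n : κ ≠ 1) (n₁ : κ₁ ≠ 1) (ne : κ ≠ κ₁) {b : G}
    (hb : b ∈ q.B) : b = 1 ∨ b = κ ∨ b = κ₁ ∨ b = κ * κ₁ := by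
  classical
  have hsub : ({1, κ, κ₁, κ * κ₁} : Set G) ⊆ (q.B : Set G) := by
    intro x hx
    simp only [Set.mem_insert_iff, Set.mem_singleton_iff] at hx
    rcases hx with rfl | rfl | rfl | rfl
    exacts [one_mem _, h, h₁, mul_mem h h₁]
  have hne : κ * κ₁ ≠ 1 := fun e => ne ((eq_inv_of_mul_eq_one_left e).trans (inv_eq_of_mul_eq_one_left (kl.sq h₁)))
  have hc : ({1, κ, κ₁, κ * κ₁} : Set G).ncard = 4 := by
    rw [Set.ncard_insert_of_notMem (by simp [n.symm, n₁.symm, hne.symm]) (Set.toFinite _),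
      Set.ncard_insert_of_notMem (by simp [ne, n₁]) (Set.toFinite _),
      Set.ncard_insert_of_notMem (by simp [n]) (Set.toFinite _), Set.ncard_singleton]
  have he : ({1, κ, κ₁, κ * κ₁} : Set G) = (q.B : Set G) := Set.eq_of_subset_of_ncard_le hsub (by
    rw [hc, ← Nat.card_coe_set_eq]; exact le_of_eq kl.card) (Set.toFinite _)
  have := he.symm.le (show b ∈ (q.B : Set G) from hb)
  simpa only [Set.mem_insert_iff, Set.mem_singleton_iff] using this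

theorem exists_two : ∃ κ ∈ q.B, ∃ κ₁ ∈ q.B, κ ≠ 1 ∧ κ₁ ≠ 1 ∧ κ ≠ κ₁ := by
  by_contra hcon
  push Not at hcon
  have hc := kl.card
  obtain ⟨κ, hκ, hn⟩ : ∃ κ ∈ q.B, κ ≠ 1 := by
    refine q.B.bot_or_exists_ne_one.resolve_left fun e => ?_
    rw [e, Subgroup.card_bot] at hc
    omega
  have : (q.B : Set G) ⊆ {1, κ} := fun b hb => by
    by_cases h1 : b = 1
    · exact Or.inl h1
    · exact Or.inr (hcon κ hκ b hb hn h1).symm
  have h2 := Set.ncard_le_ncard this (Set.toFinite _)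
  rw [← Nat.card_coe_set_eq, Set.ncard_pair hn.symm] at h2
  have : Nat.card q.B ≤ 2 := h2
  omega

/-- **An element of odd order moves a central element.** -/
theorem exists_odd_moving (hG : ∀ M : Subgroup G, M.Normal → M.index ≠ 2) :
    ∃ g ∈ normalizer ((P : Subgroup G) : Set G), Odd (orderOf g) ∧
      ∃ b ∈ (P : Subgroup G), q.pr b ∈ q.a.Z ∧ g * b * g⁻¹ ≠ b := by
  haveI : Fact (Nat.Prime 2) := ⟨Nat.prime_two⟩
  by_contra hcon
  push Not at hcon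
  obtain ⟨κ, hκ, κ₁, hκ₁, n, n₁, ne⟩ := kl.exists_two
  let Q : Subgroup G :=
    { carrier := {b | b ∈ (P : Subgroup G) ∧ q.pr' b ∈ zpowers κ₁}
      one_mem' := ⟨one_mem _, by rw [q.pr'_one]; exact one_mem _⟩
      mul_mem' := fun {a b} ha hb => ⟨mul_mem ha.1 hb.1, by rw [q.pr'_mul ha.1 hb.1]; exact mul_mem ha.2 hb.2⟩
      inv_mem' := fun {a} ha => ⟨inv_mem ha.1, by rw [q.pr'_inv ha.1]; exact inv_mem ha.2⟩ }
  have hκP := q.B_le hκ
  have hnot : κ ∉ zpowers κ₁ := by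
    intro hm
    obtain ⟨i, hi⟩ := mem_zpowers_iff.mp hm
    rcases Int.even_or_odd' i with ⟨j, rfl | rfl⟩
    · exact n (by rw [← hi, zpow_mul, zpow_two, kl.sq hκ₁, one_zpow])
    · exact ne (by rw [← hi, zpow_add, zpow_mul, zpow_two, kl.sq hκ₁, one_zpow, one_mul, zpow_one])
  have hκQ : κ ∉ Q := fun h => hnot (by have := h.2; rwa [q.pr'_of_mem_b hκ] at this)
  have hQi : Q.relIndex (P : Subgroup G) = 2 := by
    refine relIndex_eq_two_iff_exists_notMem_and.mpr ⟨κ, hκP, hκQ, fun b hb => ?_⟩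
    rcases kl.four hκ hκ₁ n n₁ ne (q.pr'_mem hb) with e | e | e | e
    · exact Or.inr ⟨hb, by rw [e]; exact one_mem _⟩
    · exact Or.inl ⟨P.mul_mem hb hκP, by
        rw [q.pr'_mul hb hκP, e, q.pr'_of_mem_b hκ, kl.sq hκ]; exact one_mem _⟩
    · exact Or.inr ⟨hb, by rw [e]; exact mem_zpowers _⟩
    · exact Or.inl ⟨P.mul_mem hb hκP, by
        rw [q.pr'_mul hb hκP, e, q.pr'_of_mem_b hκ, mul_assoc κ κ₁ κ, kl.comm (q.B_le hκ) hκ₁, ← mul_assoc,
          kl.sq hκ, one_mul]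
        exact mem_zpowers _⟩
  obtain ⟨g, hgQ, hcard⟩ := CfsgLib.TransferExtremal.exists_conj hG P Q (fun b hb => hb.1) hQi κ
    (by rw [pow_two, kl.sq hκ])
  have hκc : ∀ e ∈ (P : Subgroup G), κ * e = e * κ := fun e he => kl.comm he hκ
  have hfull : centralizer ({κ} : Set G) ⊓ (P : Subgroup G) = (P : Subgroup G) :=
    inf_eq_right.mpr fun e he => mem_centralizer_singleton_iff.mpr (hκc e he).symm
  rw [hfull] at hcard
  have heq : centralizer ({g * κ * g⁻¹} : Set G) ⊓ (P : Subgroup G) = (P : Subgroup G) :=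
    eq_of_le_of_card_ge inf_le_right hcard
  have hκ'c : ∀ e ∈ (P : Subgroup G), g * κ * g⁻¹ * e = e * (g * κ * g⁻¹) := fun e he => by
    have : e ∈ centralizer ({g * κ * g⁻¹} : Set G) ⊓ (P : Subgroup G) := by rw [heq]; exact he
    exact (mem_centralizer_singleton_iff.mp this.1).symm
  obtain ⟨m, hm, hme⟩ := CfsgLib.Transfer.exists_normalizer_conj_of_normal_subsets P {κ} {g * κ * g⁻¹}
    (fun e he z hz => by rw [Set.mem_singleton_iff] at hz ⊢; rw [hz, ← hκc e he, mul_inv_cancel_right])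
    (fun e he z hz => by rw [Set.mem_singleton_iff] at hz ⊢; rw [hz, ← hκ'c e he, mul_inv_cancel_right])
    (g := g) (by simp)
  have hme' : m * κ * m⁻¹ = g * κ * g⁻¹ := by simpa using hme
  have hfix := rel_normalizer (Rel := fun a b => q.pr a ∈ q.a.Z → b = a) (P := P)
    (fun {a b c} h h' ha => by rw [h' (by rw [h ha]; exact ha), h ha])
    (fun s hs a ha hz => by rw [← kl.central_comm ha hz hs, mul_inv_cancel_right])
    (fun g hg ho a ha hz => hcon g hg ho a ha hz) hm hκP (by rw [q.pr_of_mem_b hκ]; exact one_mem _)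
  rw [hme'] at hfix
  rw [hfix] at hgQ
  exact hκQ hgQ

theorem card_W : Nat.card (q.W) = 8 := by
  let e : q.W ≃ q.a.Z × q.B :=
    { toFun := fun b => (⟨q.pr b, b.2.2⟩, ⟨q.pr' b, q.pr'_mem b.2.1⟩)
      invFun := fun p => ⟨(p.1 : G) * p.2, P.mul_mem (q.aD_le (q.a.X_le (q.a.Z_le p.1.2))) (q.B_le p.2.2),
        by rw [q.pr_eq (q.a.X_le (q.a.Z_le p.1.2)) p.2.2]; exact p.1.2⟩
      left_inv := fun b => Subtype.ext (q.split b.2.1)
      right_inv := fun p => Prod.ext (Subtype.ext (q.pr_eq (q.a.X_le (q.a.Z_le p.1.2)) p.2.2))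
        (Subtype.ext (q.pr'_eq (q.a.X_le (q.a.Z_le p.1.2)) p.2.2)) }
  have hz : orderOf q.a.z = 2 := orderOf_eq_prime (by rw [pow_two, q.a.z_mul_z]) q.a.z_ne_one
  rw [Nat.card_congr e, Nat.card_prod, kl.card, SDGen.Z, Nat.card_zpowers, hz]

/-- **An element of odd order splits the Sylow subgroup.** -/
theorem exists_split (hG : ∀ M : Subgroup G, M.Normal → M.index ≠ 2) :
    ∃ (q' : Half (P : Subgroup G)) (σ : G), Kl q' ∧ Sig q' σ ∧ Nonempty (q'.a.D ≃* q.a.D) := by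
  haveI : Fact (Nat.Prime 2) := ⟨Nat.prime_two⟩
  obtain ⟨g, hg, ho, b₀, hb₀, hb₀Z, hb₀n⟩ := kl.exists_odd_moving hG
  have hgP : ∀ {b}, b ∈ (P : Subgroup G) → g * b * g⁻¹ ∈ (P : Subgroup G) := fun hb => kl.conjP hg hb
  have hsh : ∀ {b}, b ∈ (P : Subgroup G) → b⁻¹ * (g * b * g⁻¹) ∈ q.W := fun hb =>
    ⟨P.mul_mem (P.inv_mem hb) (hgP hb), kl.shift hg ho hb⟩
  let δ : ↥(P : Subgroup G) →* G :=
    MonoidHom.mk' (fun b => (b : G)⁻¹ * (g * b * g⁻¹)) fun a b => kl.shift_mul hg ho a.2 b.2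
  let δW : q.W →* G := δ.comp (inclusion fun _ h => h.1)
  set K := δW.range with hK
  have hKW : K ≤ q.W := by rintro _ ⟨v, rfl⟩; exact hsh v.2.1
  have hKP : ∀ {k}, k ∈ K → k ∈ (P : Subgroup G) := fun hk => (hKW hk).1
  have mkK : ∀ {v}, v ∈ q.W → v⁻¹ * (g * v * g⁻¹) ∈ K := fun {v} hv => ⟨⟨v, hv⟩, rfl⟩
  have hsq : ∀ {v}, v ∈ q.W → v * v = 1 := fun hv => kl.central_sq hv.1 hv.2
  have hWP : ∀ {v}, v ∈ q.W → ∀ e ∈ (P : Subgroup G), v * e = e * v := fun hv e he =>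
    kl.central_comm hv.1 hv.2 he
  have hgK : ∀ {k}, k ∈ K → g * k * g⁻¹ ∈ K := by
    intro k hk
    have := mul_mem hk (mkK (hKW hk))
    rwa [mul_inv_cancel_left] at this
  have free : ∀ k ∈ K, g * k * g⁻¹ = k → k = 1 := by
    rintro k hk hkfix
    obtain ⟨⟨v, hv⟩, hvk⟩ := hk
    have e : g * v * g⁻¹ = v * k := by
      rw [← hvk]; show g * v * g⁻¹ = v * (v⁻¹ * (g * v * g⁻¹)); rw [mul_inv_cancel_left]
    have hit : ∀ n : ℕ, g ^ n * v * (g ^ n)⁻¹ = v * k ^ n := by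
      intro n
      induction n with
      | zero => simp
      | succ n ih =>
        rw [pow_succ' g, show g * g ^ n * v * (g * g ^ n)⁻¹ = g * (g ^ n * v * (g ^ n)⁻¹) * g⁻¹ by group, ih,
          show g * (v * k ^ n) * g⁻¹ = g * v * g⁻¹ * (g * k ^ n * g⁻¹) by group, ← conj_pow, hkfix, e, pow_succ',
          mul_assoc]
    have h1 := hit (orderOf g)
    rw [pow_orderOf_eq_one g, one_mul, inv_one, mul_one, left_eq_mul] at h1
    have hk2 : k * k = 1 := hsq (hKW ⟨⟨v, hv⟩, hvk⟩)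
    obtain ⟨j, hj⟩ := ho
    rwa [hj, pow_succ, pow_mul, pow_two, hk2, one_pow, one_mul] at h1
  have hz : q.a.z ∈ q.W := ⟨q.za_mem, by rw [q.pr_of_mem (q.a.X_le q.a.z_mem_X)]; exact mem_zpowers _⟩
  have hzfix := kl.fix_za hg ho
  have hzker : (⟨q.a.z, hz⟩ : q.W) ∈ δW.ker := by
    show q.a.z⁻¹ * (g * q.a.z * g⁻¹) = 1
    rw [hzfix, inv_mul_cancel]
  have hmul : Nat.card δW.ker * Nat.card K = 8 := by
    rw [hK, ← Subgroup.index_ker, Subgroup.card_mul_index, kl.card_W]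
  have hk1 : b₀⁻¹ * (g * b₀ * g⁻¹) ∈ K := mkK ⟨hb₀, hb₀Z⟩
  have hk1n : b₀⁻¹ * (g * b₀ * g⁻¹) ≠ 1 := fun e => hb₀n (inv_mul_eq_one.mp e).symm
  have hK4 : Nat.card K = 4 ∧ Nat.card δW.ker = 2 := by
    have h1 : 2 ≤ Nat.card δW.ker := by
      haveI : Nontrivial δW.ker :=
        ⟨⟨⟨_, hzker⟩, 1, fun e => q.a.z_ne_one (congrArg (fun v : δW.ker => ((v : q.W) : G)) e)⟩⟩
      exact Finite.one_lt_card
    have h2 : 2 ≤ Nat.card K := by
      haveI : Nontrivial K := ⟨⟨⟨_, hk1⟩, 1, fun e => hk1n (congrArg Subtype.val e)⟩⟩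
      exact Finite.one_lt_card
    have h3 : Nat.card K ≠ 2 := by
      intro h3
      obtain ⟨y, -, hy⟩ := (Nat.card_eq_two_iff' (1 : K)).mp h3
      have hk2 : g * (b₀⁻¹ * (g * b₀ * g⁻¹)) * g⁻¹ ∈ K := hgK hk1
      have e1 := hy ⟨_, hk1⟩ fun e => hk1n (congrArg Subtype.val e)
      have e2 := hy ⟨_, hk2⟩ fun e => hk1n (conj_eq_one_iff.mp (congrArg Subtype.val e))
      exact hk1n (free _ hk1 (congrArg Subtype.val (e2.trans e1.symm)))
    have hle : Nat.card K ≤ 4 := by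
      by_contra hgt
      nlinarith
    have hd : Nat.card K ∣ 8 := Dvd.intro_left _ hmul
    interval_cases h : Nat.card K <;> omega
  have fixW : ∀ v ∈ q.W, g * v * g⁻¹ = v → v = 1 ∨ v = q.a.z := by
    intro v hv hfix
    have hvk : (⟨v, hv⟩ : q.W) ∈ δW.ker := by
      show v⁻¹ * (g * v * g⁻¹) = 1
      rw [hfix, inv_mul_cancel]
    by_cases h1 : v = 1
    · exact Or.inl h1
    obtain ⟨y, -, hy⟩ := (Nat.card_eq_two_iff' (1 : δW.ker)).mp hK4.2
    have e1 := hy ⟨_, hvk⟩ fun e => h1 (congrArg (fun v : δW.ker => ((v : q.W) : G)) e)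
    have e2 := hy ⟨_, hzker⟩ fun e => q.a.z_ne_one (congrArg (fun v : δW.ker => ((v : q.W) : G)) e)
    exact Or.inr (congrArg (fun v : δW.ker => ((v : q.W) : G)) (e1.trans e2.symm))
  have onto : ∀ k ∈ K, ∃ k' ∈ K, k'⁻¹ * (g * k' * g⁻¹) = k := by
    intro k hk
    let f : K → K := fun v => ⟨(v : G)⁻¹ * (g * v * g⁻¹), mkK (hKW v.2)⟩
    have hf : Function.Injective f := by
      intro u v e
      have e' : δW ⟨u, hKW u.2⟩ = δW ⟨v, hKW v.2⟩ := congrArg Subtype.val e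
      have h : ((u : G)⁻¹ * v)⁻¹ * (g * ((u : G)⁻¹ * v) * g⁻¹) = 1 := by
        show δW (⟨u, hKW u.2⟩⁻¹ * ⟨v, hKW v.2⟩) = 1
        rw [map_mul, map_inv, e', inv_mul_cancel]
      exact Subtype.ext (inv_mul_eq_one.mp (free _ (mul_mem (inv_mem u.2) v.2) (inv_mul_eq_one.mp h).symm))
    obtain ⟨k', hk'⟩ := (Finite.injective_iff_surjective.mp hf) ⟨k, hk⟩
    exact ⟨k', k'.2, congrArg Subtype.val hk'⟩
  have splitW : ∀ v ∈ q.W, ∃ ζ ∈ q.a.Z, ∃ k ∈ K, v = ζ * k := by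
    intro v hv
    obtain ⟨k, hk, hke⟩ := onto _ (mkK hv)
    have hvk : v * k⁻¹ ∈ q.W := mul_mem hv (inv_mem (hKW hk))
    have hfix : g * (v * k⁻¹) * g⁻¹ = v * k⁻¹ := by
      have h : δW (⟨v, hv⟩ * ⟨k, hKW hk⟩⁻¹) = 1 := by
        rw [map_mul, map_inv]
        show v⁻¹ * (g * v * g⁻¹) * (k⁻¹ * (g * k * g⁻¹))⁻¹ = 1
        rw [hke, mul_inv_cancel]
      exact (inv_mul_eq_one.mp h).symm
    rcases fixW _ hvk hfix with e | e
    · exact ⟨1, one_mem _, k, hk, by rw [one_mul]; exact mul_inv_eq_one.mp e⟩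
    · exact ⟨q.a.z, mem_zpowers _, k, hk, by rw [← e, inv_mul_cancel_right]⟩
  have zfix : ∀ ζ ∈ q.a.Z, g * ζ * g⁻¹ = ζ := fun ζ h => by
    rcases q.a.mem_Z.mp h with e | e <;> rw [e]
    · group
    · exact hzfix
  have inK : ∀ {b}, b ∈ (P : Subgroup G) → b⁻¹ * (g * b * g⁻¹) ∈ K := by
    intro b hb
    obtain ⟨ζ, hζ, k, hk, e⟩ := splitW _ (hsh hb)
    have hζW : ζ ∈ q.W := by
      refine ⟨q.aD_le (q.a.X_le (q.a.Z_le hζ)), ?_⟩
      rw [q.pr_of_mem (q.a.X_le (q.a.Z_le hζ))]; exact hζ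
    have e1 : g * b * g⁻¹ = b * (ζ * k) := by rw [← e, mul_inv_cancel_left]
    have hit : ∀ n : ℕ, ∃ k' ∈ K, g ^ n * b * (g ^ n)⁻¹ = b * ζ ^ n * k' := by
      intro n
      induction n with
      | zero => exact ⟨1, one_mem _, by simp⟩
      | succ n ih =>
        obtain ⟨k', hk', e'⟩ := ih
        refine ⟨k * (g * k' * g⁻¹), mul_mem hk (hgK hk'), ?_⟩
        rw [pow_succ' g, show g * g ^ n * b * (g * g ^ n)⁻¹ = g * (g ^ n * b * (g ^ n)⁻¹) * g⁻¹ by group, e',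
          show g * (b * ζ ^ n * k') * g⁻¹ = g * b * g⁻¹ * (g * ζ ^ n * g⁻¹) * (g * k' * g⁻¹) by group, e1,
          zfix _ (pow_mem hζ n), pow_succ']
        calc b * (ζ * k) * ζ ^ n * (g * k' * g⁻¹) = b * ζ * (k * ζ ^ n) * (g * k' * g⁻¹) := by group
          _ = b * ζ * (ζ ^ n * k) * (g * k' * g⁻¹) := by rw [hWP (hKW hk) _ (pow_mem hζW n).1]
          _ = b * (ζ * ζ ^ n) * (k * (g * k' * g⁻¹)) := by group
    obtain ⟨k', hk', e'⟩ := hit (orderOf g)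
    rw [pow_orderOf_eq_one g, one_mul, inv_one, mul_one, mul_assoc, left_eq_mul] at e'
    obtain ⟨j, hj⟩ := ho
    rw [hj, pow_succ, pow_mul, pow_two, q.a.Z_sq hζ, one_pow, one_mul] at e'
    have hζK : ζ ∈ K := by rw [eq_inv_of_mul_eq_one_left e']; exact inv_mem hk'
    rw [e]; exact mul_mem hζK hk
  have lift : ∀ d ∈ q.a.D, ∃ b ∈ (P : Subgroup G), q.pr b = d ∧ g * b * g⁻¹ = b := by
    intro d hd
    obtain ⟨k, hk, hke⟩ := onto _ (inK (q.aD_le hd))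
    have hkZ := (hKW hk).2
    have hdP := q.aD_le hd
    have hpk := q.aD_le (q.pr_mem (hKP hk))
    refine ⟨d * q.pr k * k⁻¹, P.mul_mem (P.mul_mem hdP hpk) (P.inv_mem (hKP hk)), ?_, ?_⟩
    · rw [q.pr_mul (P.mul_mem hdP hpk) (P.inv_mem (hKP hk)), q.pr_inv (hKP hk), q.pr_mul hdP hpk,
        q.pr_of_mem hd, q.pr_of_mem (q.pr_mem (hKP hk)), mul_inv_cancel_right]
    · have e2 : g * k * g⁻¹ = k * (d⁻¹ * (g * d * g⁻¹)) := by rw [← hke, mul_inv_cancel_left]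
      have hδ := hWP (hsh hdP) _ hpk
      calc g * (d * q.pr k * k⁻¹) * g⁻¹ = g * d * g⁻¹ * (g * q.pr k * g⁻¹) * (g * k * g⁻¹)⁻¹ := by group
        _ = g * d * g⁻¹ * q.pr k * (k * (d⁻¹ * (g * d * g⁻¹)))⁻¹ := by rw [zfix _ hkZ, e2]
        _ = d * (d⁻¹ * (g * d * g⁻¹) * q.pr k) * ((d⁻¹ * (g * d * g⁻¹))⁻¹ * k⁻¹) := by group
        _ = d * (q.pr k * (d⁻¹ * (g * d * g⁻¹))) * ((d⁻¹ * (g * d * g⁻¹))⁻¹ * k⁻¹) := by rw [hδ]
        _ = d * q.pr k * k⁻¹ := by group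
  have inj : ∀ {b}, b ∈ (P : Subgroup G) → g * b * g⁻¹ = b → q.pr b = 1 → b = 1 := by
    intro b hb hfix hp
    rcases fixW b ⟨hb, by rw [hp]; exact one_mem _⟩ hfix with e | e
    · exact e
    · rw [e, q.pr_of_mem (q.a.X_le q.a.z_mem_X)] at hp
      exact absurd hp q.a.z_ne_one
  obtain ⟨x', hx'P, hx', hx'g⟩ := lift _ (q.a.X_le (mem_zpowers q.a.x))
  obtain ⟨y', hy'P, hy', hy'g⟩ := lift _ q.a.off_y.1
  let Fx : Subgroup G :=
    { carrier := {b | b ∈ (P : Subgroup G) ∧ g * b * g⁻¹ = b}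
      one_mem' := ⟨one_mem _, by group⟩
      mul_mem' := fun {a b} ha hb => ⟨mul_mem ha.1 hb.1, by
        rw [show g * (a * b) * g⁻¹ = g * a * g⁻¹ * (g * b * g⁻¹) by group, ha.2, hb.2]⟩
      inv_mem' := fun {a} ha => ⟨inv_mem ha.1, by rw [← conj_inv, ha.2]⟩ }
  let π : Fx →* G := MonoidHom.mk' (fun b => q.pr b) fun a b => q.pr_mul a.2.1 b.2.1
  have hπ : Function.Injective π := (injective_iff_map_eq_one π).mpr fun b hb => Subtype.ext (inj b.2.1 b.2.2 hb)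
  let xF : Fx := ⟨x', hx'P, hx'g⟩
  let yF : Fx := ⟨y', hy'P, hy'g⟩
  have hπx : π xF = q.a.x := hx'
  have hπy : π yF = q.a.y := hy'
  let a' : SDGen G :=
    { x := x'
      y := y'
      M := q.a.M
      two_pow := q.a.two_pow
      order_x := by
        rw [← q.a.order_x, ← hπx, orderOf_injective π hπ]
        exact (Subgroup.orderOf_coe xF)
      y_sq := congrArg Subtype.val (show yF * yF = 1 from hπ (by rw [map_mul, hπy, q.a.y_sq, map_one]))
      conj_x := congrArg Subtype.val (show yF * xF * yF⁻¹ = xF ^ (4 * (q.a.M : ℤ) - 1) from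
        hπ (by rw [map_mul, map_mul, map_inv, map_zpow, hπx, hπy, q.a.conj_x]))
      y_notMem := fun h => by
        obtain ⟨i, hi⟩ := mem_zpowers_iff.mp h
        exact q.a.y_notMem ⟨i, by
          show q.a.x ^ i = q.a.y
          rw [← hπx, ← hπy, ← map_zpow]
          exact congrArg π (Subtype.ext (by rw [Subgroup.coe_zpow]; exact hi))⟩ }
  have hxmem : x' ∈ a'.D := a'.X_le (mem_zpowers x')
  have hymem : y' ∈ a'.D := a'.off_y.1
  have hD' : ∀ b, b ∈ a'.D ↔ b ∈ Fx := by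
    intro b
    constructor
    · intro hb
      obtain ⟨i, e | e⟩ := a'.mem_D.mp hb <;> rw [e]
      exacts [zpow_mem xF.2 i, mul_mem (zpow_mem xF.2 i) yF.2]
    · intro hb
      obtain ⟨i, e | e⟩ := q.a.mem_D.mp (q.pr_mem hb.1)
      · have : (⟨b, hb⟩ : Fx) = xF ^ i := hπ (by rw [map_zpow, hπx]; exact e)
        have hb' : b = x' ^ i := by simpa using congrArg Subtype.val this
        rw [hb']; exact zpow_mem hxmem i
      · have : (⟨b, hb⟩ : Fx) = xF ^ i * yF := hπ (by rw [map_mul, map_zpow, hπx, hπy]; exact e)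
        have hb' : b = x' ^ i * y' := by simpa using congrArg Subtype.val this
        rw [hb']; exact mul_mem (zpow_mem hxmem i) hymem
  have hprod : IsInternalDirectProduct a'.D K (P : Subgroup G) := by
    refine ⟨fun b hb => ((hD' b).mp hb).1, fun k hk => hKP hk, fun b hb k hk => ?_, ?_, ?_⟩
    · exact (hWP (hKW hk) b ((hD' b).mp hb).1).symm
    · rw [eq_bot_iff]
      rintro b ⟨h1, h2⟩
      exact mem_bot.mpr (free b h2 ((hD' b).mp h1).2)
    · refine le_antisymm (sup_le (fun b hb => ((hD' b).mp hb).1) fun k hk => hKP hk) fun b hb => ?_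
      obtain ⟨c, hcP, hc, hcg⟩ := lift _ (q.pr_mem hb)
      have hw : c⁻¹ * b ∈ q.W := ⟨P.mul_mem (P.inv_mem hcP) hb, by
        rw [q.pr_mul (P.inv_mem hcP) hb, q.pr_inv hcP, hc, inv_mul_cancel]; exact one_mem _⟩
      obtain ⟨ζ, hζ, k, hk, e⟩ := splitW _ hw
      have hζF : ζ ∈ Fx := ⟨q.aD_le (q.a.X_le (q.a.Z_le hζ)), zfix ζ hζ⟩
      have e2 : b = c * ζ * k := by rw [mul_assoc, ← e, mul_inv_cancel_left]
      rw [e2]
      exact mul_mem (mem_sup_left (mul_mem ((hD' c).mpr ⟨hcP, hcg⟩) ((hD' ζ).mpr hζF))) (mem_sup_right hk)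
  let q' := kleinHalf hprod (fun k hk l hl => hWP (hKW hk) l (hKP hl)) fun k hk => hsq (hKW hk)
  refine ⟨q', g, ⟨le_refl _, hK4.1⟩, ⟨hg, ho, fun d hd => ((hD' d).mp hd).2, fun k hk => hgK hk, free⟩, ⟨?_⟩⟩
  refine MulEquiv.ofBijective (MonoidHom.mk' (fun b : a'.D => (⟨q.pr b, q.pr_mem ((hD' b).mp b.2).1⟩ : q.a.D))
    fun b c => Subtype.ext (q.pr_mul ((hD' b).mp b.2).1 ((hD' c).mp c.2).1)) ⟨fun b c e => ?_, fun d => ?_⟩
  · have e' : q.pr (b : G) = q.pr (c : G) := congrArg Subtype.val e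
    have : (⟨b, (hD' b).mp b.2⟩ : Fx) = ⟨c, (hD' c).mp c.2⟩ := hπ e'
    exact Subtype.ext (congrArg (fun v : Fx => (v : G)) this)
  · obtain ⟨c, hcP, hc, hcg⟩ := lift _ d.2
    exact ⟨⟨c, (hD' c).mpr ⟨hcP, hcg⟩⟩, Subtype.ext hc⟩

end Kl

end CfsgLib.SDMixed
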