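import Cfsg.Agent.Lib.SDMixed.Types
import Cfsg.Agent.Lib.SDSquare.Movers

/-!
The moved centres determine one element of the other centre for each type.
-/

set_option autoImplicit false
set_option linter.unusedSectionVars false

namespace CfsgLib.SDMixed

open Cfsg Cfsg.FusionSystem Subgroup CfsgLib.AfterFT.DihedralSquare CfsgLib.SDSquare

universe u
variable {G : Type u} [Group G] [Finite G] {P : Sylow 2 G} {E : Subgroup G} {q : Half (P : Subgroup G)}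

namespace TypeV

variable {u : G} (h : TypeV q E u)
include h

theorem mem_iff {e : G} : e ∈ E ↔ e ∈ (P : Subgroup G) ∧ (q.pr e ∈ q.a.Z ∨ u⁻¹ * q.pr e ∈ q.a.Z) := by
  refine ⟨fun he => ⟨h.le he, h.four.range e he⟩, fun ⟨he, hr⟩ => ?_⟩
  rw [← q.split he]
  refine mul_mem ?_ (h.bD (q.pr'_mem he))
  rcases hr with hz | hz
  · exact Za_leE q h.ess hz
  · have := mul_mem h.four.mem (Za_leE q h.ess hz)
    rwa [mul_inv_cancel_left] at this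

theorem za_cen : q.a.z ∈ cen E :=
  mem_cen.mpr ⟨za_memE q h.ess, fun _ he => q.za_comm (h.le he)⟩

theorem u_cen : u ∈ cen E :=
  (h.mem_cen_iff h.four.mem).mpr (by rw [q.pr'_of_mem h.four.off.1]; exact one_mem _)

/-- The section `Z(E) / Z'`. -/
theorem fork : Fork P E q.ZB (cen E) q.a.c q.a.z := by
  have hES := h.le
  have hZb : ∀ {e : G}, e ∈ q.ZB → q.pr e = 1 := fun he => q.pr_of_mem_b (q.ZB_le (id he))
  refine ⟨h.ess, h.inv_Zb, inv_cen, fun l hl => (h.mem_cen_iff (h.Zb_le hl)).mpr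
    (by rw [q.pr'_of_mem_b (q.ZB_le (id hl))]; exact hl), h.four.c_norm h.ess, h.four.c_notMem h.ess,
    h.za_cen, fun hz => q.a.z_ne_one ((q.pr_of_mem (q.a.X_le q.a.z_mem_X)).symm.trans (hZb hz)),
    by rw [q.a.z_mul_z]; exact one_mem _, ?_, fun l hl l' hl' => ?_, fun e he => ?_, fun l hl => ?_,
    fun l hl => ?_, fun l hl hfix => ?_⟩
  · show q.a.z⁻¹ * (q.a.c * q.a.z * q.a.c⁻¹) ∈ q.ZB
    rw [← MulAut.conj_apply, c_fix_za q, inv_mul_cancel]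
    exact one_mem _
  · show (l * l')⁻¹ * (l' * l) ∈ q.ZB
    rw [(mem_cen.mp hl).2 l' (mem_cen.mp hl').1, inv_mul_cancel]
    exact one_mem _
  · rcases q.a.mem_Z.mp (h.four.c_comm h.ess he) with e' | e' <;> rw [e']
    exacts [one_mem _, h.za_cen]
  · exact q.comm_ab (q.a.X_le q.a.c_mem_X) (q.ZB_le (id hl))
  · rcases h.four.c_trans h.ess l (mem_cen.mp hl).1 with e | e <;> rw [MulAut.conj_apply] at e
    · left; show l⁻¹ * (q.a.c * l * q.a.c⁻¹) ∈ q.ZB; rw [e, inv_mul_cancel]; exact one_mem _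
    · right; show (l * q.a.z)⁻¹ * (q.a.c * l * q.a.c⁻¹) ∈ q.ZB; rw [e, inv_mul_cancel]; exact one_mem _
  · obtain ⟨hlE, -⟩ := mem_cen.mp hl
    have hl' := (h.mem_cen_iff hlE).mp hl
    have hX : q.pr l ∈ q.a.X := by
      by_contra hX
      have h1 : q.a.c * l * q.a.c⁻¹ * l⁻¹ = q.a.z := by
        rw [q.comm_pr (q.a.X_le q.a.c_mem_X) (hES hlE), q.a.c_conj ⟨q.pr_mem (hES hlE), hX⟩]
      have h2 := h.inv_Zb.conj l (le_normalizer hlE) _ hfix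
      rw [← mul_assoc, mul_inv_cancel, one_mul, h1] at h2
      exact q.a.z_ne_one ((q.pr_of_mem (q.a.X_le q.a.z_mem_X)).symm.trans (hZb h2))
    have hz : q.pr l ∈ q.a.Z := q.a.eq_Z_of_sq hX (h.four.props hlE).1
    have hsp := q.split (hES hlE)
    rcases q.a.mem_Z.mp hz with e | e <;> rw [e] at hsp
    · left
      show (1 : G)⁻¹ * l ∈ q.ZB
      rw [← hsp]; simpa using hl'
    · right
      show q.a.z⁻¹ * l ∈ q.ZB
      rw [← hsp, inv_mul_cancel_left]; exact hl'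

theorem k_trans {g : G} (hg : g ∈ normalizer (E : Set G)) :
    IsTrans E (g * q.a.c * g⁻¹) (g * q.a.z * g⁻¹) := by
  intro e he
  rcases h.four.c_trans h.ess _ ((mem_normalizer_iff''.mp hg e).mp he) with e' | e' <;>
    rw [MulAut.conj_apply] at e' ⊢
  · left
    calc g * q.a.c * g⁻¹ * e * (g * q.a.c * g⁻¹)⁻¹ = g * (q.a.c * (g⁻¹ * e * g) * q.a.c⁻¹) * g⁻¹ := by group
      _ = e := by rw [e']; group
  · right
    calc g * q.a.c * g⁻¹ * e * (g * q.a.c * g⁻¹)⁻¹ = g * (q.a.c * (g⁻¹ * e * g) * q.a.c⁻¹) * g⁻¹ := by group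
      _ = e * (g * q.a.z * g⁻¹) := by rw [e']; group

theorem w_props {g : G} (hg : g ∈ normalizer (E : Set G)) :
    g * q.a.z * g⁻¹ ∈ cen E ∧ q.pr' (g * q.a.z * g⁻¹) ∈ q.ZB := by
  have hw := inv_cen.conj g hg _ h.za_cen
  exact ⟨hw, (h.mem_cen_iff (mem_cen.mp hw).1).mp hw⟩

theorem moved_iff {g : G} (hg : g ∈ normalizer (E : Set G)) :
    h.fork.Moved g ↔ q.pr (g * q.a.z * g⁻¹) ∉ q.a.X := by
  obtain ⟨hw, hw'⟩ := h.w_props hg
  have hwE := (mem_cen.mp hw).1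
  set w := g * q.a.z * g⁻¹ with hw0
  have hsp := q.split (h.le hwE)
  constructor
  · intro hm hX
    rcases q.a.mem_Z.mp (q.a.eq_Z_of_sq hX (h.four.props hwE).1) with e | e <;> rw [e] at hsp
    · refine h.fork.w_ne hg ?_
      show (1 : G)⁻¹ * w ∈ q.ZB
      rw [← hsp]; simpa using hw'
    · refine hm ?_
      show q.a.z⁻¹ * w ∈ q.ZB
      rw [← hsp, inv_mul_cancel_left]; exact hw'
  · intro hX hE
    have h1 : q.pr (q.a.z⁻¹ * w) = 1 := q.pr_of_mem_b (q.ZB_le (id hE))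
    rw [q.pr_mul (P.inv_mem q.za_mem) (h.le hwE), q.pr_inv q.za_mem, q.pr_of_mem (q.a.X_le q.a.z_mem_X),
      inv_mul_eq_one] at h1
    exact hX (h1 ▸ q.a.z_mem_X)

/-- Centres congruent modulo `Z'` are equal. -/
theorem centre_eq {g g' : G} (hg : g ∈ normalizer (E : Set G)) (hg' : g' ∈ normalizer (E : Set G))
    (hh : Eqv q.ZB (g * q.a.z * g⁻¹) (g' * q.a.z * g'⁻¹)) : g * q.a.z * g⁻¹ = g' * q.a.z * g'⁻¹ := by
  obtain ⟨v, hv, he⟩ := h.fork.same_of_eqv hg hg' hh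
  set e := g * u * g⁻¹
  have hec : e ∈ cen E := inv_cen.conj g hg u h.u_cen
  have heE := (mem_cen.mp hec).1
  have e1 : g * q.a.c * g⁻¹ * e * (g * q.a.c * g⁻¹)⁻¹ = e * (g * q.a.z * g⁻¹) := by
    have := h.four.c_u h.ess
    rw [MulAut.conj_apply] at this
    calc g * q.a.c * g⁻¹ * e * (g * q.a.c * g⁻¹)⁻¹ = g * (q.a.c * u * q.a.c⁻¹) * g⁻¹ := by simp only [e]; group
      _ = e * (g * q.a.z * g⁻¹) := by rw [this]; simp only [e]; group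
  have e2 := he e heE
  rw [e1, show g' * q.a.c * g'⁻¹ * v * e * (g' * q.a.c * g'⁻¹ * v)⁻¹ =
    g' * q.a.c * g'⁻¹ * (v * e * v⁻¹) * (g' * q.a.c * g'⁻¹)⁻¹ by group, ← (mem_cen.mp hec).2 v hv,
    mul_inv_cancel_right] at e2
  rcases h.k_trans hg' e heE with e3 | e3 <;> rw [MulAut.conj_apply] at e3 <;> rw [e3] at e2
  · exfalso
    rw [mul_eq_left] at e2
    exact q.a.z_ne_one (conj_eq_one_iff.mp e2)
  · exact mul_left_cancel e2

theorem moved_unique {g₁ g₂ : G} (h1 : g₁ ∈ normalizer (E : Set G)) (h2 : g₂ ∈ normalizer (E : Set G))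
    (m1 : h.fork.Moved g₁) (m2 : h.fork.Moved g₂) :
    q.pr' (g₁ * q.a.z * g₁⁻¹) = q.pr' (g₂ * q.a.z * g₂⁻¹) := by
  have same : ∀ g g' : G, g ∈ normalizer (E : Set G) → g' ∈ normalizer (E : Set G) →
      Eqv q.ZB (g * q.a.z * g⁻¹) (g' * q.a.z * g'⁻¹) → g * q.a.z * g⁻¹ = g' * q.a.z * g'⁻¹ :=
    fun g g' hg hg' hh => h.centre_eq hg hg' hh
  obtain ⟨hw1, hw1'⟩ := h.w_props h1
  obtain ⟨hw2, hw2'⟩ := h.w_props h2
  have hw1E := (mem_cen.mp hw1).1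
  have hw2E := (mem_cen.mp hw2).1
  have p1 := (h.moved_iff h1).mp m1
  have p2 := (h.moved_iff h2).mp m2
  have eqv : ∀ v v' : G, v ∈ cen E → v' ∈ cen E → q.pr v = q.pr v' → Eqv q.ZB v v' := by
    intro v v' hv hv' hp
    have hvP := h.le (mem_cen.mp hv).1
    have hvP' := h.le (mem_cen.mp hv').1
    show v⁻¹ * v' ∈ q.ZB
    rw [← q.split (P.mul_mem (P.inv_mem hvP) hvP'), q.pr_mul (P.inv_mem hvP) hvP', q.pr_inv hvP, hp,
      inv_mul_cancel, one_mul, q.pr'_mul (P.inv_mem hvP) hvP', q.pr'_inv hvP]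
    exact mul_mem (inv_mem ((h.mem_cen_iff (mem_cen.mp hv).1).mp hv)) ((h.mem_cen_iff (mem_cen.mp hv').1).mp hv')
  have huz : ∀ {v}, v ∈ E → q.pr v ∉ q.a.X → u⁻¹ * q.pr v ∈ q.a.Z := fun {v} hv hn =>
    (h.four.range v hv).resolve_left fun hz => hn (q.a.Z_le hz)
  by_cases hp : q.pr (g₁ * q.a.z * g₁⁻¹) = q.pr (g₂ * q.a.z * g₂⁻¹)
  · rw [same g₁ g₂ h1 h2 (eqv _ _ hw1 hw2 hp)]
  · have hcN := h.four.c_norm h.ess
    have hcg : q.a.c * g₂ ∈ normalizer (E : Set G) := mul_mem hcN.2 h2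
    set w₂ := g₂ * q.a.z * g₂⁻¹
    have e : q.a.c * g₂ * q.a.z * (q.a.c * g₂)⁻¹ = q.a.c * w₂ * q.a.c⁻¹ := by simp only [w₂]; group
    have hp' : q.pr (g₁ * q.a.z * g₁⁻¹) = q.pr (q.a.c * g₂ * q.a.z * (q.a.c * g₂)⁻¹) := by
      rw [e, q.pr_conj hcN.1 (h.le hw2E), q.pr_of_mem (q.a.X_le q.a.c_mem_X)]
      have hd : q.a.Off (q.pr w₂) := ⟨q.pr_mem (h.le hw2E), p2⟩
      rw [mul_inv_eq_iff_eq_mul.mp (q.a.c_conj hd)]
      have z1 := huz hw1E p1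
      have z2 := huz hw2E p2
      rcases q.a.mem_Z.mp z1 with a1 | a1 <;> rcases q.a.mem_Z.mp z2 with a2 | a2 <;>
        rw [inv_mul_eq_iff_eq_mul] at a1 a2 <;> rw [a1, a2] at hp ⊢
      · exact absurd rfl hp
      · rw [mul_one, q.a.z_comm (mul_mem h.four.off.1 (q.a.X_le q.a.z_mem_X)), mul_assoc, q.a.z_mul_z, mul_one]
      · rw [mul_one, q.a.z_comm h.four.off.1]
      · exact absurd rfl hp
    rw [same g₁ _ h1 hcg (eqv _ _ hw1 (inv_cen.conj _ hcg _ h.za_cen) hp'), e,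
      q.pr'_conj hcN.1 (h.le hw2E), q.pr'_of_mem (q.a.X_le q.a.c_mem_X), one_mul, inv_one, mul_one]

end TypeV

/-- Two essential subgroups of four group type give the same twist. -/
theorem TypeV.twist_unique {E₁ E₂ : Subgroup G} {u₁ u₂ g₁ g₂ : G} (h₁ : TypeV q E₁ u₁) (h₂ : TypeV q E₂ u₂)
    (hg₁ : g₁ ∈ normalizer (E₁ : Set G)) (hg₂ : g₂ ∈ normalizer (E₂ : Set G)) (m₁ : h₁.fork.Moved g₁)
    (m₂ : h₂.fork.Moved g₂) : q.pr' (g₁ * q.a.z * g₁⁻¹) = q.pr' (g₂ * q.a.z * g₂⁻¹) := by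
  obtain ⟨r, hr, hru⟩ := q.a.exists_conj h₁.four.off h₂.four.off (h₁.four.sq.trans h₂.four.sq.symm)
  have hrP := q.aD_le (q.a.X_le hr)
  have hmem : ∀ e, e ∈ E₂ ↔ r⁻¹ * e * r ∈ E₁ := by
    intro e
    rw [h₂.mem_iff, h₁.mem_iff]
    have hPe : r⁻¹ * e * r ∈ (P : Subgroup G) ↔ e ∈ (P : Subgroup G) := by
      rw [Subgroup.mul_mem_cancel_right _ hrP, Subgroup.mul_mem_cancel_left _ (P.inv_mem hrP)]
    rw [hPe]
    refine and_congr_right fun he => ?_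
    have e1 : q.pr (r⁻¹ * e * r) = r⁻¹ * q.pr e * r := by
      have := q.pr_conj (P.inv_mem hrP) he
      rwa [inv_inv, q.pr_inv hrP, q.pr_of_mem (q.a.X_le hr), inv_inv] at this
    rw [e1]
    have hz : ∀ {c}, c ∈ q.a.D → (r⁻¹ * c * r ∈ q.a.Z ↔ c ∈ q.a.Z) := by
      intro c _
      constructor <;> intro hc
      · have := q.a.Z_comm (q.a.X_le hr) hc
        have e : c = r * (r⁻¹ * c * r) * r⁻¹ := by group
        rw [e, ← this, mul_inv_cancel_right]; exact hc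
      · rw [mul_assoc, q.a.Z_comm (q.a.X_le hr) hc, inv_mul_cancel_left]; exact hc
    rw [hz (q.pr_mem he), ← hru, show u₁⁻¹ * (r⁻¹ * q.pr e * r) = r⁻¹ * ((r * u₁ * r⁻¹)⁻¹ * q.pr e) * r by group,
      hz (mul_mem (by rw [hru]; exact inv_mem h₂.four.off.1) (q.pr_mem he))]
  have hg' : r⁻¹ * g₂ * r ∈ normalizer (E₁ : Set G) := conj_iff_conj_inv hmem hg₂
  have hzr := q.za_comm hrP
  set w := g₂ * q.a.z * g₂⁻¹ with hw
  have e : r⁻¹ * g₂ * r * q.a.z * (r⁻¹ * g₂ * r)⁻¹ = r⁻¹ * w * r⁻¹⁻¹ := by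
    calc r⁻¹ * g₂ * r * q.a.z * (r⁻¹ * g₂ * r)⁻¹ = r⁻¹ * g₂ * (r * q.a.z * r⁻¹) * g₂⁻¹ * r := by group
      _ = r⁻¹ * w * r⁻¹⁻¹ := by rw [← hzr, hw]; group
  have hwP : w ∈ (P : Subgroup G) := h₂.le (mem_cen.mp (h₂.w_props hg₂).1).1
  have m' : h₁.fork.Moved (r⁻¹ * g₂ * r) := by
    rw [h₁.moved_iff hg', e, q.pr_conj (P.inv_mem hrP) hwP, q.pr_inv hrP, q.pr_of_mem (q.a.X_le hr)]
    intro hX
    refine (h₂.moved_iff hg₂).mp m₂ ?_
    have := q.a.conj_mem_X (q.a.X_le hr) hX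
    simpa [mul_assoc, hw] using this
  rw [h₁.moved_unique hg₁ hg' m₁ m', e, q.pr'_conj (P.inv_mem hrP) hwP, q.pr'_inv hrP,
    q.pr'_of_mem (q.a.X_le hr)]
  group

namespace TypeQ

variable {u : G} (h : TypeQ q E u)
include h

theorem mem_iff {e : G} : e ∈ E ↔ e ∈ (P : Subgroup G) ∧
    (q.pr e ∈ zpowers q.a.c ∨ u⁻¹ * q.pr e ∈ zpowers q.a.c) := by
  refine ⟨fun he => ⟨h.le he, h.eight.range e he⟩, fun ⟨he, hr⟩ => ?_⟩
  rw [← q.split he]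
  refine mul_mem ?_ (h.bD (q.pr'_mem he))
  rcases hr with hz | hz
  · exact (h.eight.rot_c hz).1
  · have := mul_mem h.mem (h.eight.rot_c hz).1
    rwa [mul_inv_cancel_left] at this

theorem comm_Z {a b : G} (ha : a ∈ E) (hb : b ∈ E) :
    q.pr a * q.pr b * (q.pr a)⁻¹ * (q.pr b)⁻¹ ∈ q.a.Z := by
  have hES := h.le
  have h1 := h.eight.sq_Z hES (mul_mem ha hb)
  rw [q.pr_mul (hES ha) (hES hb)] at h1
  have h2 := h.eight.sq_Z hES hb
  have h3 := h.eight.sq_Z hES ha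
  set A := q.pr a
  set B := q.pr b
  have hBA := q.a.Z_comm (q.pr_mem (hES hb)) h3
  have e : A * B * A⁻¹ * B⁻¹ = A * B * (A * B) * ((B * B)⁻¹ * (A * A)⁻¹) := by
    calc A * B * A⁻¹ * B⁻¹ = A * B * A * (A * A)⁻¹ * B⁻¹ := by group
      _ = A * B * A * ((B * (A * A))⁻¹) := by group
      _ = A * B * A * ((A * A * B)⁻¹) := by rw [hBA]
      _ = A * B * A * B * ((B * B)⁻¹ * B * (B⁻¹ * (A * A)⁻¹)) := by group
      _ = A * B * (A * B) * ((B * B)⁻¹ * (A * A)⁻¹) := by group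
  rw [e]
  exact mul_mem h1 (mul_mem (inv_mem h2) (inv_mem h3))

theorem za_fix {g : G} (hg : g ∈ normalizer (E : Set G)) : g * q.a.z * g⁻¹ = q.a.z := by
  have hw := h.inv_C.conj g hg _ h.u_mem_C.2
  set w := g * q.a.c * g⁻¹ with hw0
  have hwE : w ∈ E := hw.1
  have e : g * q.a.z * g⁻¹ = w * w := by rw [hw0, ← q.a.c_mul_c]; group
  have hne : w * w ≠ 1 := by rw [← e]; exact fun h0 => q.a.z_ne_one (conj_eq_one_iff.mp h0)
  have hmem : w * w ∈ q.a.Z := by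
    rw [← q.split (P.mul_mem (h.le hwE) (h.le hwE)), q.pr_sq (h.le hwE), q.pr'_sq (h.le hwE),
      q.ZB_sq _ ((h.mem_C hwE).mp hw), mul_one]
    exact h.eight.sq_Z h.le hwE
  rw [e]
  exact (q.a.mem_Z.mp hmem).resolve_left hne

theorem za_cen : q.a.z ∈ cen E :=
  mem_cen.mpr ⟨za_memE q h.ess, fun _ he => q.za_comm (h.le he)⟩

/-- The section `(Q × Z') / Z(E)`. -/
theorem fork : Fork P E (cen E) (invC E) q.a.rt q.a.c := by
  have hES := h.le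
  have hcE := h.eight.c_mem
  have hpc : q.pr q.a.c = q.a.c := q.pr_of_mem (q.a.X_le q.a.c_mem_X)
  refine ⟨h.ess, inv_cen, h.inv_C, fun l hl => (h.mem_C (mem_cen.mp hl).1).mpr
    ((h.mem_cen_iff (mem_cen.mp hl).1).mp hl).2, h.eight.rt_norm hES, h.eight.rt_notMem hES, h.u_mem_C.2,
    fun hc => q.a.c_notMem_Z (hpc ▸ ((h.mem_cen_iff hcE).mp hc).1), by rw [q.a.c_mul_c]; exact h.za_cen, ?_,
    fun l hl l' hl' => ?_, fun e he => ?_, fun l hl => ?_, fun l hl => ?_, fun l hl hfix => ?_⟩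
  · show q.a.c⁻¹ * (q.a.rt * q.a.c * q.a.rt⁻¹) ∈ cen E
    rw [q.a.rot_comm q.a.rt_mem_X q.a.c_mem_X, mul_inv_cancel_right, inv_mul_cancel]
    exact one_mem _
  · have hlE : l ∈ E := hl.1
    have hlE' : l' ∈ E := hl'.1
    show (l * l')⁻¹ * (l' * l) ∈ cen E
    have hmE : (l * l')⁻¹ * (l' * l) ∈ E := mul_mem (inv_mem (mul_mem hlE hlE')) (mul_mem hlE' hlE)
    refine (h.mem_cen_iff hmE).mpr ⟨?_, ?_⟩
    · have := h.comm_Z (inv_mem hlE') (inv_mem hlE)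
      rw [q.pr_inv (hES hlE'), q.pr_inv (hES hlE)] at this
      rw [q.pr_mul (P.inv_mem (P.mul_mem (hES hlE) (hES hlE'))) (P.mul_mem (hES hlE') (hES hlE)),
        q.pr_inv (P.mul_mem (hES hlE) (hES hlE')), q.pr_mul (hES hlE) (hES hlE'), q.pr_mul (hES hlE') (hES hlE)]
      simpa [mul_assoc] using this
    · have hmC : (l * l')⁻¹ * (l' * l) ∈ invC E := mul_mem (inv_mem (mul_mem hl hl')) (mul_mem hl' hl)
      exact (h.mem_C hmE).mp hmC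
  · have hr := h.eight.rt_comm hES he
    have hrE := (h.eight.rot_c hr).1
    exact (h.mem_C hrE).mpr (by rw [q.pr'_of_mem (q.a.X_le (h.eight.rot_c hr).2)]; exact one_mem _)
  · obtain ⟨hlE, -⟩ := mem_cen.mp hl
    exact h.eight.rt_fix hES hlE (q.a.Z_le ((h.mem_cen_iff hlE).mp hl).1)
  · have hlE : l ∈ E := hl.1
    by_cases hX : q.pr l ∈ q.a.X
    · left
      show l⁻¹ * (q.a.rt * l * q.a.rt⁻¹) ∈ cen E
      rw [h.eight.rt_fix hES hlE hX, mul_inv_cancel_right, inv_mul_cancel]; exact one_mem _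
    · right
      obtain ⟨ζ, hζ, e⟩ := q.a.rot_off_sq ⟨q.pr_mem (hES hlE), hX⟩ q.a.rt_mem_X
      rw [q.a.rt_mul_rt, ← q.comm_pr (q.a.X_le q.a.rt_mem_X) (hES hlE), mul_inv_eq_iff_eq_mul] at e
      show (l * q.a.c)⁻¹ * (q.a.rt * l * q.a.rt⁻¹) ∈ cen E
      rw [e]
      have hm : (l * q.a.c)⁻¹ * (q.a.c * ζ * l) ∈ E :=
        mul_mem (inv_mem (mul_mem hlE hcE)) (mul_mem (mul_mem hcE (Za_leE q h.ess hζ)) hlE)
      refine (h.mem_cen_iff hm).mpr ⟨?_, ?_⟩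
      · rw [q.pr_mul (P.inv_mem (P.mul_mem (hES hlE) (hES hcE))) (P.mul_mem (P.mul_mem (hES hcE)
          (q.aD_le (q.a.X_le (q.a.Z_le hζ)))) (hES hlE)), q.pr_inv (P.mul_mem (hES hlE) (hES hcE)),
          q.pr_mul (hES hlE) (hES hcE), q.pr_mul (P.mul_mem (hES hcE) (q.aD_le (q.a.X_le (q.a.Z_le hζ)))) (hES hlE),
          q.pr_of_mem (mul_mem (q.a.X_le q.a.c_mem_X) (q.a.X_le (q.a.Z_le hζ))), hpc]
        have h1 := h.comm_Z (inv_mem hcE) (inv_mem hlE)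
        rw [q.pr_inv (hES hcE), q.pr_inv (hES hlE), hpc, inv_inv, inv_inv] at h1
        rw [mul_assoc q.a.c ζ, q.a.Z_comm (q.pr_mem (hES hlE)) hζ,
          show (q.pr l * q.a.c)⁻¹ * (q.a.c * (q.pr l * ζ)) = q.a.c⁻¹ * (q.pr l)⁻¹ * q.a.c * q.pr l * ζ by group]
        exact mul_mem h1 hζ
      · rw [q.pr'_mul (P.inv_mem (P.mul_mem (hES hlE) (hES hcE))) (P.mul_mem (P.mul_mem (hES hcE)
          (q.aD_le (q.a.X_le (q.a.Z_le hζ)))) (hES hlE)), q.pr'_inv (P.mul_mem (hES hlE) (hES hcE)),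
          q.pr'_mul (hES hlE) (hES hcE), q.pr'_mul (P.mul_mem (hES hcE) (q.aD_le (q.a.X_le (q.a.Z_le hζ))))
          (hES hlE), q.pr'_of_mem (mul_mem (q.a.X_le q.a.c_mem_X) (q.a.X_le (q.a.Z_le hζ))),
          q.pr'_of_mem (q.a.X_le q.a.c_mem_X)]
        simp
  · have hlE : l ∈ E := hl.1
    have hlb := (h.mem_C hlE).mp hl
    have hX : q.pr l ∈ q.a.X := by
      by_contra hX
      obtain ⟨ζ, hζ, e⟩ := q.a.rot_off_sq ⟨q.pr_mem (hES hlE), hX⟩ q.a.rt_mem_X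
      rw [q.a.rt_mul_rt, ← q.comm_pr (q.a.X_le q.a.rt_mem_X) (hES hlE)] at e
      have h2 := inv_cen.conj l (le_normalizer hlE) _ hfix
      rw [← mul_assoc, mul_inv_cancel, one_mul, e] at h2
      have h3 := ((h.mem_cen_iff (mul_mem hcE (Za_leE q h.ess hζ))).mp h2).1
      rw [q.pr_of_mem (mul_mem (q.a.X_le q.a.c_mem_X) (q.a.X_le (q.a.Z_le hζ)))] at h3
      exact q.a.c_notMem_Z ((q.a.Z.mul_mem_cancel_right hζ).mp h3)
    obtain ⟨k, hk⟩ := mem_zpowers_iff.mp (h.eight.rot_range' hlE hX)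
    rcases Int.even_or_odd' k with ⟨j, rfl | rfl⟩
    · left
      show (1 : G)⁻¹ * l ∈ cen E
      rw [inv_one, one_mul]
      refine (h.mem_cen_iff hlE).mpr ⟨?_, hlb⟩
      rw [← hk, zpow_mul, zpow_two, q.a.c_mul_c]; exact zpow_mem (mem_zpowers _) j
    · right
      show q.a.c⁻¹ * l ∈ cen E
      refine (h.mem_cen_iff (mul_mem (inv_mem hcE) hlE)).mpr ⟨?_, ?_⟩
      · rw [q.pr_mul (P.inv_mem (hES hcE)) (hES hlE), q.pr_inv (hES hcE), hpc, ← hk,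
          show q.a.c⁻¹ * q.a.c ^ (2 * j + 1) = q.a.c ^ (2 * j) by group, zpow_mul, zpow_two, q.a.c_mul_c]
        exact zpow_mem (mem_zpowers _) j
      · rw [q.pr'_mul (P.inv_mem (hES hcE)) (hES hlE), q.pr'_inv (hES hcE),
          q.pr'_of_mem (q.a.X_le q.a.c_mem_X), inv_one, one_mul]
        exact hlb

theorem k_comm {g : G} (hg : g ∈ normalizer (E : Set G)) {e : G} (he : e ∈ E) :
    g * q.a.rt * g⁻¹ * e * (g * q.a.rt * g⁻¹)⁻¹ * e⁻¹ ∈ zpowers (g * q.a.c * g⁻¹) := by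
  obtain ⟨k, hk⟩ := mem_zpowers_iff.mp (h.eight.rt_comm h.le ((mem_normalizer_iff''.mp hg e).mp he))
  refine ⟨k, ?_⟩
  show (g * q.a.c * g⁻¹) ^ k = _
  rw [conj_zpow, hk]; group

theorem w_props {g : G} (hg : g ∈ normalizer (E : Set G)) :
    g * q.a.c * g⁻¹ ∈ invC E ∧ q.pr' (g * q.a.c * g⁻¹) ∈ q.ZB := by
  have hw := h.inv_C.conj g hg _ h.u_mem_C.2
  exact ⟨hw, (h.mem_C hw.1).mp hw⟩

theorem moved_iff {g : G} (hg : g ∈ normalizer (E : Set G)) :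
    h.fork.Moved g ↔ q.pr (g * q.a.c * g⁻¹) ∉ q.a.X := by
  obtain ⟨hw, hw'⟩ := h.w_props hg
  have hwE : g * q.a.c * g⁻¹ ∈ E := hw.1
  set w := g * q.a.c * g⁻¹ with hw0
  constructor
  · intro hm hX
    obtain ⟨k, hk⟩ := mem_zpowers_iff.mp (h.eight.rot_range' hwE hX)
    rcases Int.even_or_odd' k with ⟨j, rfl | rfl⟩
    · refine h.fork.w_ne hg ?_
      show (1 : G)⁻¹ * w ∈ cen E
      rw [inv_one, one_mul]
      exact (h.mem_cen_iff hwE).mpr ⟨by rw [← hk, zpow_mul, zpow_two, q.a.c_mul_c]; exact zpow_mem (mem_zpowers _) j,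
        hw'⟩
    · refine hm ?_
      show q.a.c⁻¹ * w ∈ cen E
      refine (h.mem_cen_iff (mul_mem (inv_mem h.eight.c_mem) hwE)).mpr ⟨?_, ?_⟩
      · rw [q.pr_mul (P.inv_mem (h.le h.eight.c_mem)) (h.le hwE), q.pr_inv (h.le h.eight.c_mem),
          q.pr_of_mem (q.a.X_le q.a.c_mem_X), ← hk,
          show q.a.c⁻¹ * q.a.c ^ (2 * j + 1) = q.a.c ^ (2 * j) by group, zpow_mul, zpow_two, q.a.c_mul_c]
        exact zpow_mem (mem_zpowers _) j
      · rw [q.pr'_mul (P.inv_mem (h.le h.eight.c_mem)) (h.le hwE), q.pr'_inv (h.le h.eight.c_mem),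
          q.pr'_of_mem (q.a.X_le q.a.c_mem_X), inv_one, one_mul]
        exact hw'
  · intro hX hE
    have h1 := ((h.mem_cen_iff (mul_mem (inv_mem h.eight.c_mem) hwE)).mp hE).1
    rw [q.pr_mul (P.inv_mem (h.le h.eight.c_mem)) (h.le hwE), q.pr_inv (h.le h.eight.c_mem),
      q.pr_of_mem (q.a.X_le q.a.c_mem_X)] at h1
    have := q.a.X.mul_mem q.a.c_mem_X (q.a.Z_le h1)
    rw [mul_inv_cancel_left] at this
    exact hX this

/-- Congruent centres have the same second projection. -/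
theorem centre_eq {g₀ g₀' : G} (hg₀ : g₀ ∈ normalizer (E : Set G)) (hg₀' : g₀' ∈ normalizer (E : Set G))
    (hh₀ : Eqv (cen E) (g₀ * q.a.c * g₀⁻¹) (g₀' * q.a.c * g₀'⁻¹)) :
    q.pr' (g₀ * q.a.c * g₀⁻¹) = q.pr' (g₀' * q.a.c * g₀'⁻¹) := by
  have hES := h.le
  have sub : ∀ g g' : G, g ∈ normalizer (E : Set G) → g' ∈ normalizer (E : Set G) →
      Eqv (cen E) (g * q.a.c * g⁻¹) (g' * q.a.c * g'⁻¹) →
      q.pr' (g * q.a.c * g⁻¹) ∈ zpowers (q.pr' (g' * q.a.c * g'⁻¹)) := by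
    intro g g' hg hg' hh
    obtain ⟨v, hv, he⟩ := h.fork.same_of_eqv hg hg' hh
    set e := g * u * g⁻¹
    have heC : e ∈ invC E := h.inv_C.conj g hg u h.u_mem_C.1
    have heE : e ∈ E := heC.1
    set w := g * q.a.c * g⁻¹
    set w' := g' * q.a.c * g'⁻¹
    obtain ⟨ζ, hζ, e0⟩ := q.a.rot_off_sq h.eight.off q.a.rt_mem_X
    rw [q.a.rt_mul_rt] at e0
    have hzaw : q.a.z ∈ zpowers w' := ⟨2, by
      show w' ^ (2 : ℤ) = q.a.z
      rw [zpow_two, ← h.za_fix hg', ← q.a.c_mul_c]; simp only [w']; group⟩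
    have hZw : q.a.Z ≤ zpowers w' := zpowers_le.mpr hzaw
    have e1 : g * q.a.rt * g⁻¹ * e * (g * q.a.rt * g⁻¹)⁻¹ * e⁻¹ = w * ζ := by
      calc g * q.a.rt * g⁻¹ * e * (g * q.a.rt * g⁻¹)⁻¹ * e⁻¹
          = g * (q.a.rt * u * q.a.rt⁻¹ * u⁻¹) * g⁻¹ := by simp only [e]; group
        _ = w * (g * ζ * g⁻¹) := by rw [e0]; simp only [w]; group
        _ = w * ζ := by
          rcases q.a.mem_Z.mp hζ with e' | e' <;> rw [e']
          · simp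
          · rw [h.za_fix hg]
    have he2 : v * e * v⁻¹ * e⁻¹ ∈ q.a.Z := by
      have hm : v * e * v⁻¹ * e⁻¹ ∈ (P : Subgroup G) :=
        P.mul_mem (P.mul_mem (P.mul_mem (hES hv) (hES heE)) (P.inv_mem (hES hv))) (P.inv_mem (hES heE))
      rw [← q.split hm, q.pr_mul (P.mul_mem (P.mul_mem (hES hv) (hES heE)) (P.inv_mem (hES hv))) (P.inv_mem (hES heE)),
        q.pr_conj (hES hv) (hES heE), q.pr_inv (hES heE),
        q.pr'_mul (P.mul_mem (P.mul_mem (hES hv) (hES heE)) (P.inv_mem (hES hv))) (P.inv_mem (hES heE)),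
        q.pr'_conj (hES hv) (hES heE), q.pr'_inv (hES heE),
        ← q.ZB_comm _ (q.pr'_mem (hES hv)) _ ((h.mem_C heE).mp heC), mul_inv_cancel_right, mul_inv_cancel, mul_one]
      exact h.comm_Z hv heE
    have hk := h.k_comm hg' (mul_mem (mul_mem hv heE) (inv_mem hv))
    have e3 : g * q.a.rt * g⁻¹ * e * (g * q.a.rt * g⁻¹)⁻¹ * e⁻¹ =
        g' * q.a.rt * g'⁻¹ * (v * e * v⁻¹) * (g' * q.a.rt * g'⁻¹)⁻¹ * (v * e * v⁻¹)⁻¹ *
          (v * e * v⁻¹ * e⁻¹) := by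
      rw [he e heE]; group
    rw [e1] at e3
    have hwmem : w ∈ zpowers w' := by
      have : w * ζ ∈ zpowers w' := e3 ▸ mul_mem hk (hZw he2)
      exact ((zpowers w').mul_mem_cancel_right (hZw hζ)).mp this
    obtain ⟨n, hn⟩ := mem_zpowers_iff.mp hwmem
    have hwP : w' ∈ (P : Subgroup G) := hES (h.w_props hg').1.1
    let φ : ↥(P : Subgroup G) →* G := MonoidHom.mk' (fun m => q.pr' m) fun a b => q.pr'_mul a.2 b.2
    have hn' := map_zpow φ ⟨w', hwP⟩ n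
    have e4 : ((⟨w', hwP⟩ : ↥(P : Subgroup G)) ^ n) = ⟨w, hn ▸ P.zpow_mem hwP n⟩ := Subtype.ext (by
      rw [Subgroup.coe_zpow]; exact hn)
    rw [e4] at hn'
    exact ⟨n, hn'.symm⟩
  have both : ∀ g g' : G, g ∈ normalizer (E : Set G) → g' ∈ normalizer (E : Set G) →
      Eqv (cen E) (g * q.a.c * g⁻¹) (g' * q.a.c * g'⁻¹) →
      q.pr' (g * q.a.c * g⁻¹) = q.pr' (g' * q.a.c * g'⁻¹) := by
    intro g g' hg hg' hh
    have one : ∀ {v w : G}, v ∈ q.ZB → w ∈ q.ZB → v ∈ zpowers w → v = 1 ∨ v = w := by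
      intro v w hv hw hvw
      obtain ⟨n, hn⟩ := mem_zpowers_iff.mp hvw
      rcases Int.even_or_odd' n with ⟨j, rfl | rfl⟩
      · left; rw [← hn, zpow_mul, zpow_two, q.ZB_sq _ hw, one_zpow]
      · right; rw [← hn, zpow_add, zpow_one, zpow_mul, zpow_two, q.ZB_sq _ hw, one_zpow, one_mul]
    rcases one (h.w_props hg).2 (h.w_props hg').2 (sub g g' hg hg' hh) with e | e
    · rcases one (h.w_props hg').2 (h.w_props hg).2 (sub g' g hg' hg (h.fork.symm hh)) with e' | e'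
      · rw [e, e']
      · exact e'.symm
    · exact e
  exact both g₀ g₀' hg₀ hg₀' hh₀

theorem moved_unique {g₁ g₂ : G} (h1 : g₁ ∈ normalizer (E : Set G)) (h2 : g₂ ∈ normalizer (E : Set G))
    (m1 : h.fork.Moved g₁) (m2 : h.fork.Moved g₂) :
    q.pr' (g₁ * q.a.c * g₁⁻¹) = q.pr' (g₂ * q.a.c * g₂⁻¹) := by
  have hES := h.le
  have both : ∀ g g' : G, g ∈ normalizer (E : Set G) → g' ∈ normalizer (E : Set G) →
      Eqv (cen E) (g * q.a.c * g⁻¹) (g' * q.a.c * g'⁻¹) →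
      q.pr' (g * q.a.c * g⁻¹) = q.pr' (g' * q.a.c * g'⁻¹) :=
    fun g g' hg hg' hh => h.centre_eq hg hg' hh
  obtain ⟨hw1, hw1'⟩ := h.w_props h1
  obtain ⟨hw2, hw2'⟩ := h.w_props h2
  have hw1E : g₁ * q.a.c * g₁⁻¹ ∈ E := hw1.1
  have hw2E : g₂ * q.a.c * g₂⁻¹ ∈ E := hw2.1
  have r1 := h.eight.off_range hw1E ((h.moved_iff h1).mp m1)
  have r2 := h.eight.off_range hw2E ((h.moved_iff h2).mp m2)
  set A := q.pr (g₁ * q.a.c * g₁⁻¹) with hA
  set B := q.pr (g₂ * q.a.c * g₂⁻¹) with hB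
  have hr : A⁻¹ * B ∈ zpowers q.a.c := by
    have := mul_mem (inv_mem r1) r2
    rwa [mul_inv_rev, inv_inv, mul_assoc, mul_inv_cancel_left] at this
  have eqv : ∀ v v' : G, v ∈ invC E → v' ∈ invC E → (q.pr v)⁻¹ * q.pr v' ∈ q.a.Z → Eqv (cen E) v v' := by
    intro v v' hv hv' hp
    show v⁻¹ * v' ∈ cen E
    have hvE : v ∈ E := hv.1
    have hvE' : v' ∈ E := hv'.1
    refine (h.mem_cen_iff (mul_mem (inv_mem hvE) hvE')).mpr ⟨?_, ?_⟩
    · rw [q.pr_mul (P.inv_mem (hES hvE)) (hES hvE'), q.pr_inv (hES hvE)]; exact hp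
    · rw [q.pr'_mul (P.inv_mem (hES hvE)) (hES hvE'), q.pr'_inv (hES hvE)]
      exact mul_mem (inv_mem ((h.mem_C hvE).mp hv)) ((h.mem_C hvE').mp hv')
  by_cases hZ : A⁻¹ * B ∈ q.a.Z
  · exact both g₁ g₂ h1 h2 (eqv _ _ hw1 hw2 hZ)
  · have hrtN := h.eight.rt_norm hES
    have hg' : q.a.rt * g₂ ∈ normalizer (E : Set G) := mul_mem hrtN.2 h2
    set w₂ := g₂ * q.a.c * g₂⁻¹
    have e : q.a.rt * g₂ * q.a.c * (q.a.rt * g₂)⁻¹ = q.a.rt * w₂ * q.a.rt⁻¹ := by simp only [w₂]; group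
    rw [both g₁ _ h1 hg' (eqv _ _ hw1 (h.w_props hg').1 ?_), e, q.pr'_conj hrtN.1 (hES hw2E),
      q.pr'_of_mem (q.a.X_le q.a.rt_mem_X), one_mul, inv_one, mul_one]
    have hBoff : q.a.Off B := ⟨q.pr_mem (hES hw2E), (h.moved_iff h2).mp m2⟩
    have hAoff : q.a.Off A := ⟨q.pr_mem (hES hw1E), (h.moved_iff h1).mp m1⟩
    obtain ⟨ζ, hζ, e0⟩ := q.a.rot_off_sq hBoff q.a.rt_mem_X
    rw [q.a.rt_mul_rt, mul_inv_eq_iff_eq_mul] at e0
    rw [← hA, e, q.pr_conj hrtN.1 (hES hw2E), q.pr_of_mem (q.a.X_le q.a.rt_mem_X), ← hB, e0]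
    obtain ⟨k, hk⟩ := mem_zpowers_iff.mp hr
    rcases Int.even_or_odd' k with ⟨j, rfl | rfl⟩
    · exact absurd (by rw [← hk, zpow_mul, zpow_two, q.a.c_mul_c]; exact zpow_mem (mem_zpowers _) j) hZ
    · have hBA : B = A * q.a.c ^ (2 * j + 1) := by rw [hk]; group
      have hcomm : q.a.c * A = A * q.a.c⁻¹ := by
        have h0 := q.a.c_conj hAoff
        have hcA := mul_inv_eq_iff_eq_mul.mp h0
        have hcc : q.a.c⁻¹ = q.a.c * q.a.z := inv_eq_of_mul_eq_one_right (by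
          rw [← mul_assoc, q.a.c_mul_c, q.a.z_mul_z])
        calc q.a.c * A = q.a.c * A * q.a.c⁻¹ * q.a.c := by group
          _ = q.a.z * A * q.a.c := by rw [hcA]
          _ = A * q.a.c⁻¹ := by rw [q.a.z_comm hAoff.1, hcc, mul_assoc, q.a.rot_comm q.a.z_mem_X q.a.c_mem_X]
      rw [mul_assoc q.a.c ζ, q.a.Z_comm hBoff.1 hζ, hBA,
        show A⁻¹ * (q.a.c * (A * q.a.c ^ (2 * j + 1) * ζ)) = A⁻¹ * (q.a.c * A) * q.a.c ^ (2 * j + 1) * ζ by group,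
        hcomm, show A⁻¹ * (A * q.a.c⁻¹) * q.a.c ^ (2 * j + 1) * ζ = q.a.c ^ (2 * j) * ζ by group]
      refine mul_mem ?_ hζ
      rw [zpow_mul, zpow_two, q.a.c_mul_c]
      exact zpow_mem (mem_zpowers _) j

end TypeQ

/-- Two essential subgroups of quaternion type give the same twist. -/
theorem TypeQ.twist_unique {E₁ E₂ : Subgroup G} {u₁ u₂ g₁ g₂ : G} (h₁ : TypeQ q E₁ u₁) (h₂ : TypeQ q E₂ u₂)
    (hg₁ : g₁ ∈ normalizer (E₁ : Set G)) (hg₂ : g₂ ∈ normalizer (E₂ : Set G)) (m₁ : h₁.fork.Moved g₁)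
    (m₂ : h₂.fork.Moved g₂) : q.pr' (g₁ * q.a.c * g₁⁻¹) = q.pr' (g₂ * q.a.c * g₂⁻¹) := by
  obtain ⟨r, hr, hru⟩ := q.a.exists_conj h₁.eight.off h₂.eight.off (h₁.sq.trans h₂.sq.symm)
  have hrP := q.aD_le (q.a.X_le hr)
  have hcr : zpowers q.a.c ≤ q.a.X := zpowers_le.mpr q.a.c_mem_X
  have hmem : ∀ e, e ∈ E₂ ↔ r⁻¹ * e * r ∈ E₁ := by
    intro e
    rw [h₂.mem_iff, h₁.mem_iff]
    have hPe : r⁻¹ * e * r ∈ (P : Subgroup G) ↔ e ∈ (P : Subgroup G) := by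
      rw [Subgroup.mul_mem_cancel_right _ hrP, Subgroup.mul_mem_cancel_left _ (P.inv_mem hrP)]
    rw [hPe]
    refine and_congr_right fun he => ?_
    have e1 : q.pr (r⁻¹ * e * r) = r⁻¹ * q.pr e * r := by
      have := q.pr_conj (P.inv_mem hrP) he
      rwa [inv_inv, q.pr_inv hrP, q.pr_of_mem (q.a.X_le hr), inv_inv] at this
    rw [e1]
    have hz : ∀ {c}, (r⁻¹ * c * r ∈ zpowers q.a.c ↔ c ∈ zpowers q.a.c) := by
      intro c
      constructor <;> intro hc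
      · have := q.a.rot_comm hr (hcr hc)
        have e : c = r * (r⁻¹ * c * r) * r⁻¹ := by group
        rw [e, this, mul_inv_cancel_right]; exact hc
      · rw [mul_assoc, q.a.rot_comm (hcr hc) hr, inv_mul_cancel_left]; exact hc
    rw [hz, ← hru, show u₁⁻¹ * (r⁻¹ * q.pr e * r) = r⁻¹ * ((r * u₁ * r⁻¹)⁻¹ * q.pr e) * r by group, hz]
  have hg' : r⁻¹ * g₂ * r ∈ normalizer (E₁ : Set G) := conj_iff_conj_inv hmem hg₂
  have hzr := q.a.rot_comm hr q.a.c_mem_X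
  set w := g₂ * q.a.c * g₂⁻¹ with hw
  have e : r⁻¹ * g₂ * r * q.a.c * (r⁻¹ * g₂ * r)⁻¹ = r⁻¹ * w * r⁻¹⁻¹ := by
    calc r⁻¹ * g₂ * r * q.a.c * (r⁻¹ * g₂ * r)⁻¹ = r⁻¹ * g₂ * (r * q.a.c * r⁻¹) * g₂⁻¹ * r := by group
      _ = r⁻¹ * w * r⁻¹⁻¹ := by rw [hzr, hw]; group
  have hwP : w ∈ (P : Subgroup G) := h₂.le (h₂.w_props hg₂).1.1
  have m' : h₁.fork.Moved (r⁻¹ * g₂ * r) := by
    rw [h₁.moved_iff hg', e, q.pr_conj (P.inv_mem hrP) hwP, q.pr_inv hrP, q.pr_of_mem (q.a.X_le hr)]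
    intro hX
    refine (h₂.moved_iff hg₂).mp m₂ ?_
    have := q.a.conj_mem_X (q.a.X_le hr) hX
    simpa [mul_assoc, hw] using this
  rw [h₁.moved_unique hg₁ hg' m₁ m', e, q.pr'_conj (P.inv_mem hrP) hwP, q.pr'_inv hrP,
    q.pr'_of_mem (q.a.X_le hr)]
  group

end CfsgLib.SDMixed
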