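import Cfsg.Agent.Lib.SDMixed.Factor

/-!
A dihedral projection of order eight is impossible.
-/

set_option autoImplicit false
set_option linter.unusedSectionVars false

namespace CfsgLib.SDMixed

open Cfsg Cfsg.FusionSystem Subgroup CfsgLib.AfterFT.DihedralSquare CfsgLib.SDSquare

universe u
variable {G : Type u} [Group G] [Finite G] {P : Sylow 2 G} {E : Subgroup G} {q : Half (P : Subgroup G)}
variable (hE : (groupFusionSystem (P : Subgroup G)).IsEssential 2 E)
include hE

/-- A dihedral projection of order eight is impossible as soon as involutions of `E` see little of the other side. -/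
theorem Eight.false_refl {u : G} (h : Eight q E u) (hu : u * u = 1) (huE : u ∈ E)
    (hI : ∀ i ∈ sqCent E, ∀ j ∈ sqCent E, i * i = 1 → j * j = 1 →
      q.pr' (i * j) * q.pr' (i * j) = 1) : False := by
  have hES := hE.1.1
  let W : Set G := {e | e ∈ E ∧ e * e ≠ 1 ∧ ∃ i ∈ sqCent E, ∃ j ∈ sqCent E, i * i = 1 ∧ j * j = 1 ∧ e = i * j}
  have hW : Inv E (closure W) := by
    refine Inv.closure_set (fun e he => he.1) ?_
    rintro g hg e ⟨he, hne, i, hi, j, hj, hi2, hj2, rfl⟩
    refine ⟨(mem_normalizer_iff.mp hg _).mp he, fun e1 => hne ?_, _, inv_sqCent.conj g hg i hi, _,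
      inv_sqCent.conj g hg j hj, ?_, ?_, by group⟩
    · have : g * (i * j * (i * j)) * g⁻¹ = 1 := by rw [← e1]; group
      exact conj_eq_one_iff.mp this
    · rw [show g * i * g⁻¹ * (g * i * g⁻¹) = g * (i * i) * g⁻¹ by group, hi2, mul_one, mul_inv_cancel]
    · rw [show g * j * g⁻¹ * (g * j * g⁻¹) = g * (j * j) * g⁻¹ by group, hj2, mul_one, mul_inv_cancel]
  have huc : q.a.Off (u * q.a.c) := q.a.off_mul_rot h.off q.a.c_mem_X
  have hucE : u * q.a.c ∈ E := mul_mem huE h.c_mem
  have huc2 : u * q.a.c * (u * q.a.c) = 1 := by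
    have := h.off_sq hES hucE (by rw [q.pr_of_mem huc.1]; exact huc.2)
    rwa [q.pr_of_mem huc.1, hu] at this
  have hsc : ∀ v ∈ E, v ∈ q.a.D → v ∈ sqCent E := fun v hv hvD => mem_sqCent.mpr ⟨hv, fun e he => by
    refine (q.commute_iff_pr hvD (P.mul_mem (hES he) (hES he))).mpr ?_
    rw [q.pr_sq (hES he)]
    exact (q.a.Z_comm hvD (h.sq_Z hES he)).symm⟩
  have hcW : q.a.c ∈ closure W := subset_closure ⟨h.c_mem, fun e => q.a.z_ne_one (q.a.c_mul_c.symm.trans e),
    u, hsc u huE h.off.1, u * q.a.c, hsc _ hucE huc.1, hu, huc2, by rw [← mul_assoc, hu, one_mul]⟩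
  refine h.rt_notMem hES (mem_of_step hE hW (h.rt_norm hES)
    (fun e he => zpowers_le.mpr hcW (h.rt_comm hES he)) fun m hm => ?_)
  suffices closure W ≤ centralizer {q.a.rt} from (mem_centralizer_singleton_iff.mp (this hm)).symm
  refine (closure_le _).mpr ?_
  rintro e ⟨he, hne, i, hi, j, hj, hi2, hj2, rfl⟩
  refine mem_centralizer_singleton_iff.mpr (h.rt_fix hES he ?_).symm
  by_contra hX
  refine hne ?_
  rw [← q.split (P.mul_mem (hES he) (hES he)), q.pr_sq (hES he), h.off_sq hES he hX, hu, one_mul,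
    q.pr'_sq (hES he)]
  exact hI i hi j hj hi2 hj2

/-- A dihedral projection of order eight is impossible when `E` contains the other factor. -/
theorem Eight.false_refl_full {u : G} (h : Eight q E u) (hu : u * u = 1) (huE : u ∈ E) (hB : q.B ≤ E) : False := by
  have hES := hE.1.1
  let R : Set G := {e | e ∈ E ∧ e * e ≠ 1 ∧ ∀ f ∈ E, ∀ g ∈ E, f * f = e * e → g * g = e * e → f * g = g * f}
  have hRX : ∀ e ∈ R, q.pr e ∈ q.a.X := by
    rintro e ⟨he, -, hR⟩
    by_contra hX
    have h1 : q.pr e * q.pr e = 1 := (h.off_sq hES he hX).trans hu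
    have hsq : e * e = q.pr' e * q.pr' e := by
      conv_lhs => rw [← q.split (P.mul_mem (hES he) (hES he)), q.pr_sq (hES he), h1, one_mul, q.pr'_sq (hES he)]
    have hwD := q.pr'_mem (hES he)
    have hw := hB hwD
    have hac : q.a.Off (u * q.a.c) := q.a.off_mul_rot h.off q.a.c_mem_X
    have hac2 : u * q.a.c * (u * q.a.c) = 1 := by
      have := h.off_sq hES (mul_mem huE h.c_mem) (by rw [q.pr_of_mem hac.1]; exact hac.2)
      rwa [q.pr_of_mem hac.1, hu] at this
    have root : ∀ r, q.a.Off r → r * r = 1 → r * q.pr' e * (r * q.pr' e) = e * e := by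
      intro r hr hr2
      rw [hsq]
      calc r * q.pr' e * (r * q.pr' e) = r * (q.pr' e * r) * q.pr' e := by group
        _ = r * r * (q.pr' e * q.pr' e) := by rw [← q.comm_ab hr.1 hwD]; group
        _ = q.pr' e * q.pr' e := by rw [hr2, one_mul]
    have := q.pr_commute (hES (mul_mem huE hw)) (hES (mul_mem (mul_mem huE h.c_mem) hw))
      (hR _ (mul_mem huE hw) _ (mul_mem (mul_mem huE h.c_mem) hw) (root u h.off hu) (root _ hac hac2))
    rw [q.pr_eq h.off.1 hwD, q.pr_eq hac.1 hwD, mul_assoc u q.a.c u] at this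
    have e1 : q.a.c * u = u * q.a.c := (mul_left_cancel this).symm
    exact q.a.z_ne_one (by rw [← q.a.c_conj h.off, e1, mul_inv_cancel_right, mul_inv_cancel])
  let M : Subgroup G := E ⊓ centralizer R
  have hM : Inv E M := by
    refine Inv.of_iff inf_le_left (fun m => ∀ e ∈ R, e * m = m * e)
      (fun m hm => ⟨fun hh => mem_centralizer_iff.mp hh.2, fun hh => ⟨hm, mem_centralizer_iff.mpr hh⟩⟩)
      fun g hg m _ hh e he => ?_
    have hR' : g⁻¹ * e * g ∈ R := by
      obtain ⟨heE, hne, hR⟩ := he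
      refine ⟨(mem_normalizer_iff''.mp hg e).mp heE, fun e1 => hne ?_, fun f hf k hk hf2 hk2 => ?_⟩
      · rw [show e * e = g * (g⁻¹ * e * g * (g⁻¹ * e * g)) * g⁻¹ by group, e1, mul_one, mul_inv_cancel]
      · have := hR _ ((mem_normalizer_iff.mp hg f).mp hf) _ ((mem_normalizer_iff.mp hg k).mp hk)
          (by rw [show g * f * g⁻¹ * (g * f * g⁻¹) = g * (f * f) * g⁻¹ by group, hf2]; group)
          (by rw [show g * k * g⁻¹ * (g * k * g⁻¹) = g * (k * k) * g⁻¹ by group, hk2]; group)
        exact (MulAut.conj g).injective (by simpa [mul_assoc] using this)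
    have h1 := congrArg (MulAut.conj g) (hh _ hR')
    simp only [MulAut.conj_apply] at h1
    calc e * (g * m * g⁻¹) = g * (g⁻¹ * e * g * m) * g⁻¹ := by group
      _ = g * (m * (g⁻¹ * e * g)) * g⁻¹ := h1
      _ = g * m * g⁻¹ * e := by group
  have hca := q.a.X_le q.a.c_mem_X
  have hkey : q.a.c * q.core ∈ R := by
    have hc := q.core_mem
    have hsq : q.a.c * q.core * (q.a.c * q.core) = q.a.z * (q.core * q.core) := by
      calc q.a.c * q.core * (q.a.c * q.core) = q.a.c * (q.core * q.a.c) * q.core := by group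
        _ = q.a.c * q.a.c * (q.core * q.core) := by rw [← q.comm_ab hca hc]; group
        _ = q.a.z * (q.core * q.core) := by rw [q.a.c_mul_c]
    have hcc := mul_mem hc hc
    have hza := q.a.X_le q.a.z_mem_X
    refine ⟨mul_mem h.c_mem (hB hc), fun e => q.a.z_ne_one ?_, fun f hf k hk hf2 hk2 => ?_⟩
    · rw [hsq] at e; rw [← q.pr_eq hza hcc, e, q.pr_one]
    · rw [hsq] at hf2 hk2
      have rot : ∀ g ∈ E, g * g = q.a.z * (q.core * q.core) → q.pr g ∈ q.a.X ∧ q.pr' g * q.pr' g = q.core * q.core := by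
        intro g hg hg2
        refine ⟨?_, by rw [← q.pr'_sq (hES hg), hg2, q.pr'_eq hza hcc]⟩
        by_contra hX
        refine q.a.z_ne_one ?_
        rw [← q.pr_eq hza hcc, ← hg2, q.pr_sq (hES hg), h.off_sq hES hg hX, hu]
      exact q.commute_of (hES hf) (hES hk) (q.a.rot_comm (rot f hf hf2).1 (rot k hk hk2).1)
        (q.core_roots _ (q.pr'_mem (hES hf)) _ (q.pr'_mem (hES hk)) (rot f hf hf2).2 (rot k hk hk2).2)
  have hcM : q.a.c ∈ M := ⟨h.c_mem, mem_centralizer_iff.mpr fun e he =>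
    ((q.commute_iff_pr hca (hES he.1)).mpr (q.a.rot_comm q.a.c_mem_X (hRX e he))).symm⟩
  refine h.rt_notMem hES (mem_of_step hE hM (h.rt_norm hES)
    (fun e he => zpowers_le.mpr hcM (h.rt_comm hES he)) fun m hm => h.rt_fix hES hm.1 ?_)
  refine q.a.c_comm_mem (q.pr_mem (hES hm.1)) ?_
  have := q.pr_commute (hES (mul_mem h.c_mem (hB q.core_mem))) (hES hm.1) (mem_centralizer_iff.mp hm.2 _ hkey)
  rwa [q.pr_eq hca q.core_mem] at this

end CfsgLib.SDMixed
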