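import Cfsg.Agent.Lib.SDMixed.DihCtx
import Cfsg.Agent.Lib.AfterFT.DihedralSquare.Build

/-!
The dihedral complement through the movers, the other side being semidihedral.
-/

set_option autoImplicit false
set_option linter.unusedSectionVars false

namespace CfsgLib.AfterFT.DihedralSquare

open Cfsg Cfsg.FusionSystem Subgroup
open scoped commutatorElement

universe u
variable {G : Type u} [Group G] [Finite G] {P : Sylow 2 G}

/-- The steps of the essential subgroups not containing the other factor change projections by the centre. -/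
def OtherStep (fr : Frame (P : Subgroup G)) : Prop :=
  ∀ E, (groupFusionSystem (P : Subgroup G)).IsEssential 2 E → ¬ fr.Q ≤ E →
    ∀ g (hg : g ∈ normalizer (E : Set G)), conjAut hg ∈ extendableAut (groupFusionSystem (P : Subgroup G)) E ∨
      ∃ d, ∃ hd : d ∈ normalizer (E : Set G), conjAut hd ∈ extendableAut (groupFusionSystem (P : Subgroup G)) E ∧
        ∀ a ∈ E, (fr.pr a)⁻¹ * fr.pr ((g * d⁻¹) * a * (g * d⁻¹)⁻¹) ∈ fr.centreD

namespace Frame

variable (fr : Frame (P : Subgroup G))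

/-- Without an index two normal subgroup every class of reflections contains a mover. -/
theorem exists_mover' (hres : Cfsg.pResidual 2 G = ⊤) (hodd : fr.OddFix) (hother : OtherStep fr) {t : G}
    (ht : fr.IsRefl t) : ∃ w ∈ fr.Movers, t * fr.pr w ∈ zpowers (fr.r ^ 2) := by
  haveI : Fact (Nat.Prime 2) := ⟨Nat.prime_two⟩
  by_contra hcon
  push Not at hcon
  have ht' := fr.isRefl_mul (mem_zpowers fr.r) ht
  set N := fr.reflMax ht'
  have hzN := fr.sq_mem_reflMax ht' fr.z_mem_sq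
  let Rel : G → G → Prop := fun a b => (fr.pr a)⁻¹ * fr.pr b ∈ N
  have hsymm : ∀ {a b}, Rel a b → Rel b a := fun {a b} h => by
    have := inv_mem h
    rwa [mul_inv_rev, inv_inv] at this
  have htrans : ∀ {a b c}, Rel a b → Rel b c → Rel a c := fun {a b c} h h' => by
    have := mul_mem h h'
    rwa [mul_assoc, mul_inv_cancel_left] at this
  have hinner : ∀ s ∈ (P : Subgroup G), ∀ a ∈ (P : Subgroup G), Rel a (s * a * s⁻¹) := fun s hs a ha => by
    show (fr.pr a)⁻¹ * fr.pr (s * a * s⁻¹) ∈ N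
    rw [fr.pr_conj hs ha]
    have := fr.sq_mem_reflMax ht' (fr.commutator_mem (inv_mem (fr.pr_mem ha)) (fr.pr_mem hs))
    rw [inv_inv] at this
    rwa [← mul_assoc, ← mul_assoc]
  have hC : ∀ c, c ∈ fr.centreD → c ∈ N := fun c hc => zpowers_le.mpr hzN hc
  have hsmall : ∀ {d}, d ∈ fr.D → (¬ fr.IsRefl d → d * d = 1 → d ∈ N) := fun {d} hd hn h => by
    have hr : d ∈ zpowers fr.r := by
      by_contra hr
      exact hn ⟨hd, hr⟩
    rcases fr.eq_z_of_sq hr h with rfl | rfl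
    exacts [one_mem _, hzN]
  have hstep : ∀ {fr0 : Frame (P : Subgroup G)} {E : Subgroup G} {t0 : G} (h : Typical fr0 E t0),
      (∀ g ∈ normalizer (E : Set G), fr0.IsRefl (fr0.pr (MulAut.conj g fr0.z)) →
        fr.pr (MulAut.conj g fr0.z) ∈ N) →
      ∀ g (hg : g ∈ normalizer (E : Set G)),
        conjAut hg ∈ extendableAut (groupFusionSystem (P : Subgroup G)) E ∨
        ∃ d, ∃ hd : d ∈ normalizer (E : Set G),
          conjAut hd ∈ extendableAut (groupFusionSystem (P : Subgroup G)) E ∧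
          ∀ a ∈ E, Rel a ((g * d⁻¹) * a * (g * d⁻¹)⁻¹) := by
    intro fr0 E t0 h hw g hg
    refine h.alperin_step Rel hsymm htrans hinner (fun g hg hr _ a ha => ?_) g hg
    show (fr.pr a)⁻¹ * fr.pr (MulAut.conj (g * fr0.x * g⁻¹) a) ∈ N
    rcases h.trans_conj hg a ha with e | e <;> rw [e]
    · rw [inv_mul_cancel]; exact one_mem _
    · rw [fr.pr_mul (h.le ha) (h.le (omegaZ_conj hg h.z_mem_U).1), inv_mul_cancel_left]
      exact hw g hg hr
  have key : ∀ a ∈ (P : Subgroup G), ∀ g : G, g * a * g⁻¹ ∈ (P : Subgroup G) → Rel a (g * a * g⁻¹) := by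
    intro a ha g hga
    refine rel_of_alperin Rel hsymm htrans hinner
      (fun g hg a ha => rel_normalizer (Rel := Rel) htrans hinner (fun g hg ho a ha => hC _ (hodd g hg ho a ha)) hg ha)
      (fun E hE => ?_) ha hga
    by_cases hQ : fr.Q ≤ E
    · obtain ⟨t0, h⟩ := fr.typical_of_Q_le hE hQ
      refine hstep h fun g hg hr => ?_
      have hn := hcon _ (fr.mem_movers h hg hr)
      set v := fr.pr (MulAut.conj g fr.z)
      obtain ⟨m, hm⟩ := mem_zpowers_iff.mp (fr.refl_mul_refl ht hr)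
      rcases Int.even_or_odd m with ⟨q, hq⟩ | ⟨q, hq⟩
      · refine absurd (mem_zpowers_iff.mpr ⟨q, ?_⟩) hn
        rw [← hm, hq, ← zpow_natCast, ← zpow_mul]
        congr 1
        push_cast
        ring
      · refine mem_dihSub.mpr (Or.inr (mem_zpowers_iff.mpr ⟨q, ?_⟩))
        have h1 := fr.refl_conj ht (mem_zpowers fr.r)
        rw [fr.refl_inv ht] at h1
        have e : t * fr.r * v = fr.r⁻¹ * (t * v) := by
          rw [← h1, mul_assoc (t * fr.r) t, ← mul_assoc t t, fr.refl_sq ht, one_mul]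
        rw [e, ← hm, hq, ← zpow_natCast, ← zpow_mul, zpow_add, zpow_one]
        push_cast
        group
    · intro g hg
      rcases hother E hE hQ g hg with h1 | ⟨d, hd, h1, h2⟩
      exacts [Or.inl h1, Or.inr ⟨d, hd, h1, fun a ha => hC _ (h2 a ha)⟩]
  have hfoc := CfsgLib.Transfer.focalSubgroup_eq_of_pResidual_eq_top P hres
  rw [Subgroup.focalSubgroup_def] at hfoc
  let φ : (P : Subgroup G) →* G := MonoidHom.mk' (fun a => fr.pr a) fun a b => fr.pr_mul a.2 b.2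
  have hle : (P : Subgroup G) ≤ (N.comap φ).map (P : Subgroup G).subtype := by
    conv_lhs => rw [← hfoc]
    rw [closure_le]
    rintro y ⟨hy, x, hx, u, rfl⟩
    have e : ⁅x, u⁆ = x * (u * x⁻¹ * u⁻¹) := by rw [commutatorElement_def]; group
    have hu : u * x⁻¹ * u⁻¹ ∈ (P : Subgroup G) := by
      have := mul_mem (inv_mem hx) hy
      rwa [e, inv_mul_cancel_left] at this
    refine ⟨⟨⁅x, u⁆, hy⟩, ?_, rfl⟩
    show fr.pr ⁅x, u⁆ ∈ N
    have h := key x⁻¹ (inv_mem hx) u hu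
    simp only [Rel, fr.pr_inv hx, inv_inv] at h
    rwa [e, fr.pr_mul hx hu]
  obtain ⟨a, ha, hae⟩ := hle (fr.D_le fr.r_mem)
  have : fr.pr (a : G) ∈ N := ha
  rw [show (a : G) = fr.r from hae, fr.pr_of_mem_D fr.r_mem] at this
  exact fr.r_notMem_reflMax ht' this

/-- The complement through the movers. -/
theorem exists_straight' (hres : Cfsg.pResidual 2 G = ⊤) (hodd : fr.OddFix) (hother : OtherStep fr) :
    ∃ fr' : Frame (P : Subgroup G), fr'.Q = fr.Q ∧ fr'.z = fr.z ∧ fr'.rotQ = fr.rotQ ∧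
      fr.Movers ⊆ fr'.D ∧ fr'.D ≤ closure fr.Movers := by
  obtain ⟨w₀, hw₀, h₀⟩ := fr.exists_mover' hres hodd hother fr.isRefl_s
  obtain ⟨w₁, hw₁, h₁⟩ := fr.exists_mover' hres hodd hother (fr.isRefl_mul (mem_zpowers fr.r) fr.isRefl_s)
  obtain ⟨hS₀, hsq₀, hr₀, hq₀⟩ := fr.mover_props hw₀
  obtain ⟨hS₁, hsq₁, hr₁, hq₁⟩ := fr.mover_props hw₁
  have hi₀ : w₀⁻¹ = w₀ := inv_eq_of_mul_eq_one_left hsq₀
  have hi₁ : w₁⁻¹ = w₁ := inv_eq_of_mul_eq_one_left hsq₁
  set r' := w₀ * w₁ with hr'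
  have hrS : r' ∈ (P : Subgroup G) := P.mul_mem hS₀ hS₁
  obtain ⟨i, hi⟩ := mem_zpowers_iff.mp h₀
  obtain ⟨i', hi'⟩ := mem_zpowers_iff.mp h₁
  have hs : fr.s⁻¹ = fr.s := inv_eq_of_mul_eq_one_left fr.s_sq
  obtain ⟨j, hj, hjr⟩ : ∃ j : ℤ, Odd j ∧ fr.pr r' = fr.r ^ j := by
    have e : fr.pr r' = (fr.pr w₀)⁻¹ * fr.pr w₁ := by rw [fr.refl_inv hr₀, hr', fr.pr_mul hS₀ hS₁]
    have e0 : fr.pr w₀ = fr.s * (fr.r ^ 2) ^ i := by rw [hi, ← mul_assoc, fr.s_sq, one_mul]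
    have e1 : fr.pr w₁ = fr.s * fr.r * (fr.r ^ 2) ^ i' := by
      rw [hi', ← mul_assoc, fr.refl_sq (fr.isRefl_mul (mem_zpowers _) fr.isRefl_s), one_mul]
    refine ⟨-(2 * i) + 1 + 2 * i', ⟨i' - i, by ring⟩, ?_⟩
    rw [e, e0, e1, ← zpow_natCast fr.r 2, ← zpow_mul, ← zpow_mul, zpow_add, zpow_add, zpow_one, zpow_neg]
    push_cast
    group
  set a := (fr.pr r')⁻¹ * r' with ha
  have haQ : a ∈ fr.Q := (fr.pr_spec hrS).2
  have hr'q : ∀ q ∈ fr.Q, r' * q = q * r' := fun q hq => by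
    rw [hr', mul_assoc, hq₁ q hq, ← mul_assoc, hq₀ q hq, mul_assoc]
  have ha2 : a * a = 1 := by
    have hsq : ∀ {w}, w ∈ fr.Movers → ((fr.pr w)⁻¹ * w) * ((fr.pr w)⁻¹ * w) = 1 := fun {w} hw => by
      obtain ⟨hS, hsq, hr, hq⟩ := fr.mover_props hw
      have hq' := hq _ (fr.pr_spec hS).2
      have hc : Commute (fr.pr w) ((fr.pr w)⁻¹ * w) := fr.commute_DQ (fr.pr_mem hS) (fr.pr_spec hS).2
      have := hc.mul_pow 2
      rw [mul_inv_cancel_left, pow_two, pow_two, pow_two, hsq, fr.refl_sq hr, one_mul] at this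
      exact this.symm
    have e : a = ((fr.pr w₀)⁻¹ * w₀) * ((fr.pr w₁)⁻¹ * w₁) := by
      have hc := fr.commute_DQ (fr.D.inv_mem (fr.pr_mem hS₁)) (fr.pr_spec hS₀).2
      rw [ha, hr', fr.pr_mul hS₀ hS₁, ← mul_assoc, ← mul_assoc, mul_assoc ((fr.pr w₀)⁻¹ * w₀), ]
      rw [← mul_assoc ((fr.pr w₀)⁻¹ * w₀), ← hc]
      group
    have hcq : Commute ((fr.pr w₀)⁻¹ * w₀) ((fr.pr w₁)⁻¹ * w₁) := by
      have h := hq₀ _ (fr.pr_spec hS₁).2
      have h2 : (fr.pr w₀)⁻¹ * ((fr.pr w₁)⁻¹ * w₁) = (fr.pr w₁)⁻¹ * w₁ * (fr.pr w₀)⁻¹ :=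
        fr.commute_DQ (fr.D.inv_mem (fr.pr_mem hS₀)) (fr.pr_spec hS₁).2
      exact (Commute.mul_left h2 h)
    rw [e, ← pow_two, hcq.mul_pow, pow_two, pow_two, hsq hw₀, hsq hw₁, one_mul]
  have hra : r' = fr.r ^ j * a := by rw [ha, hjr, mul_inv_cancel_left]
  have hca : Commute (fr.r ^ j) a := fr.commute_DQ (fr.rot_mem (zpow_mem (mem_zpowers _) j)) haQ
  have hinv : w₀ * r' * w₀⁻¹ = r'⁻¹ := by
    rw [hr', mul_inv_rev, hi₀, hi₁, ← mul_assoc, hsq₀, one_mul]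
  have hpow : ∀ k : ℤ, fr.pr (r' ^ k) = fr.r ^ (j * k) := by
    intro k
    rw [hra, hca.mul_zpow, ← zpow_mul, fr.pr_eq (fr.rot_mem (zpow_mem (mem_zpowers _) _)) (zpow_mem haQ k)]
  have heven : ∀ n : ℕ, r' ^ (2 * n) = fr.r ^ (j * (2 * n : ℕ)) := fun n => by
    rw [hra, hca.mul_pow, show a ^ (2 * n) = 1 by rw [pow_mul, pow_two, ha2, one_pow], mul_one, ← zpow_natCast,
      ← zpow_mul]
  have hord : orderOf r' = 4 * fr.l := by
    refine Nat.dvd_antisymm (orderOf_dvd_of_pow_eq_one ?_) ?_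
    · rw [show 4 * fr.l = 2 * (2 * fr.l) by ring, heven, ← orderOf_dvd_iff_zpow_eq_one, fr.order_r]
      exact ⟨j, by push_cast; ring⟩
    · have h := hpow (orderOf r' : ℤ)
      rw [zpow_natCast, pow_orderOf_eq_one, fr.pr_one, eq_comm, ← orderOf_dvd_iff_zpow_eq_one, fr.order_r] at h
      obtain ⟨k, hk⟩ := fr.l_two_pow
      have hh : 4 * fr.l = 2 ^ (k + 1) := by rw [pow_succ]; omega
      rw [hh] at h ⊢
      obtain ⟨c, rfl⟩ := hj
      have hcop : IsCoprime (((2 ^ (k + 1) : ℕ)) : ℤ) (2 * c + 1) := by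
        push_cast
        exact IsCoprime.pow_left ⟨-c, 1, by ring⟩
      exact Int.natCast_dvd_natCast.mp (hcop.dvd_of_dvd_mul_left h)
  have hzeq : r' ^ (2 * fr.l) = fr.z := by
    rw [heven, z, ← zpow_natCast]
    obtain ⟨c, rfl⟩ := hj
    have : fr.r ^ ((4 * fr.l : ℕ) : ℤ) = 1 := by rw [zpow_natCast, ← fr.order_r, pow_orderOf_eq_one]
    rw [show (2 * c + 1) * ((2 * fr.l : ℕ) : ℤ) = ((4 * fr.l : ℕ) : ℤ) * c + ((2 * fr.l : ℕ) : ℤ) by push_cast; ring,
      zpow_add, zpow_mul, this, one_zpow, one_mul]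
  have hw0n : w₀ ∉ zpowers r' := fun h => by
    obtain ⟨k, hk⟩ := mem_zpowers_iff.mp h
    exact hr₀.2 (by rw [← hk, hpow]; exact zpow_mem (mem_zpowers _) _)
  set D' := dihSub r' w₀ hsq₀ hinv with hD'
  have hr'D : r' ∈ D' := mem_dihSub.mpr (Or.inl (mem_zpowers _))
  have hw0D : w₀ ∈ D' := mem_dihSub.mpr (Or.inr (by rw [hsq₀]; exact one_mem _))
  have hD'mem : ∀ d ∈ D', ∃ k : ℤ, d = r' ^ k ∨ d = w₀ * r' ^ k := fun d hd => by
    rcases mem_dihSub.mp hd with h | h <;> obtain ⟨k, hk⟩ := mem_zpowers_iff.mp h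
    · exact ⟨k, Or.inl hk.symm⟩
    · exact ⟨k, Or.inr (by rw [hk, ← mul_assoc, hsq₀, one_mul])⟩
  have hD'S : D' ≤ (P : Subgroup G) := fun d hd => by
    obtain ⟨k, rfl | rfl⟩ := hD'mem d hd
    exacts [zpow_mem hrS k, P.mul_mem hS₀ (zpow_mem hrS k)]
  have hD'c : ∀ d ∈ D', ∀ q ∈ fr.Q, d * q = q * d := fun d hd q hq => by
    have h1 : ∀ k : ℤ, Commute (r' ^ k) q := fun k => (show Commute r' q from hr'q q hq).zpow_left k
    obtain ⟨k, rfl | rfl⟩ := hD'mem d hd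
    exacts [(h1 k).eq, ((show Commute w₀ q from hq₀ q hq).mul_left (h1 k)).eq]
  have hD'i : D' ⊓ fr.Q = ⊥ := by
    rw [eq_bot_iff]
    rintro d ⟨hd, hq⟩
    have hp := fr.pr_of_mem_Q hq
    obtain ⟨k, rfl | rfl⟩ := hD'mem d hd
    · rw [hpow, ← orderOf_dvd_iff_zpow_eq_one, fr.order_r] at hp
      obtain ⟨m, hm⟩ := fr.l_two_pow
      have hh : 4 * fr.l = 2 ^ (m + 1) := by rw [pow_succ]; omega
      rw [mem_bot, ← orderOf_dvd_iff_zpow_eq_one, hord, hh]
      rw [hh] at hp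
      obtain ⟨c, rfl⟩ := hj
      have hcop : IsCoprime (((2 ^ (m + 1) : ℕ)) : ℤ) (2 * c + 1) := by
        push_cast
        exact IsCoprime.pow_left ⟨-c, 1, by ring⟩
      exact hcop.dvd_of_dvd_mul_left hp
    · rw [fr.pr_mul hS₀ (zpow_mem hrS k), hpow] at hp
      exact absurd hp (fr.refl_ne (fr.isRefl_mul (zpow_mem (mem_zpowers _) _) hr₀)).1
  have hrD : fr.r ∈ D' ⊔ fr.Q := by
    obtain ⟨c, hc⟩ := mem_zpowers_iff.mp (fr.odd_zpow_gen hj)
    rw [← hc, show fr.r ^ j = r' * a⁻¹ by rw [hra, mul_inv_cancel_right]]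
    exact zpow_mem (mul_mem (mem_sup_left hr'D) (mem_sup_right (inv_mem haQ))) c
  have hsup : D' ⊔ fr.Q = (P : Subgroup G) := by
    refine le_antisymm (sup_le hD'S fr.Q_le) ?_
    refine fr.prod.2.2.2.2.symm.le.trans (sup_le (fun d hd => ?_) le_sup_right)
    have hrot : ∀ c ∈ zpowers fr.r, c ∈ D' ⊔ fr.Q := fun c hc => zpowers_le.mpr hrD hc
    by_cases hr : d ∈ zpowers fr.r
    · exact hrot d hr
    · have h1 := fr.refl_mul_refl hr₀ ⟨hd, hr⟩
      have h2 : d = (w₀ * ((fr.pr w₀)⁻¹ * w₀)⁻¹) * (fr.pr w₀ * d) := by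
        have e := fr.commute_DQ (fr.pr_mem hS₀) (inv_mem (fr.pr_spec hS₀).2)
        calc d = fr.pr w₀ * (fr.pr w₀ * d) := by rw [← mul_assoc, fr.refl_sq hr₀, one_mul]
          _ = _ := by rw [show w₀ * ((fr.pr w₀)⁻¹ * w₀)⁻¹ = fr.pr w₀ by group]
      rw [h2]
      exact mul_mem (mul_mem (mem_sup_left hw0D) (mem_sup_right (inv_mem (fr.pr_spec hS₀).2))) (hrot _ h1)
  let fr' : Frame (P : Subgroup G) :=
    { D := D', Q := fr.Q, r := r', s := w₀, l := fr.l, prod := ⟨hD'S, fr.Q_le, hD'c, hD'i, hsup⟩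
      l_pos := fr.l_pos, order_r := hord, s_sq := hsq₀, conj_r := hinv, s_notMem := hw0n
      mem_iff := fun d => mem_dihSub }
  refine ⟨fr', rfl, hzeq, ?_, ?_, ?_⟩
  · show zpowers r' ⊔ fr.Q = zpowers fr.r ⊔ fr.Q
    refine le_antisymm (sup_le (zpowers_le.mpr ?_) le_sup_right) (sup_le (zpowers_le.mpr ?_) le_sup_right)
    · rw [hra]; exact mul_mem (mem_sup_left (zpow_mem (mem_zpowers _) _)) (mem_sup_right haQ)
    · obtain ⟨c, hc⟩ := mem_zpowers_iff.mp (fr.odd_zpow_gen hj)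
      rw [← hc, show fr.r ^ j = r' * a⁻¹ by rw [hra, mul_inv_cancel_right]]
      exact zpow_mem (mul_mem (mem_sup_left (mem_zpowers _)) (mem_sup_right (inv_mem haQ))) c
  · -- every mover lies in the new complement
    intro w hw
    show w ∈ fr'.D
    obtain ⟨E, t, g, h, hg, rfl, hr, hU⟩ := fr.movers_spec hw
    obtain ⟨wc, hwcD, hd⟩ : ∃ wc ∈ fr'.D, wc ∈ fr.Movers ∧
        ∃ k : ℤ, fr.r ^ k * fr.pr wc * (fr.r ^ k)⁻¹ = fr.pr (MulAut.conj g fr.z) := by
      obtain ⟨k, hk⟩ := fr.exists_of_isRefl hr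
      have hcj : ∀ (m k' : ℤ), fr.r ^ k' * (fr.s * fr.r ^ m) * (fr.r ^ k')⁻¹ = fr.s * fr.r ^ (m - 2 * k') := by
        intro m k'
        have h3 := fr.s_conj_rot k'
        rw [hs] at h3
        have : fr.r ^ k' * fr.s = fr.s * fr.r ^ (-k') := by
          rw [← h3, ← mul_assoc, ← mul_assoc, fr.s_sq, one_mul]
        rw [← mul_assoc, this, mul_assoc, mul_assoc fr.s, ← mul_assoc (fr.r ^ (-k')), ← zpow_add, ← zpow_neg,
          ← zpow_add]
        congr 2
        ring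
      rcases Int.even_or_odd k with ⟨q, hq⟩ | ⟨q, hq⟩
      · refine ⟨w₀, hw0D, hw₀, i - q, ?_⟩
        have e0 : fr.pr w₀ = fr.s * fr.r ^ (2 * i) := by
          rw [zpow_mul, zpow_two, ← pow_two, hi, ← mul_assoc, fr.s_sq, one_mul]
        rw [e0, hcj, hk, hq]; congr 2; ring
      · refine ⟨w₁, ?_, hw₁, i' - q, ?_⟩
        · have : w₁ = w₀ * r' := by rw [hr', ← mul_assoc, hsq₀, one_mul]
          rw [this]; exact D'.mul_mem hw0D hr'D
        have e1 : fr.pr w₁ = fr.s * fr.r ^ (1 + 2 * i') := by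
          rw [zpow_add, zpow_one, zpow_mul, zpow_two, ← pow_two, hi', ← mul_assoc fr.s,
            ← mul_assoc, fr.refl_sq (fr.isRefl_mul (mem_zpowers _) fr.isRefl_s), one_mul]
        rw [e1, hcj, hk, hq]; congr 2; ring
    obtain ⟨hwc, k, hk⟩ := hd
    obtain ⟨Ec, tc, gc, hc, hgc, rfl, hrc, hUc⟩ := fr.movers_spec hwc
    set d := fr.r ^ k with hd'
    have hdD : d ∈ fr.D := fr.rot_mem (zpow_mem (mem_zpowers _) k)
    have hdS := fr.D_le hdD
    have hE : ∀ a, a ∈ Ec ↔ d * a * d⁻¹ ∈ E := by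
      intro a
      rw [hc.mem, h.mem]
      have hcongr : ∀ {t0 u v : G}, fr.IsRefl t0 → (u = t0 ∨ u = t0 * fr.z) → (fr.InV t0 v ↔ fr.InV u v) := by
        intro t0 u v ht0 hu
        rcases hu with rfl | rfl
        · rfl
        · simp only [InV, mul_assoc, fr.z_mul_z, mul_one]; tauto
      have eq : ∀ {t0 v : G}, fr.IsRefl t0 → fr.IsRefl v → fr.InV t0 v → v = t0 ∨ v = t0 * fr.z :=
        fun {t0 v} ht0 hv hi => (fr.inV_refl ht0 hi).elim
          (fun e => e.elim (fun e => absurd e (fr.refl_ne hv).1) fun e => absurd e (fr.refl_ne hv).2) And.right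
      have e1 := eq h.refl hr ((h.mem _).mp hU.1).2
      have e2 := eq hc.refl hrc ((hc.mem _).mp hUc.1).2
      set v := fr.pr (MulAut.conj gc fr.z) with hv
      have hmap : ∀ b, fr.InV v b ↔ fr.InV (d * v * d⁻¹) (d * b * d⁻¹) := by
        intro b
        have hz : d * fr.z * d⁻¹ = fr.z := by rw [fr.z_comm_D hdD, mul_inv_cancel_right]
        have hvz : d * v * d⁻¹ * fr.z = d * (v * fr.z) * d⁻¹ := by
          conv_lhs => rw [← hz]
          group
        unfold InV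
        rw [hvz]
        conv_rhs => rw [conj_eq_one_iff]
        conv_rhs => enter [2, 1, 2]; rw [← hz]
        simp only [mul_left_inj, mul_right_inj]
      have haS : a ∈ (P : Subgroup G) ↔ d * a * d⁻¹ ∈ (P : Subgroup G) :=
        ⟨fun ha => P.mul_mem (P.mul_mem hdS ha) (P.inv_mem hdS), fun ha => by
          simpa [mul_assoc] using P.mul_mem (P.mul_mem (P.inv_mem hdS) ha) hdS⟩
      constructor <;> rintro ⟨ha, hi⟩
      · refine ⟨haS.mp ha, ?_⟩
        rw [hcongr h.refl e1, fr.pr_conj hdS ha, fr.pr_of_mem_D hdD, ← hk, ← hmap, ← hcongr hc.refl e2]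
        exact hi
      · refine ⟨haS.mpr ha, ?_⟩
        rw [hcongr h.refl e1, fr.pr_conj hdS (haS.mpr ha), fr.pr_of_mem_D hdD, ← hk, ← hmap,
          ← hcongr hc.refl e2] at hi
        exact hi
    have hg' : d * gc * d⁻¹ ∈ normalizer (E : Set G) := by
      refine mem_normalizer_fintype fun b hb => ?_
      have h1 : d⁻¹ * b * d ∈ Ec := (hE _).mpr (by simpa [mul_assoc] using hb)
      have h2 := (hE _).mp ((mem_normalizer_iff.mp hgc _).mp h1)
      simpa [mul_assoc] using h2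
    have hw' : MulAut.conj (d * gc * d⁻¹) fr.z = d * MulAut.conj gc fr.z * d⁻¹ := by
      simp only [MulAut.conj_apply]
      have : d⁻¹ * fr.z * d = fr.z := by rw [mul_assoc, ← fr.z_comm_D hdD, inv_mul_cancel_left]
      calc d * gc * d⁻¹ * fr.z * (d * gc * d⁻¹)⁻¹ = d * (gc * (d⁻¹ * fr.z * d) * gc⁻¹) * d⁻¹ := by group
        _ = _ := by rw [this]
    have hcS := hc.le hUc.1
    have hr2 : fr.IsRefl (fr.pr (MulAut.conj (d * gc * d⁻¹) fr.z)) := by
      rw [hw', fr.pr_conj hdS hcS, fr.pr_of_mem_D hdD, hk]; exact hr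
    have hin : MulAut.conj (d * gc * d⁻¹) fr.z ∈ fr'.D := by
      rw [hw']; exact fr'.conj_mem_D hdS hwcD
    rcases h.centre_unique hg' hg hr2 hr with e | e <;> rw [e]
    · exact hin
    · exact mul_mem (hzeq ▸ fr'.z_mem) hin
  · show D' ≤ closure fr.Movers
    intro d hd
    have h0 : w₀ ∈ closure fr.Movers := subset_closure hw₀
    have hr0 : r' ∈ closure fr.Movers := mul_mem h0 (subset_closure hw₁)
    obtain ⟨k, rfl | rfl⟩ := hD'mem d hd
    exacts [zpow_mem hr0 k, mul_mem h0 (zpow_mem hr0 k)]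


end Frame

end CfsgLib.AfterFT.DihedralSquare

namespace CfsgLib.SDMixed

open Cfsg Cfsg.FusionSystem Subgroup CfsgLib.AfterFT.DihedralSquare CfsgLib.SDSquare

universe u
variable {G : Type u} [Group G] [Finite G] {P : Sylow 2 G} (fr : Frame (P : Subgroup G)) (a : SDGen G) (hQ : fr.Q = a.D)

include hQ in
theorem dih_oddFix : fr.OddFix := fun g hg ho b hb => by
  rw [MulAut.conj_apply, odd_central fr a hQ hg ho hb, inv_mul_cancel]
  exact one_mem _

include hQ in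
theorem dih_otherStep : OtherStep fr := by
  intro E hE hq g hg
  have key : ∀ {d}, d ∈ normalizer (E : Set G) → (∀ e ∈ E, ((dihHalf fr a hQ).pr' e)⁻¹ *
      (dihHalf fr a hQ).pr' ((g * d⁻¹) * e * (g * d⁻¹)⁻¹) ∈ fr.centreD) → ∀ e ∈ E,
      (fr.pr e)⁻¹ * fr.pr ((g * d⁻¹) * e * (g * d⁻¹)⁻¹) ∈ fr.centreD := by
    intro d hd h e he
    have heP := hE.1.1 he
    have he' := hE.1.1 ((mem_normalizer_iff.mp (mul_mem hg (inv_mem hd)) e).mp he)
    rw [← dihHalf_pr' fr a hQ heP, ← dihHalf_pr' fr a hQ he']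
    exact h e he
  rcases classify fr a hQ hE with ⟨u, h | h⟩ | ⟨t, h⟩
  · rcases h.step hg with h1 | ⟨d, hd, h1, h2⟩
    exacts [Or.inl h1, Or.inr ⟨d, hd, h1, key hd h2⟩]
  · rcases h.step hg with h1 | ⟨d, hd, h1, h2⟩
    exacts [Or.inl h1, Or.inr ⟨d, hd, h1, key hd h2⟩]
  · exact absurd h.Q_le hq

include hQ in
/-- The complement through the movers. -/
theorem exists_straight (hres : Cfsg.pResidual 2 G = ⊤) : ∃ A : Frame (P : Subgroup G),
    A.Q = a.D ∧ A.Movers ⊆ A.D ∧ A.D ≤ closure A.Movers ∧ Nonempty (A.D ≃* fr.D) := by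
  obtain ⟨A, hAQ, hAz, hArot, hsub, hgen⟩ :=
    fr.exists_straight' hres (dih_oddFix fr a hQ) (dih_otherStep fr a hQ)
  have hmov : A.Movers = fr.Movers := fr.movers_congr (fun E _ => by rw [hAQ]) hAz hArot
  refine ⟨A, hAQ.trans hQ, hmov ▸ hsub, hmov.symm ▸ hgen, ?_⟩
  have hl : A.l = fr.l := by
    have h1 := A.prod
    have e1 : Nat.card A.D = 8 * A.l := by
      rw [Nat.card_congr A.equiv_dihedral.some.toEquiv, DihedralGroup.nat_card]; ring
    have e2 : Nat.card fr.D = 8 * fr.l := by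
      rw [Nat.card_congr fr.equiv_dihedral.some.toEquiv, DihedralGroup.nat_card]; ring
    have hc : Nat.card A.D = Nat.card fr.D := by
      refine Nat.card_congr ?_
      refine Equiv.ofBijective (fun d => ⟨fr.pr d, fr.pr_mem (A.D_le d.2)⟩) ⟨fun x y e => ?_, fun d => ?_⟩
      · have e' : fr.pr (x : G) = fr.pr (y : G) := congrArg Subtype.val e
        have : (x : G)⁻¹ * y ∈ fr.Q := (fr.mem_Q_iff (P.mul_mem (P.inv_mem (A.D_le x.2)) (A.D_le y.2))).mpr (by
          rw [fr.pr_mul (P.inv_mem (A.D_le x.2)) (A.D_le y.2), fr.pr_inv (A.D_le x.2), e', inv_mul_cancel])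
        exact Subtype.ext (inv_mul_eq_one.mp (A.eq_one_of_mem (mul_mem (inv_mem x.2) y.2) (hAQ ▸ this)))
      · have hd := fr.D_le d.2
        obtain ⟨x, hx, y, hy, e⟩ := A.exists_decomp hd
        refine ⟨⟨x, hx⟩, Subtype.ext ?_⟩
        show fr.pr x = d
        rw [← fr.pr_of_mem_D d.2, ← e, fr.pr_mul (A.D_le hx) (A.Q_le hy), fr.pr_of_mem_Q (hAQ.le hy), mul_one]
    omega
  obtain ⟨e1⟩ := A.equiv_dihedral
  obtain ⟨e2⟩ := fr.equiv_dihedral
  rw [hl] at e1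
  exact ⟨e1.trans e2.symm⟩

end CfsgLib.SDMixed
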